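import Mathlib

/-!
# The arithmetic of the order of a group of third Janko type

The number `n` of involutions is `16563 + 1920 (m₀ + ∑ mᵢ)`, a multiple of `9`, of `s = 3 j m₀ + 1 + j`
and of the pairwise coprime numbers `aᵢ = kᵢ mᵢ + 1`, with congruences at their primes.
-/

set_option autoImplicit false

namespace CfsgLib.Invol.JThreeType.Arith

/-- The even divisors of `1920`. -/
def kList : List ℕ :=
  [2, 4, 6, 8, 10, 12, 16, 20, 24, 30, 32, 40, 48, 60, 64, 80, 96, 120, 128, 160, 192, 240, 320, 384, 480, 640,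
    960, 1920]

theorem kList_all :
    ((List.range 1921).all fun k => !(decide (1920 % k = 0) && decide (k % 2 = 0)) || kList.contains k) = true := by
  decide +kernel

theorem mem_kList {k : ℕ} (h2 : 2 ∣ k) (h : k ∣ 1920) : k ∈ kList := by
  have hle : k ≤ 1920 := Nat.le_of_dvd (by norm_num) h
  have := List.all_eq_true.1 kList_all k (List.mem_range.2 (by omega))
  simpa [Nat.mod_eq_zero_of_dvd h, Nat.mod_eq_zero_of_dvd h2] using this

/-- The congruences hold or the number is the right one. -/
def fine (j n s : ℕ) (l : List (ℕ × ℕ)) : Bool :=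
  decide (n = 26163) || (decide (s ≤ 2 ^ 40) && decide ((3 * (1920 * n / (s * (3 * j)) - 1)) ^ 40 % s ≠ 0)) ||
    l.any fun p => decide (p.1 ≤ 2 ^ 40) && decide ((1920 * n / (p.1 * p.2) - 1) ^ 40 % p.1 ≠ 0)

/-- All values up to a monotone bound. -/
def upto (cond g : ℕ → Bool) : ℕ → ℕ → Bool
  | 0, _ => false
  | f + 1, a => !cond a || (g a && upto cond g f (a + 1))

theorem upto_spec {cond g : ℕ → Bool} : ∀ {f a : ℕ}, upto cond g f a = true →
    ∀ b, a ≤ b → (∀ c, a ≤ c → c ≤ b → cond c = true) → g b = true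
  | 0, _, h => by simp [upto] at h
  | f + 1, a, h => fun b hab hc => by
    simp only [upto, hc a le_rfl hab, Bool.not_true, Bool.false_or, Bool.and_eq_true] at h
    rcases eq_or_lt_of_le hab with rfl | hlt
    · exact h.1
    · exact upto_spec h.2 b hlt fun c h1 h2 => hc c (by omega) h2

/-- The last family. -/
def lastOk (j s L P B lo : ℕ) (l : List (ℕ × ℕ)) : Bool :=
  kList.all fun k =>
    (List.range ((((k * B - 1920) / lo + 1920) / (k * (L * P)) + 1) / 2)).all fun i =>
      decide (k * (L * P) * (2 * i + 1) ≤ 1920) ||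
        decide ((k * B - 1920) % (k * (L * P) * (2 * i + 1) - 1920) ≠ 0) ||
        (let a := (k * B - 1920) / (k * (L * P) * (2 * i + 1) - 1920)
         decide (a < lo) || decide ((a - 1) % k ≠ 0) || decide (Nat.gcd a 30 ≠ 1) ||
          decide (Nat.gcd a (L * P) ≠ 1) || fine j (B + 1920 * ((a - 1) / k)) s ((a, k) :: l))

/-- The next family. -/
def go (j s L : ℕ) : ℕ → ℕ → ℕ → ℕ → List (ℕ × ℕ) → Bool
  | 0, _, _, _, _ => false
  | f + 1, P, B, lo, l =>
    lastOk j s L P B lo l && upto (fun a => decide (L * P * a * a ≤ B + 1920 * a))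
      (fun a => decide (Nat.gcd a 30 ≠ 1) || decide (Nat.gcd a (L * P) ≠ 1) || kList.all fun k =>
        decide ((a - 1) % k ≠ 0) || go j s L f (P * a) (B + 1920 * ((a - 1) / k)) (a + 1) ((a, k) :: l))
      400 lo

/-- The case with given `m₀`. -/
def checkS (j m0 : ℕ) : Bool :=
  let s := 3 * j * m0 + 1 + j
  let L := if s % 9 = 0 then s else 3 * s
  let B := 16563 + 1920 * m0
  decide (s % 5 = 0) || ((decide (B % L ≠ 0) || fine j B s []) && go j s L 5 1 B 7 [])

/-- The case of a small product of the families. -/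
def small (j μ C : ℕ) : ℕ → ℕ → ℕ → ℕ → List (ℕ × ℕ) → Bool
  | 0, _, _, _, _ => false
  | f + 1, P, M, lo, l =>
    ((List.range (2 * μ)).all fun q =>
      decide (2 * μ ≤ P * q) || decide (P * q ≤ μ) || decide ((C + 1920 * M) % (P * q - μ) ≠ 0) ||
        (let s := (C + 1920 * M) / (P * q - μ)
         decide (s ≤ 2119) || decide (s % (3 * j) ≠ (1 + j) % (3 * j)) ||
          decide ((C + μ * s + 1920 * M) % 9 ≠ 0) || decide (s % 5 = 0) ||
          (l.any fun p => decide (Nat.gcd p.1 s ≠ 1)) || fine j (C + μ * s + 1920 * M) s l)) &&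
    upto (fun a => decide (P * a < 2 * μ))
      (fun a => decide (Nat.gcd a 30 ≠ 1) || decide (Nat.gcd a P ≠ 1) || kList.all fun k =>
        decide ((a - 1) % k ≠ 0) || small j μ C f (P * a) (M + (a - 1) / k) (a + 1) ((a, k) :: l))
      700 lo

theorem check_eight : ((List.range 89).all fun m => checkS 8 m) = true := by decide +kernel

theorem check_two_a : ((List.range 120).all fun m => checkS 2 m) = true := by decide +kernel

theorem check_two_b : ((List.range 234).all fun m => checkS 2 (120 + m)) = true := by decide +kernel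

theorem small_eight : small 8 80 15843 5 1 0 7 [] = true := by decide +kernel

theorem small_two : small 2 320 15603 5 1 0 7 [] = true := by decide +kernel

/-- A number all of whose primes divide `x` divides a high power of `x`. -/
theorem dvd_pow_of_primes : ∀ {a x e : ℕ}, a ≠ 0 → a ≤ 2 ^ e → (∀ r : ℕ, r.Prime → r ∣ a → r ∣ x) → a ∣ x ^ e
  | a, x, 0, h0, hle, _ => by
    rw [pow_zero] at hle ⊢
    obtain rfl : a = 1 := by omega
    exact dvd_refl 1
  | a, x, e + 1, h0, hle, hp => by
    by_cases h1 : a = 1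
    · subst h1; exact one_dvd _
    obtain ⟨r, hr, b, rfl⟩ := Nat.exists_prime_and_dvd h1
    have hb : b ∣ x ^ e := dvd_pow_of_primes (fun e0 => h0 (by rw [e0, mul_zero])) (by
      have := Nat.mul_le_mul_right b hr.two_le
      rw [pow_succ] at hle
      omega) fun q hq hqb => hp q hq (hqb.trans (dvd_mul_left b r))
    rw [pow_succ']
    exact mul_dvd_mul (hp r hr (dvd_mul_right r b)) hb

variable {ι : Type*}

theorem sum_le_prod [DecidableEq ι] (a : ι → ℕ) : ∀ S : Finset ι, (∀ i ∈ S, 2 ≤ a i) → S.Nonempty →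
    ∑ i ∈ S, a i ≤ ∏ i ∈ S, a i := by
  intro S
  induction S using Finset.induction with
  | empty => intro _ h; exact absurd h Finset.not_nonempty_empty
  | @insert i S hi ih =>
    intro h2 _
    rw [Finset.sum_insert hi, Finset.prod_insert hi]
    rcases S.eq_empty_or_nonempty with rfl | hne
    · simp
    · have h := ih (fun x hx => h2 x (Finset.mem_insert_of_mem hx)) hne
      have h' := h2 i (Finset.mem_insert_self i S)
      obtain ⟨x, hx⟩ := hne
      have hx2 : 2 ≤ ∏ y ∈ S, a y := le_trans (le_trans (h2 x (Finset.mem_insert_of_mem hx))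
        (Finset.single_le_sum (fun y _ => Nat.zero_le _) hx)) h
      nlinarith

theorem mul_sum_le_prod [DecidableEq ι] {a : ι → ℕ} {lo : ℕ} (hlo : 2 ≤ lo) : ∀ S : Finset ι,
    (∀ i ∈ S, lo ≤ a i) → 2 ≤ S.card → lo * ∑ i ∈ S, a i ≤ 2 * ∏ i ∈ S, a i ∧ lo * lo ≤ ∏ i ∈ S, a i := by
  intro S
  induction S using Finset.induction with
  | empty => intro _ h; simp at h
  | @insert i S hi ih =>
    intro h2 hc
    rw [Finset.card_insert_of_notMem hi] at hc
    rw [Finset.sum_insert hi, Finset.prod_insert hi]
    have h' := h2 i (Finset.mem_insert_self i S)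
    by_cases hS : S.card = 1
    · obtain ⟨x, rfl⟩ := Finset.card_eq_one.1 hS
      have hx := h2 x (Finset.mem_insert_of_mem (Finset.mem_singleton_self x))
      rw [Finset.sum_singleton, Finset.prod_singleton]
      constructor <;> nlinarith [Nat.mul_le_mul h' (le_refl (a x)), Nat.mul_le_mul (le_refl (a i)) hx]
    · obtain ⟨e1, e2⟩ := ih (fun x hx => h2 x (Finset.mem_insert_of_mem hx)) (by omega)
      set T := ∏ x ∈ S, a x
      have hT : lo ≤ T := le_trans (Nat.le_mul_self lo) e2
      constructor
      · nlinarith [Nat.mul_le_mul (le_refl (a i)) hT, Nat.mul_le_mul (show 2 ≤ a i by omega) (le_refl T)]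
      · nlinarith

/-- The data. -/
structure Data (j s n : ℕ) (a k m : ι → ℕ) : Prop where
  fam : ∀ i, a i = k i * m i + 1 ∧ 2 ∣ k i ∧ k i ∣ 1920 ∧ 0 < m i
  cop30 : ∀ i, Nat.Coprime (a i) 30
  cops : ∀ i, Nat.Coprime (a i) s
  cop : ∀ i i', i ≠ i' → Nat.Coprime (a i) (a i')
  odd : Odd n
  congs : ∀ r : ℕ, r.Prime → r ∣ s → r ≠ 3 → ∃ q, 1920 * n = s * (3 * j) * q ∧ q % r = 1
  cong : ∀ i (r : ℕ), r.Prime → r ∣ a i → ∃ q, 1920 * n = a i * k i * q ∧ q % r = 1

namespace Data

variable {j s n : ℕ} {a k m : ι → ℕ} (D : Data j s n a k m)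
include D

theorem k_pos (i : ι) : 0 < k i := by
  rcases Nat.eq_zero_or_pos (k i) with e0 | e0
  · have h1 := (D.fam i).2.2.1
    rw [e0] at h1
    norm_num at h1
  · exact e0

theorem two_le (i : ι) : 7 ≤ a i := by
  obtain ⟨e, h2, -, hm⟩ := D.fam i
  have hk := D.k_pos i
  have h := D.cop30 i
  by_contra hlt
  have h1 : 1 < a i := by
    have := Nat.mul_pos hk hm
    omega
  have ha : a i < 7 := by omega
  interval_cases a i <;> norm_num at h

theorem fine_false (hj : 0 < j) (hs0 : 0 < s) (hn : n ≠ 26163)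
    (l : List (ℕ × ℕ)) (hl : ∀ p ∈ l, ∃ i, p = (a i, k i)) :
    fine j n s l = false := by
  simp only [fine, hn, decide_false, Bool.false_or, Bool.or_eq_false_iff, Bool.and_eq_false_iff,
    decide_eq_false_iff_not, not_not, List.any_eq_false, Bool.and_eq_true, decide_eq_true_eq, not_and]
  constructor
  · by_cases hs : s ≤ 2 ^ 40
    swap
    · exact Or.inl hs
    right
    refine Nat.mod_eq_zero_of_dvd (dvd_pow_of_primes hs0.ne' hs fun r hr hrs => ?_)
    by_cases h3 : r = 3
    · subst h3; exact dvd_mul_right 3 _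
    obtain ⟨q, hq, hqr⟩ := D.congs r hr hrs h3
    refine Dvd.dvd.mul_left ?_ 3
    rw [hq, Nat.mul_div_cancel_left q (by positivity)]
    exact ⟨q / r, by have := Nat.div_add_mod q r; omega⟩
  · intro p hp hla
    obtain ⟨i, rfl⟩ := hl p hp
    refine Nat.mod_eq_zero_of_dvd (dvd_pow_of_primes (by have := D.two_le i; omega) hla fun r hr hra => ?_)
    obtain ⟨q, hq, hqr⟩ := D.cong i r hr hra
    rw [hq, Nat.mul_div_cancel_left q (Nat.mul_pos (by have := D.two_le i; omega) (by
      rcases Nat.eq_zero_or_pos (k i) with e0 | e0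
      · have h1 := (D.fam i).2.2.1
        rw [e0] at h1
        norm_num at h1
      · exact e0))]
    exact ⟨q / r, by have := Nat.div_add_mod q r; omega⟩

theorem m_eq (i : ι) : m i = (a i - 1) / k i ∧ (a i - 1) % k i = 0 := by
  rw [(D.fam i).1, Nat.add_sub_cancel, Nat.mul_div_cancel_left _ (D.k_pos i), Nat.mul_mod_right]
  exact ⟨rfl, rfl⟩

theorem go_sound [DecidableEq ι] {L : ℕ} (hj : 0 < j) (hs0 : 0 < s) (hL : 0 < L) :
    ∀ f P B lo l, go j s L f P B lo l = true → 0 < P → 2 ≤ lo → 1920 < B → ∀ R : Finset ι, R.Nonempty →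
      L * P * ∏ i ∈ R, a i ∣ n → n = B + 1920 * ∑ i ∈ R, m i → (∀ i ∈ R, lo ≤ a i) →
      (∀ i ∈ R, Nat.Coprime (a i) (L * P)) → (∀ p ∈ l, ∃ i, p = (a i, k i)) → n = 26163 := by
  intro f
  induction f with
  | zero => intro P B lo l h; simp [go] at h
  | succ f ih =>
    intro P B lo l h hP hlo hB R hR hdvd hn hge hcop hl
    simp only [go, Bool.and_eq_true] at h
    obtain ⟨hlast, hup⟩ := h
    obtain ⟨i, hi, hmin⟩ := R.exists_min_image a hR
    obtain ⟨e, h2k, hk, hm⟩ := D.fam i
    obtain ⟨em, emod⟩ := D.m_eq i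
    have hkmem := mem_kList h2k hk
    rw [← Finset.insert_erase hi] at hdvd hn
    rw [Finset.prod_insert (Finset.notMem_erase i R)] at hdvd
    rw [Finset.sum_insert (Finset.notMem_erase i R)] at hn
    rcases (R.erase i).eq_empty_or_nonempty with he | hne
    · rw [he, Finset.prod_empty, mul_one] at hdvd
      rw [he, Finset.sum_empty, add_zero] at hn
      by_contra hne6
      obtain ⟨q, hq⟩ := hdvd
      have hqodd : Odd q := (Nat.odd_mul.1 (hq ▸ D.odd)).2
      obtain ⟨w, rfl⟩ := hqodd
      have hkey : a i * (k i * (L * P) * (2 * w + 1)) + 1920 = k i * B + 1920 * a i := by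
        have h1 : k i * n = k i * B + 1920 * (k i * m i) := by rw [hn]; ring
        have h2 : k i * n = a i * (k i * (L * P) * (2 * w + 1)) := by rw [hq]; ring
        have h3 : a i = k i * m i + 1 := e
        omega
      have hkB : 1920 < k i * B := by
        have := Nat.mul_le_mul (D.k_pos i) hB
        omega
      obtain ⟨d, hd, hd0⟩ : ∃ d, k i * (L * P) * (2 * w + 1) = 1920 + d ∧ 0 < d := by
        refine ⟨k i * (L * P) * (2 * w + 1) - 1920, ?_⟩
        have hgt : 1920 < k i * (L * P) * (2 * w + 1) := by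
          by_contra hle
          have := Nat.mul_le_mul_left (a i) (Nat.le_of_not_lt hle)
          omega
        omega
      have hN' : a i * d = k i * B - 1920 := by
        rw [hd, mul_add] at hkey
        omega
      have hQ : 2 * w + 1 ≤ ((k i * B - 1920) / lo + 1920) / (k i * (L * P)) := by
        rw [Nat.le_div_iff_mul_le (Nat.mul_pos (D.k_pos i) (Nat.mul_pos hL hP)), mul_comm, hd]
        have : d ≤ (k i * B - 1920) / lo := (Nat.le_div_iff_mul_le (by omega)).2 (by
          rw [mul_comm, ← hN']
          exact Nat.mul_le_mul_right _ (hge i hi))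
        omega
      simp only [lastOk, List.all_eq_true, Bool.or_eq_true, decide_eq_true_eq] at hlast
      have hde : k i * (L * P) * (2 * w + 1) - 1920 = d := by omega
      rcases hlast _ hkmem w (List.mem_range.2 (by omega)) with (h0 | h0) | h0
      · exact absurd h0 (by omega)
      · exact h0 (by rw [hde, ← hN']; exact Nat.mul_mod_left _ _)
      · have ea : (k i * B - 1920) / (k i * (L * P) * (2 * w + 1) - 1920) = a i := by
          rw [hde, ← hN', Nat.mul_div_cancel _ hd0]
        rw [ea] at h0
        rcases h0 with (((h0 | h0) | h0) | h0) | h0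
        · have := hge i hi; omega
        · exact h0 emod
        · exact h0 (D.cop30 i)
        · exact h0 (hcop i hi)
        · rw [← em, ← hn, D.fine_false hj hs0 hne6 _ (List.forall_mem_cons.2 ⟨⟨i, rfl⟩, hl⟩)] at h0
          exact Bool.false_ne_true h0
    · set S := R.erase i with hS
      have hlow : ∀ x ∈ insert i S, a i ≤ a x := fun x hx => hmin x (by rwa [hS, Finset.insert_erase hi] at hx)
      obtain ⟨hsum, -⟩ := mul_sum_le_prod (lo := a i) (by have := D.two_le i; omega) (insert i S) hlow (by
        rw [Finset.card_insert_of_notMem (Finset.notMem_erase i R)]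
        have := Finset.card_pos.2 (show (R.erase i).Nonempty from hne)
        omega)
      rw [Finset.sum_insert (Finset.notMem_erase i R), Finset.prod_insert (Finset.notMem_erase i R)] at hsum
      set T := a i * ∏ x ∈ S, a x with hT
      have hT2 : a i * a i ≤ T := by
        obtain ⟨x, hx⟩ := hne
        rw [hT, ← Finset.mul_prod_erase S a hx, ← mul_assoc]
        refine le_trans (Nat.mul_le_mul_left _ (hlow x (Finset.mem_insert_of_mem hx))) (Nat.le_mul_of_pos_right _ ?_)
        exact Finset.prod_pos fun y _ => by have := D.two_le y; omega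
      have hLPT : L * P * T ≤ B + 1920 * (m i + ∑ x ∈ S, m x) := by
        have hnpos : 0 < n := by omega
        rw [← hn]
        exact Nat.le_of_dvd hnpos hdvd
      have hms : 2 * (m i + ∑ x ∈ S, m x) ≤ a i + ∑ x ∈ S, a x := by
        rw [mul_add, Finset.mul_sum]
        refine Nat.add_le_add ?_ (Finset.sum_le_sum fun x _ => ?_)
        · have := Nat.mul_le_mul_right (m i) (Nat.le_of_dvd (D.k_pos i) h2k)
          omega
        · obtain ⟨ex, hx2, -, -⟩ := D.fam x
          have := Nat.mul_le_mul_right (m x) (Nat.le_of_dvd (D.k_pos x) hx2)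
          omega
      have hcond : ∀ c, lo ≤ c → c ≤ a i → L * P * c * c ≤ B + 1920 * c := by
        have hai : L * P * a i * a i ≤ B + 1920 * a i := by
          by_contra hlt
          have e1 : a i * (L * P * T) ≤ a i * B + 1920 * T := by
            have e0 : a i * (2 * (m i + ∑ x ∈ S, m x)) ≤ 2 * T := le_trans (Nat.mul_le_mul_left _ hms) hsum
            have := Nat.mul_le_mul_left (a i) hLPT
            rw [mul_add, ← mul_assoc (a i) 1920, mul_comm (a i) 1920, mul_assoc 1920] at this
            rw [← mul_assoc (a i) 2, mul_comm (a i) 2, mul_assoc 2] at e0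
            omega
          have hT0 : 0 < T := lt_of_lt_of_le (Nat.mul_pos (by have := D.two_le i; omega) (by
            have := D.two_le i; omega)) hT2
          have e2 := Nat.mul_le_mul_left (a i) e1
          have e3 := Nat.mul_le_mul_right T (show B + 1920 * a i + 1 ≤ L * P * a i * a i by omega)
          have e4 := Nat.mul_le_mul_left B hT2
          ring_nf at e2 e3 e4
          omega
        intro c hlc hci
        by_cases hsm : L * P * c ≤ 1920
        · have := Nat.mul_le_mul_right c hsm
          omega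
        obtain ⟨d, hd⟩ := Nat.exists_eq_add_of_le hci
        have e5 := Nat.mul_le_mul_left d (show 1920 ≤ L * P * c by omega)
        have e6 : 0 ≤ L * P * (c * d + d * d) := Nat.zero_le _
        rw [hd] at hai
        nlinarith [e5, e6, hai]
      have hg := upto_spec hup (a i) (hge i hi) fun c h1 h2 => decide_eq_true (hcond c h1 h2)
      simp only [Bool.or_eq_true, decide_eq_true_eq, List.all_eq_true] at hg
      rcases hg with (h0 | h0) | h0
      · exact absurd (D.cop30 i) h0
      · exact absurd (hcop i hi) h0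
      rcases h0 _ hkmem with h0 | h0
      · exact absurd emod h0
      rw [← em] at h0
      refine ih _ _ _ _ h0 (Nat.mul_pos hP (by have := D.two_le i; omega)) (by omega) (by omega) S hne
        (by rwa [← mul_assoc, mul_assoc _ (a i)]) (by rw [hn]; ring) (fun x hx => ?_) (fun x hx => ?_)
        (List.forall_mem_cons.2 ⟨⟨i, rfl⟩, hl⟩)
      · have hxi : x ≠ i := (Finset.mem_erase.1 hx).1
        refine lt_of_le_of_ne (hlow x (Finset.mem_insert_of_mem hx)) fun e' => ?_
        have hc := D.cop x i hxi
        rw [← e', Nat.coprime_self] at hc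
        have := D.two_le i
        omega
      · rw [← mul_assoc]
        exact Nat.Coprime.mul_right (hcop x (Finset.mem_of_mem_erase hx)) (D.cop x i (Finset.mem_erase.1 hx).1)

theorem small_sound [DecidableEq ι] {μ C : ℕ} (hj : 0 < j) (hsbig : 2119 < s)
    (hC : 0 < C) (hsmod : s % (3 * j) = (1 + j) % (3 * j)) (hn9 : 9 ∣ n) (h5 : ¬ 5 ∣ s) :
    ∀ f P M lo l, small j μ C f P M lo l = true → 0 < P → ∀ (R : Finset ι) (q : ℕ),
      P * (∏ i ∈ R, a i) * q < 2 * μ → n = s * (P * (∏ i ∈ R, a i) * q) →
      n = C + μ * s + 1920 * (M + ∑ i ∈ R, m i) → (∀ i ∈ R, lo ≤ a i) →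
      (∀ i ∈ R, Nat.Coprime (a i) P) → (∀ p ∈ l, ∃ i, p = (a i, k i)) → n = 26163 := by
  intro f
  induction f with
  | zero => intro P M lo l h; simp [small] at h
  | succ f ih =>
    intro P M lo l h hP R q hlt hn hn' hge hcop hl
    simp only [small, Bool.and_eq_true] at h
    obtain ⟨hlast, hup⟩ := h
    have hq0 : 0 < q := by
      rcases Nat.eq_zero_or_pos q with e0 | e0
      · rw [e0, mul_zero, mul_zero] at hn
        omega
      · exact e0
    rcases R.eq_empty_or_nonempty with rfl | hR
    · rw [Finset.prod_empty, mul_one] at hlt hn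
      rw [Finset.sum_empty, add_zero] at hn'
      by_contra hne6
      have hgt : μ < P * q := by
        by_contra hle
        have := Nat.mul_le_mul_left s (Nat.le_of_not_lt hle)
        rw [mul_comm μ s] at hn'
        omega
      have hkey : s * (P * q - μ) = C + 1920 * M := by
        rw [Nat.mul_sub, ← hn, hn', mul_comm s μ]
        omega
      simp only [List.all_eq_true, Bool.or_eq_true, decide_eq_true_eq, List.any_eq_true] at hlast
      have hsub : 0 < P * q - μ := by omega
      have hqlt : q < 2 * μ := lt_of_le_of_lt (Nat.le_mul_of_pos_left q hP) hlt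
      rcases hlast q (List.mem_range.2 hqlt) with ((h0 | h0) | h0) | h0
      · omega
      · omega
      · exact h0 (by rw [← hkey]; exact Nat.mul_mod_left _ _)
      · have es : (C + 1920 * M) / (P * q - μ) = s := by rw [← hkey, Nat.mul_div_cancel _ hsub]
        rw [es, ← hn'] at h0
        rcases h0 with ((((h0 | h0) | h0) | h0) | ⟨p, hp, h0⟩) | h0
        · omega
        · exact h0 hsmod
        · exact h0 (Nat.mod_eq_zero_of_dvd hn9)
        · exact h5 (Nat.dvd_of_mod_eq_zero h0)
        · obtain ⟨i, rfl⟩ := hl p hp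
          exact h0 (D.cops i)
        · rw [D.fine_false hj (by omega) hne6 l hl] at h0
          exact Bool.false_ne_true h0
    obtain ⟨i, hi, hmin⟩ := R.exists_min_image a hR
    obtain ⟨e, h2k, hk, hm⟩ := D.fam i
    obtain ⟨em, emod⟩ := D.m_eq i
    set S := R.erase i with hS
    rw [← Finset.mul_prod_erase R a hi] at hlt hn
    rw [← Finset.add_sum_erase R m hi] at hn'
    have hPa : P * a i < 2 * μ := by
      refine lt_of_le_of_lt ?_ hlt
      calc P * a i = P * (a i * 1) * 1 := by ring
        _ ≤ P * (a i * ∏ x ∈ S, a x) * q := Nat.mul_le_mul (Nat.mul_le_mul_left P (Nat.mul_le_mul_left _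
          (show 1 ≤ ∏ x ∈ S, a x from
            Finset.prod_pos fun y _ => lt_of_lt_of_le (show 0 < 7 by norm_num) (D.two_le y)))) hq0
    have hg := upto_spec hup (a i) (hge i hi) fun c _ hc => decide_eq_true
      (lt_of_le_of_lt (Nat.mul_le_mul_left P hc) hPa)
    simp only [Bool.or_eq_true, decide_eq_true_eq, List.all_eq_true] at hg
    rcases hg with (h0 | h0) | h0
    · exact absurd (D.cop30 i) h0
    · exact absurd (hcop i hi) h0
    rcases h0 _ (mem_kList h2k hk) with h0 | h0
    · exact absurd emod h0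
    rw [← em] at h0
    refine ih _ _ _ _ h0 (Nat.mul_pos hP (by have := D.two_le i; omega)) S q (by rwa [mul_assoc P])
      (by rw [hn]; ring) (by rw [hn']; ring) (fun x hx => ?_) (fun x hx => ?_)
      (List.forall_mem_cons.2 ⟨⟨i, rfl⟩, hl⟩)
    · refine lt_of_le_of_ne (hmin x (Finset.mem_of_mem_erase hx)) fun e' => ?_
      have hc := D.cop x i (Finset.mem_erase.1 hx).1
      rw [← e', Nat.coprime_self] at hc
      have := D.two_le i
      omega
    · exact Nat.Coprime.mul_right (hcop x (Finset.mem_of_mem_erase hx)) (D.cop x i (Finset.mem_erase.1 hx).1)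

/-- The only solution. -/
theorem main [Fintype ι] {m0 : ℕ} (hj : j = 8 ∨ j = 2) (hs : s = 3 * j * m0 + 1 + j)
    (hn : n = 16563 + 1920 * (m0 + ∑ i, m i)) (hsn : s ∣ n) (hdvd : ∀ i, a i ∣ n) (h9 : 9 ∣ n) (h5 : ¬ 5 ∣ s) :
    n = 26163 := by
  classical
  have hs0 : 0 < s := by omega
  have hj0 : 0 < j := by omega
  have hprod : ∏ i, a i ∣ n := Finset.prod_dvd_of_isRelPrime
    (fun i _ i' _ hii => Nat.coprime_iff_isRelPrime.1 (D.cop i i' hii)) fun i _ => hdvd i
  by_cases hbig : s ≤ 2119
  · set L := if s % 9 = 0 then s else 3 * s with hL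
    have h3 : 3 ∣ s := by rcases hj with rfl | rfl <;> omega
    have hLn : L ∣ n := by
      rw [hL]
      split_ifs with hs9
      · exact hsn
      · obtain ⟨t, rfl⟩ := h3
        rw [← mul_assoc]
        refine Nat.Coprime.mul_dvd_of_dvd_of_dvd ?_ h9 ((dvd_mul_left t 3).trans hsn)
        exact ((Nat.prime_three.coprime_iff_not_dvd.2 (by omega)).pow_left 2 : Nat.Coprime (3 ^ 2) t)
    have hcL : ∀ i, Nat.Coprime (a i) L := fun i => by
      rw [hL]
      split_ifs
      · exact D.cops i
      · exact Nat.Coprime.mul_right ((D.cop30 i).coprime_dvd_right (by norm_num)) (D.cops i)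
    have hm0 : (j = 8 ∧ m0 < 89) ∨ (j = 2 ∧ m0 < 120) ∨ (j = 2 ∧ 120 ≤ m0 ∧ m0 < 354) := by
      rcases hj with rfl | rfl <;> omega
    have hchk : checkS j m0 = true := by
      rcases hm0 with ⟨rfl, hm⟩ | ⟨rfl, hm⟩ | ⟨rfl, hm, hm'⟩
      · exact List.all_eq_true.1 check_eight m0 (List.mem_range.2 hm)
      · exact List.all_eq_true.1 check_two_a m0 (List.mem_range.2 hm)
      · have := List.all_eq_true.1 check_two_b (m0 - 120) (List.mem_range.2 (by omega))
        rwa [show 120 + (m0 - 120) = m0 by omega] at this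
    simp only [checkS, ← hs, Bool.or_eq_true, Bool.and_eq_true, decide_eq_true_eq, ← hL] at hchk
    rcases hchk with h0 | ⟨h0, hgo⟩
    · exact absurd (Nat.dvd_of_mod_eq_zero h0) h5
    rcases (Finset.univ : Finset ι).eq_empty_or_nonempty with he | hne
    · rw [he, Finset.sum_empty, add_zero] at hn
      by_contra hne6
      rw [← hn, D.fine_false hj0 hs0 hne6 [] (by simp)] at h0
      rcases h0 with h0 | h0
      · exact h0 (Nat.mod_eq_zero_of_dvd hLn)
      · exact Bool.false_ne_true h0
    refine D.go_sound hj0 hs0 (by rw [hL]; split_ifs <;> omega) 5 1 _ 7 [] hgo one_pos (by norm_num)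
      (by omega) Finset.univ hne ?_ (by rw [hn]; ring) (fun i _ => D.two_le i)
      (fun i _ => by rw [mul_one]; exact hcL i) (by simp)
    rw [mul_one]
    exact Nat.Coprime.mul_dvd_of_dvd_of_dvd (Nat.Coprime.prod_right fun i _ => (hcL i).symm) hLn hprod
  · push Not at hbig
    obtain ⟨T, hT⟩ : ∃ T, T = ∏ i, a i := ⟨_, rfl⟩
    obtain ⟨q, hq⟩ := Nat.Coprime.mul_dvd_of_dvd_of_dvd
      (Nat.Coprime.prod_right fun i _ => (D.cops i).symm) hsn hprod
    rw [← hT, mul_assoc] at hq
    obtain ⟨μ, C, hμ, hC, hnC, hCle, hsm⟩ : ∃ μ C, 0 < μ ∧ 0 < C ∧ n = C + μ * s + 1920 * ∑ i, m i ∧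
        C ≤ 199 * μ ∧ small j μ C 5 1 0 7 [] = true := by
      rcases hj with rfl | rfl
      · exact ⟨80, 15843, by norm_num, by norm_num, by omega, by norm_num, small_eight⟩
      · exact ⟨320, 15603, by norm_num, by norm_num, by omega, by norm_num, small_two⟩
    have hlt : T * q < 2 * μ := by
      by_contra hge
      push Not at hge
      have hq0 : 1 ≤ q := by
        rcases Nat.eq_zero_or_pos q with e0 | e0
        · rw [e0, mul_zero] at hge; omega
        · exact e0
      have h2m : 2 * ∑ i, m i ≤ T := by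
        rw [hT]
        rcases (Finset.univ : Finset ι).eq_empty_or_nonempty with he | hne
        · rw [he, Finset.sum_empty]; exact Nat.zero_le _
        · refine le_trans ?_ (sum_le_prod a _ (fun i _ => by have := D.two_le i; omega) hne)
          rw [Finset.mul_sum]
          refine Finset.sum_le_sum fun x _ => ?_
          obtain ⟨ex, hx2, -, -⟩ := D.fam x
          have := Nat.mul_le_mul_right (m x) (Nat.le_of_dvd (D.k_pos x) hx2)
          omega
      have h1 : T ≤ T * q := Nat.le_mul_of_pos_right T hq0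
      have h2 : μ * s * 2 ≤ T * q * s := by
        calc μ * s * 2 = 2 * μ * s := by ring
          _ ≤ T * q * s := Nat.mul_le_mul_right s hge
      have h3 : T * q * s ≤ 2 * C + 1920 * T := by
        have e5 : T * q * s = C + μ * s + 1920 * ∑ i, m i := by rw [← hnC, hq]; ring
        omega
      have h4 : 2 * C ≤ 199 * (T * q) := by omega
      have h5' : T * q * s ≤ T * q * 2119 := by omega
      have := Nat.le_of_mul_le_mul_left h5' (by omega)
      omega
    refine D.small_sound hj0 hbig hC ?_ h9 h5 5 1 0 7 [] hsm one_pos Finset.univ q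
      (by rwa [one_mul, ← hT]) (by rw [one_mul, ← hT]; exact hq) (by rw [zero_add]; exact hnC) (fun i _ => D.two_le i)
      (fun i _ => Nat.coprime_one_right _) (by simp)
    rw [hs, add_assoc, mul_comm (3 * j) m0, Nat.mul_add_mod']

end Data

end CfsgLib.Invol.JThreeType.Arith
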