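import Cfsg.Agent.Lib.Invol.JThreeType.Arith

/-!
# The parameters of the count
-/

set_option autoImplicit false

namespace CfsgLib.Invol.JThreeType.Arith.Data

open CfsgLib.Invol.JThreeType.Arith

variable {ι : Type*} [Fintype ι] {j s n : ℕ} {a k m : ι → ℕ}

theorem family_eq (D : Data j s n a k m) (hn : n = 26163) (hdvd : ∀ i, a i ∣ n) (hsum : ∑ i, m i ≤ 5) (i : ι) :
    a i = 17 ∧ m i = 2 := by
  obtain ⟨he, h2, hk, hm⟩ := D.fam i
  have hm5 : m i ≤ 5 := (Finset.single_le_sum (f := m) (fun _ _ => Nat.zero_le _) (Finset.mem_univ i)).trans hsum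
  have h323 : a i ∣ 17 * 19 := by
    have h := hdvd i
    rw [hn, show 26163 = 3 ^ 4 * (17 * 19) by norm_num] at h
    exact (((D.cop30 i).coprime_dvd_right (by norm_num : 3 ∣ 30)).pow_right 4).dvd_of_dvd_mul_left h
  have h7 := D.two_le i
  have hmem : a i ∈ Nat.divisors (17 * 19) := Nat.mem_divisors.2 ⟨h323, by norm_num⟩
  rw [show Nat.divisors (17 * 19) = {1, 17, 19, 323} by decide +kernel] at hmem
  simp only [Finset.mem_insert, Finset.mem_singleton] at hmem
  have hk' := hk
  have hc := D.cong i
  rw [hn] at hc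
  rcases hmem with e | e | e | e
  · omega
  · rw [e] at he hc ⊢
    obtain ⟨q, hq, hq1⟩ := hc 17 (by norm_num) dvd_rfl
    refine ⟨rfl, ?_⟩
    interval_cases hmi : m i <;> first | omega | (rw [show k i = 16 by omega] at hq; omega) |
      (rw [show k i = 4 by omega] at hq; omega)
  · rw [e] at he hc ⊢
    obtain ⟨q, hq, hq1⟩ := hc 19 (by norm_num) dvd_rfl
    exfalso
    interval_cases hmi : m i <;> first | omega | (rw [show k i = 18 by omega] at hk; omega) |
      (rw [show k i = 6 by omega] at hq; omega)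
  · rw [e] at he
    exfalso
    interval_cases hmi : m i <;> first | omega | (rw [show k i = 322 by omega] at hk; omega)

theorem final (D : Data j s n a k m) {m0 : ℕ} (hn : n = 26163) (hj : j = 8 ∨ j = 2)
    (hs : s = 3 * j * m0 + 1 + j) (hn' : n = 16563 + 1920 * (m0 + ∑ i, m i)) (hsn : s ∣ n)
    (hdvd : ∀ i, a i ∣ n) : j = 8 ∧ s = 81 := by
  classical
  have hsum : m0 + ∑ i, m i = 5 := by omega
  have hf := D.family_eq hn hdvd (by omega)
  have hcard : Fintype.card ι ≤ 1 := Fintype.card_le_one_iff.2 fun i i' => by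
    by_contra hne
    have := D.cop i i' hne
    rw [(hf i).1, (hf i').1] at this
    norm_num at this
  have hS : ∑ i, m i = Fintype.card ι * 2 := by
    rw [Finset.sum_congr rfl (fun i _ => (hf i).2), Finset.sum_const, Finset.card_univ, smul_eq_mul]
  subst hn
  rcases Nat.eq_zero_or_pos (Fintype.card ι) with e | e
  · obtain rfl : m0 = 5 := by omega
    rcases hj with rfl | rfl <;> norm_num at hs <;> subst hs <;> norm_num at hsn
  · obtain rfl : m0 = 3 := by omega
    rcases hj with rfl | rfl <;> subst hs <;> first | omega | norm_num at hsn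

end CfsgLib.Invol.JThreeType.Arith.Data
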