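import Cfsg.Agent.Lib.Invol.JThreeType.Five

/-!
# The classes of inverted elements when the centralizer of an element of order three is large
-/

set_option autoImplicit false
set_option synthInstance.maxSize 4096

namespace CfsgLib.Invol.JThreeType

open Subgroup
open CfsgLib.Invol.JTwo (PreHyp Frame Out cj mem_cj)

theorem card_pairs {α β : Type*} [Finite α] [Finite β] (R : α → β → Prop) (P : α → Prop)
    (hP : ∀ a b, R a b → P a) {k : ℕ} (hk : ∀ a, P a → Nat.card {b // R a b} = k) :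
    Nat.card {p : α × β // R p.1 p.2} = Nat.card {a // P a} * k := by
  classical
  haveI : Fintype {a // P a} := Fintype.ofFinite _
  let e : {p : α × β // R p.1 p.2} ≃ Σ a : {a // P a}, {b // R a.1 b} :=
    { toFun := fun p => ⟨⟨p.1.1, hP _ _ p.2⟩, ⟨p.1.2, p.2⟩⟩
      invFun := fun s => ⟨(s.1.1, s.2.1), s.2.2⟩
      left_inv := fun p => rfl
      right_inv := fun s => rfl }
  rw [Nat.card_congr e, Nat.card_sigma, Finset.sum_congr rfl fun a _ => hk a.1 a.2, Finset.sum_const,
    Finset.card_univ, smul_eq_mul, ← Nat.card_eq_fintype_card]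

theorem card_pairs_right {α β : Type*} [Finite α] [Finite β] (R : α → β → Prop) (P : β → Prop)
    (hP : ∀ a b, R a b → P b) {k : ℕ} (hk : ∀ b, P b → Nat.card {a // R a b} = k) :
    Nat.card {p : α × β // R p.1 p.2} = Nat.card {b // P b} * k := by
  rw [← card_pairs (fun b a => R a b) P (fun b a => hP a b) hk]
  exact Nat.card_congr ((Equiv.prodComm α β).subtypeEquiv fun p => Iff.rfl)

variable {G : Type*} [Group G]

/-- An inverted element of order three centralised by an element of order three of the centralizer, outside the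
class. -/
def IsU (z x : G) : Prop :=
  IsInv z x ∧ x ^ 3 = 1 ∧ ¬ YClass x ∧ ∃ e ∈ centralizer ({z} : Set G), orderOf e = 3 ∧ e * x = x * e

/-- An inverted element without fixed points in the centralizer, not of order fifteen. -/
def IsFree (z x : G) : Prop :=
  IsInv z x ∧ orderOf x ≠ 15 ∧ ∀ c ∈ centralizer ({z} : Set G), c * x = x * c → c = 1

/-- An element of order five with an element of order three of the centralizer commuting with it. -/
def HasThree (z x : G) : Prop := ∃ e ∈ centralizer ({z} : Set G), orderOf e = 3 ∧ e * x = x * e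

variable {z : G}

theorem inv_pow_inv (hz : z * z = 1) {x : G} (hx : z * x * z = x⁻¹) (k : ℕ) : z * x ^ k * z = (x ^ k)⁻¹ := by
  have hzi : z⁻¹ = z := inv_eq_of_mul_eq_one_right hz
  have e := conj_zpow_of_inverts (show z * x * z⁻¹ = x⁻¹ by rw [hzi]; exact hx) (k : ℤ)
  rwa [hzi, zpow_neg, zpow_natCast] at e

/-- An element both fixed and inverted by `z`. -/
theorem fix_inv_one {x : G} (ho : Odd (orderOf x)) (hi : z * x * z = x⁻¹) (hf : z * x * z = x) : x = 1 :=
  eq_one_of_odd_of_mul_self ho (by rw [hf] at hi; nth_rw 2 [hi]; exact mul_inv_cancel x)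

theorem order_three_pow {b : G} (hb : orderOf b = 3) (j : ℕ) : b ^ j = 1 ∨ b ^ j = b ∨ b ^ j = b⁻¹ := by
  rw [← pow_mod_orderOf, hb]
  have := Nat.mod_lt j (show 3 > 0 by norm_num)
  interval_cases j % 3
  · exact Or.inl (pow_zero b)
  · exact Or.inr (Or.inl (pow_one b))
  · refine Or.inr (Or.inr (eq_inv_of_mul_eq_one_left ?_))
    rw [← pow_succ]; exact orderOf_dvd_iff_pow_eq_one.1 hb.dvd

theorem five_pow {b : G} (hb : orderOf b = 3) {x : G} (hbx : b * x = x * b) (i j : ℕ) :
    (x ^ i * b ^ j) ^ 3 = x ^ (i * 3) := by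
  rw [((show Commute x b from hbx.symm).pow_pow i j).mul_pow, ← pow_mul, ← pow_mul b, mul_comm j, pow_mul b,
    show b ^ 3 = 1 from orderOf_dvd_iff_pow_eq_one.1 hb.dvd, one_pow, mul_one]

/-- The elements of order three commuting with an element of order five. -/
theorem three_in_five {x u b : G} (hx : orderOf x = 5) (D : FiveData x u b) {a : G} (ha : orderOf a = 3)
    (hax : a * x = x * a) : a = b ∨ a = b⁻¹ := by
  obtain ⟨i, j, rfl⟩ := D.odd a (mem_centralizer_singleton_iff.2 hax) (by rw [ha]; decide)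
  have e3 : x ^ (i * 3) = 1 := by
    rw [← five_pow D.yclass.1 D.commb i j]; exact orderOf_dvd_iff_pow_eq_one.1 ha.dvd
  have hxi : x ^ i = 1 := by
    refine orderOf_eq_one_iff.1 (Nat.eq_one_of_dvd_coprimes (by norm_num : Nat.Coprime 5 3) ?_
      (orderOf_dvd_of_pow_eq_one (by rw [← pow_mul]; exact e3)))
    exact hx ▸ orderOf_pow_dvd i
  rw [hxi, one_mul] at ha ⊢
  rcases order_three_pow D.yclass.1 j with e | e | e
  · rw [e, orderOf_one] at ha; norm_num at ha
  · exact Or.inl e
  · exact Or.inr e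

namespace Big

variable [Finite G] {Q : Subgroup G} (h : Big z Q)
include h

theorem d_cases {x c : G} (hx : IsInv z x) (hc : c ∈ centralizer ({z} : Set G)) (hc1 : c ≠ 1)
    (hcx : c * x = x * c) : YClass x ∨ orderOf x = 5 ∨ IsU z x := by
  obtain ⟨p, hp, hpd⟩ := Nat.exists_prime_and_dvd (show orderOf c ≠ 1 from fun e => hc1 (orderOf_eq_one_iff.1 e))
  set e := c ^ (orderOf c / p) with he
  have heo : orderOf e = p := by
    rw [he, orderOf_pow_of_dvd (Nat.div_ne_zero_iff.2 ⟨hp.ne_zero, Nat.le_of_dvd (orderOf_pos c) hpd⟩)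
      (Nat.div_dvd_of_dvd hpd), Nat.div_div_self hpd (orderOf_pos c).ne']
  have heC : e ∈ centralizer ({z} : Set G) := pow_mem hc _
  have hex : e * x = x * e := ((show Commute c x from hcx).pow_left _).eq
  have hd := orderOf_dvd_natCard _ heC
  rw [heo, h.card_C, show 1920 = 2 ^ 7 * 3 * 5 from rfl] at hd
  have hord : ∀ q, q.Prime → x ^ q = 1 → orderOf x = q := fun q hq e => by
    haveI := Fact.mk hq
    exact orderOf_eq_prime e hx.1
  rcases (Nat.Prime.dvd_mul hp).1 hd with hd | hd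
  · rcases (Nat.Prime.dvd_mul hp).1 hd with hd | hd
    · -- an involution
      obtain rfl : p = 2 := (Nat.prime_dvd_prime_iff_eq hp Nat.prime_two).1 (hp.dvd_of_dvd_pow hd)
      have heI : IsI e := isI_iff.2 heo
      obtain ⟨g, hg⟩ := h.exists_conj heI
      have hxC : g⁻¹ * x * g ∈ centralizer ({z} : Set G) := mem_centralizer_singleton_iff.2 (by
        calc g⁻¹ * x * g * z = g⁻¹ * (x * (g * z * g⁻¹)) * g := by group
          _ = g⁻¹ * (g * z * g⁻¹ * x) * g := by rw [hg, hex]
          _ = z * (g⁻¹ * x * g) := by group)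
      have hxo : Odd (orderOf (g⁻¹ * x * g)) := by
        rw [show g⁻¹ * x * g = g⁻¹ * x * g⁻¹⁻¹ by group, ← MulAut.conj_apply, MulEquiv.orderOf_eq]; exact hx.2.1
      have hpow : ∀ q, (g⁻¹ * x * g) ^ q = 1 → x ^ q = 1 := fun q e => by
        rw [show g⁻¹ * x * g = g⁻¹ * x * g⁻¹⁻¹ by group, conj_pow, conj_eq_one_iff] at e
        exact e
      rcases h.odd_order_cases hxC hxo with e3 | e5
      · exact Or.inl ⟨hord 3 Nat.prime_three (hpow 3 e3), e, heI, mem_centralizer_singleton_iff.2 hex⟩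
      · exact Or.inr (Or.inl (hord 5 Nat.prime_five (hpow 5 e5)))
    · obtain rfl : p = 3 := (Nat.prime_dvd_prime_iff_eq hp Nat.prime_three).1 hd
      rcases (h.X_big heC heo).2.2 x (mem_centralizer_singleton_iff.2 hex.symm) hx with ⟨h5, -⟩ | ⟨h3, -⟩
      · exact Or.inr (Or.inl (hord 5 Nat.prime_five h5))
      · by_cases hY : YClass x
        · exact Or.inl hY
        · exact Or.inr (Or.inr ⟨hx, h3, hY, e, heC, heo, hex⟩)
  · obtain rfl : p = 5 := (Nat.prime_dvd_prime_iff_eq hp Nat.prime_five).1 hd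
    obtain ⟨b, D⟩ := h.five_centralizer heC heo
    obtain ⟨i, j, hij⟩ := D.odd x (mem_centralizer_singleton_iff.2 hex.symm) hx.2.1
    have e1 := hx.2.2
    rw [hij, invol_conj_mul_map h.zz, (invol_fix_iff h.zz _).2 ((show Commute z e from D.comm).pow_right i).eq,
      inv_pow_inv h.zz D.inv, _root_.mul_inv_rev, ((show Commute b e from D.commb).pow_pow j i).inv_inv.eq] at e1
    have e2 := mul_right_cancel e1
    have hei : e ^ i = 1 := eq_one_of_odd_of_mul_self
      ((show Odd (orderOf e) by rw [heo]; decide).of_dvd_nat (orderOf_pow_dvd i))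
      (by nth_rw 2 [e2]; exact mul_inv_cancel _)
    rw [hei, one_mul] at hij
    obtain ⟨hb, w, hw, hwb⟩ := D.yclass
    refine Or.inl ⟨hord 3 Nat.prime_three (by rw [hij, ← pow_mul, mul_comm, pow_mul,
      show b ^ 3 = 1 from orderOf_dvd_iff_pow_eq_one.1 hb.dvd, one_pow]), w, hw, ?_⟩
    rw [hij]
    exact mem_centralizer_singleton_iff.2 ((show Commute w b from mem_centralizer_singleton_iff.1 hwb).pow_right j).eq

theorem card_yclass : Nat.card {x : G // YClass x ∧ IsInv z x} = 192 := by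
  haveI : Fact (Nat.Prime 3) := ⟨Nat.prime_three⟩
  obtain ⟨y₀, hy₀⟩ := exists_prime_orderOf_dvd_card' (G := ↥(centralizer ({z} : Set G))) 3
    (by rw [h.card_C]; norm_num)
  rw [← Subgroup.orderOf_coe] at hy₀
  obtain ⟨t, ht, hty⟩ := h.exists_inverter (Or.inl rfl) y₀.2 hy₀
  have e := h.card_yclass_mul y₀.2 hy₀ ht hty
  rw [(h.card_K y₀.2 hy₀ ht hty).1] at e
  rw [Nat.card_congr (Equiv.subtypeEquivRight (q := fun x : G => YClass x ∧ z * x * z = x⁻¹) fun x =>
    ⟨fun a => ⟨a.1, a.2.2.2⟩, fun a => ⟨a.1, fun e1 => by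
      have := a.1.1; rw [e1, orderOf_one] at this; norm_num at this, by rw [a.1.1]; decide, a.2⟩⟩)]
  omega

theorem yclass_fixed {x : G} (hY : YClass x) (hi : z * x * z = x⁻¹) :
    ∃ c ∈ centralizer ({z} : Set G), c ≠ 1 ∧ c * x = x * c ∧ ¬ orderOf c = 3 ∧
      (∀ d ∈ centralizer ({z} : Set G), d * x = x * d → orderOf d ≠ 3) := by
  haveI : Fact (Nat.Prime 3) := ⟨Nat.prime_three⟩
  haveI : Fact (Nat.Prime 5) := ⟨Nat.prime_five⟩
  obtain ⟨y₀, hy₀⟩ := exists_prime_orderOf_dvd_card' (G := ↥(centralizer ({z} : Set G))) 3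
    (by rw [h.card_C]; norm_num)
  rw [← Subgroup.orderOf_coe] at hy₀
  obtain ⟨t, ht, hty⟩ := h.exists_inverter (Or.inl rfl) y₀.2 hy₀
  have e := h.card_cent_yclass y₀.2 hy₀ ht hty hY hi
  rw [(h.card_K y₀.2 hy₀ ht hty).1] at e
  obtain ⟨c, hc⟩ := exists_prime_orderOf_dvd_card'
    (G := (centralizer ({x} : Set G) ⊓ centralizer ({z} : Set G) : Subgroup G)) 5 (by rw [e]; norm_num)
  rw [← Subgroup.orderOf_coe] at hc
  refine ⟨c, c.2.2, fun e1 => ?_, mem_centralizer_singleton_iff.1 c.2.1, by rw [hc]; norm_num,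
    fun d hd hdx hd3 => ?_⟩
  · rw [e1, orderOf_one] at hc; norm_num at hc
  · have := orderOf_dvd_natCard (centralizer ({x} : Set G) ⊓ centralizer ({z} : Set G) : Subgroup G)
      ⟨mem_centralizer_singleton_iff.2 hdx, hd⟩
    rw [hd3, e] at this
    norm_num at this

theorem pair_out {w x : G} (hw : IsI w) (hwC : w ∈ centralizer ({z} : Set G)) (hx : IsInv z x)
    (hx5 : orderOf x = 5) (hwx : w * x = x * w) : Out z Q w := by
  refine ⟨hwC, fun hq => ?_, hw.1⟩
  have hwz : w ≠ z := fun e => hx.1 (fix_inv_one hx.2.1 hx.2.2 ((invol_fix_iff h.zz x).2 (e ▸ hwx)))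
  obtain ⟨g, hg⟩ := h.exists_conj hw
  have h' : Hyp w (cj g Q) := hg ▸ h.toHyp.conj g
  have hzQ := h.z_mem_cj hq hwz hg
  have hzxQ := h'.nrm x (mem_centralizer_singleton_iff.2 hwx.symm) z hzQ
  have hm := mul_mem hzQ hzxQ
  rw [show z * (x * z * x⁻¹) = z * x * z * x⁻¹ by group, hx.2.2, ← _root_.mul_inv_rev] at hm
  have hd := orderOf_dvd_natCard (cj g Q) (inv_mem_iff.1 hm)
  rw [h'.card, ← pow_two, Nat.Coprime.orderOf_pow (by rw [hx5]; norm_num), hx5] at hd
  norm_num at hd

theorem card_inverted_in {w : G} (hw : Out z Q w) :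
    Nat.card {x : G // (IsInv z x ∧ orderOf x = 5) ∧ w * x = x * w} = 32 := by
  obtain ⟨g, hg⟩ := h.exists_conj (h.out_isI hw)
  have h' : Hyp w (cj g Q) := hg ▸ h.toHyp.conj g
  have hzOut : Out w (cj g Q) z := by
    refine ⟨mem_centralizer_singleton_iff.2 (mem_centralizer_singleton_iff.1 hw.1).symm, fun hm => hw.2.1 ?_,
      h.zz⟩
    rw [mem_cj] at hm
    rw [← hg] at hw ⊢
    exact (h.type_iff (h.out_ne_z hw) hw.1).1 hm
  rw [← h'.card_inverted_five hzOut]
  refine Nat.card_congr (Equiv.subtypeEquivRight fun x => ⟨?_, ?_⟩)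
  · rintro ⟨⟨hx, hx5⟩, hwx⟩
    exact ⟨⟨mem_centralizer_singleton_iff.2 hwx.symm, hx5⟩, hx.2.2⟩
  · rintro ⟨⟨hwx, hx5⟩, hi⟩
    refine ⟨⟨⟨fun e => ?_, by rw [hx5]; decide, hi⟩, hx5⟩, (mem_centralizer_singleton_iff.1 hwx).symm⟩
    rw [e, orderOf_one] at hx5; norm_num at hx5

/-- The fixed involutions at an element of order five. -/
theorem card_fixed_invol {x : G} (hx : IsInv z x) (hx5 : orderOf x = 5) :
    (HasThree z x → Nat.card {w : G // IsI w ∧ w ∈ centralizer ({z} : Set G) ∧ w * x = x * w} = 3 ∧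
      Nat.card {e : G // (e ∈ centralizer ({z} : Set G) ∧ orderOf e = 3) ∧ e * x = x * e} = 2) ∧
    (¬ HasThree z x → Nat.card {w : G // IsI w ∧ w ∈ centralizer ({z} : Set G) ∧ w * x = x * w} = 1 ∧
      ∃ u b, FiveData x u b ∧ z * b * z = b⁻¹) := by
  obtain ⟨u, b, D⟩ := h.five_data hx5
  have hb := D.yclass.1
  have hzi : z⁻¹ = z := inv_eq_of_mul_eq_one_right h.zz
  have hnorm : ∀ a, a * x = x * a → z * a * z * x = x * (z * a * z) := by
    intro a ha
    have e : z * x⁻¹ * z = x := by rw [← hx.2.2, invol_conj_twice h.zz]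
    calc z * a * z * x = z * a * z * (z * x⁻¹ * z) := by rw [e]
      _ = z * (a * x⁻¹) * z := (invol_conj_mul_map h.zz a x⁻¹).symm
      _ = z * (x⁻¹ * a) * z := by rw [(show Commute a x from ha).inv_right.eq]
      _ = x * (z * a * z) := by rw [invol_conj_mul_map h.zz, e]
  have hzb : z * b * z = b ∨ z * b * z = b⁻¹ := by
    refine three_in_five hx5 D ?_ (hnorm b D.commb)
    rw [show z * b * z = MulAut.conj z b by rw [MulAut.conj_apply, hzi], MulEquiv.orderOf_eq, hb]
  have hbp : ∀ j : ℕ, u * b ^ j * u = (b ^ j)⁻¹ := fun j => inv_pow_inv D.isI.1 D.inv j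
  have hodd : ∀ j : ℕ, Odd (orderOf (b ^ j)) := fun j =>
    (show Odd (orderOf b) by rw [hb]; decide).of_dvd_nat (orderOf_pow_dvd j)
  have hub : ∀ j : ℕ, IsI (u * b ^ j) ∧ u * b ^ j * x = x * (u * b ^ j) := fun j => by
    refine ⟨⟨by rw [← mul_assoc, hbp, inv_mul_cancel], fun e => ?_⟩,
      ((show Commute u x from D.comm).mul_left ((show Commute b x from D.commb).pow_left j)).eq⟩
    have := hodd j
    rw [show b ^ j = u by rw [eq_inv_of_mul_eq_one_right e, inv_eq_of_mul_eq_one_right D.isI.1],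
      isI_iff.1 D.isI] at this
    exact absurd this (by decide)
  obtain ⟨m, hm⟩ := D.invol (z * u * z) (mem_centralizer_singleton_iff.2 (hnorm u D.comm))
    (by have := isI_conj z D.isI; rwa [hzi] at this)
  -- an element inverted by `z` cannot commute with it
  have hnot : z * b * z = b⁻¹ → ¬ HasThree z x := by
    rintro hi ⟨e, heC, heo, hex⟩
    have hef : z * e * z = e := (invol_fix_iff h.zz e).2 (mem_centralizer_singleton_iff.1 heC).symm
    have hei : z * e * z = e⁻¹ := by
      rcases three_in_five hx5 D heo hex with rfl | rfl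
      · exact hi
      · rw [invol_conj_inv_map h.zz, hi]
    have := fix_inv_one (by rw [heo]; decide) hei hef
    rw [this, orderOf_one] at heo; norm_num at heo
  have hyes : z * b * z = b → HasThree z x := fun hf =>
    ⟨b, mem_centralizer_singleton_iff.2 ((invol_fix_iff h.zz b).1 hf).symm, hb, D.commb⟩
  constructor
  · intro hA
    have hf : z * b * z = b := hzb.resolve_right fun hi => hnot hi hA
    have hbC : b ∈ centralizer ({z} : Set G) :=
      mem_centralizer_singleton_iff.2 ((invol_fix_iff h.zz b).1 hf).symm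
    have hu : z * u * z = u := by
      have e := congrArg (fun v => z * v * z) hm
      simp only [invol_conj_twice h.zz] at e
      rw [invol_conj_mul_map h.zz, hm, (invol_fix_iff h.zz _).2
        (((show Commute z b from (mem_centralizer_singleton_iff.1 hbC).symm)).pow_right m).eq, mul_assoc] at e
      rw [hm, eq_one_of_odd_of_mul_self (hodd m) (mul_eq_left.1 e.symm), mul_one]
    have huC : u ∈ centralizer ({z} : Set G) :=
      mem_centralizer_singleton_iff.2 ((invol_fix_iff h.zz u).1 hu).symm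
    constructor
    · rw [show (3 : ℕ) = Nat.card (zpowers b) by rw [Nat.card_zpowers, hb]]
      refine (Nat.card_eq_of_bijective (fun p : zpowers b =>
        (⟨u * p.1, ?_⟩ : {w : G // IsI w ∧ w ∈ centralizer ({z} : Set G) ∧ w * x = x * w}))
        ⟨fun p q e => Subtype.ext (mul_left_cancel (congrArg Subtype.val e :)), ?_⟩).symm
      · obtain ⟨j, hj⟩ := (isOfFinOrder_of_finite b).mem_powers_iff_mem_zpowers.2 p.2
        dsimp only at hj
        rw [← hj]
        exact ⟨(hub j).1, mul_mem huC (pow_mem hbC j), (hub j).2⟩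
      · rintro ⟨w, hw, -, hwx⟩
        obtain ⟨j, hj⟩ := D.invol w (mem_centralizer_singleton_iff.2 hwx) hw
        exact ⟨⟨b ^ j, npow_mem_zpowers b j⟩, Subtype.ext hj.symm⟩
    · have hbb : b ≠ b⁻¹ := fun e => by
        have h2 := eq_one_of_odd_of_mul_self (show Odd (orderOf b) by rw [hb]; decide)
          (by nth_rw 2 [e]; exact mul_inv_cancel b)
        rw [h2, orderOf_one] at hb; norm_num at hb
      rw [← Set.ncard_pair hbb, ← Nat.card_coe_set_eq]
      refine Nat.card_congr (Equiv.subtypeEquivRight fun e => ⟨fun he => three_in_five hx5 D he.1.2 he.2, ?_⟩)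
      intro he
      rcases he with he | he <;> rw [he]
      · exact ⟨⟨hbC, hb⟩, D.commb⟩
      · exact ⟨⟨inv_mem hbC, by rw [orderOf_inv, hb]⟩, (show Commute b x from D.commb).inv_left.eq⟩
  · intro hA
    have hi : z * b * z = b⁻¹ := hzb.resolve_left fun hf => hA (hyes hf)
    refine ⟨?_, u, b, D, hi⟩
    have hfix : ∀ j : ℕ, z * (u * b ^ j) * z = u * (b ^ m * (b ^ j)⁻¹) := fun j => by
      rw [invol_conj_mul_map h.zz, hm, inv_pow_inv h.zz hi, mul_assoc]
    have hex : z * (u * b ^ (2 * m)) * z = u * b ^ (2 * m) := by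
      rw [hfix]
      congr 1
      rw [mul_inv_eq_iff_eq_mul, ← pow_add, show 2 * m + 2 * m = 3 * m + m by ring, pow_add, pow_mul,
        show b ^ 3 = 1 from orderOf_dvd_iff_pow_eq_one.1 hb.dvd, one_pow, one_mul]
    refine Nat.card_eq_one_iff_unique.2 ⟨⟨?_⟩, ⟨⟨_, (hub (2 * m)).1,
      mem_centralizer_singleton_iff.2 ((invol_fix_iff h.zz _).1 hex).symm, (hub (2 * m)).2⟩⟩⟩
    rintro ⟨w, hw, hwC, hwx⟩ ⟨w', hw', hwC', hwx'⟩
    obtain ⟨i, rfl⟩ := D.invol w (mem_centralizer_singleton_iff.2 hwx) hw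
    obtain ⟨j, rfl⟩ := D.invol w' (mem_centralizer_singleton_iff.2 hwx') hw'
    have ei := (invol_fix_iff h.zz _).2 (mem_centralizer_singleton_iff.1 hwC).symm
    have ej := (invol_fix_iff h.zz _).2 (mem_centralizer_singleton_iff.1 hwC').symm
    rw [hfix] at ei ej
    have ei' := mul_inv_eq_iff_eq_mul.1 (mul_left_cancel ei)
    have ej' := mul_inv_eq_iff_eq_mul.1 (mul_left_cancel ej)
    have key : ((b ^ i)⁻¹ * b ^ j) * ((b ^ i)⁻¹ * b ^ j) = 1 := by
      have hc : Commute (b ^ i)⁻¹ (b ^ j) := ((Commute.refl b).pow_pow i j).inv_left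
      calc (b ^ i)⁻¹ * b ^ j * ((b ^ i)⁻¹ * b ^ j) = (b ^ i)⁻¹ * (b ^ j * (b ^ i)⁻¹) * b ^ j := by group
        _ = (b ^ i * b ^ i)⁻¹ * (b ^ j * b ^ j) := by rw [← hc.eq]; group
        _ = 1 := by rw [← ei', ← ej', inv_mul_cancel]
    have hone : (b ^ i)⁻¹ * b ^ j = 1 := eq_one_of_odd_of_mul_self
      ((show Odd (orderOf b) by rw [hb]; decide).of_dvd_nat (orderOf_dvd_of_mem_zpowers
        (mul_mem (inv_mem (npow_mem_zpowers b i)) (npow_mem_zpowers b j)))) key
    exact Subtype.ext (congrArg (u * ·) (inv_mul_eq_one.1 hone))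

theorem hasThree_iff {x : G} (hx5 : orderOf x = 5) {e : G} (he : e ∈ centralizer ({z} : Set G))
    (heo : orderOf e = 3) : (IsInv z x ∧ e * x = x * e) ↔ ((x ∈ centralizer ({e} : Set G) ∧ IsInv z x) ∧ x ^ 5 = 1) :=
  ⟨fun a => ⟨⟨mem_centralizer_singleton_iff.2 a.2.symm, a.1⟩, orderOf_dvd_iff_pow_eq_one.1 hx5.dvd⟩,
    fun a => ⟨a.1.2, (mem_centralizer_singleton_iff.1 a.1.1).symm⟩⟩

theorem card_five_three : Nat.card {x : G // (IsInv z x ∧ orderOf x = 5) ∧ HasThree z x} = 640 := by
  let R : G → G → Prop := fun x e =>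
    ((IsInv z x ∧ orderOf x = 5) ∧ HasThree z x) ∧ (e ∈ centralizer ({z} : Set G) ∧ orderOf e = 3) ∧ e * x = x * e
  have e1 := card_pairs R (fun x => (IsInv z x ∧ orderOf x = 5) ∧ HasThree z x) (fun x e a => a.1) (k := 2)
    (fun x hx => by
      rw [← ((h.card_fixed_invol hx.1.1 hx.1.2).1 hx.2).2]
      exact Nat.card_congr (Equiv.subtypeEquivRight fun e => ⟨fun a => a.2, fun a => ⟨hx, a⟩⟩))
  have e2 := card_pairs_right R (fun e => e ∈ centralizer ({z} : Set G) ∧ orderOf e = 3) (fun x e a => a.2.1)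
    (k := 16) (fun e he => by
      rw [← (h.X_big he.1 he.2).2.1]
      refine Nat.card_congr (Equiv.subtypeEquivRight fun x => ⟨fun a => ?_, fun a => ?_⟩)
      · exact (h.hasThree_iff a.1.1.2 he.1 he.2).1 ⟨a.1.1.1, a.2.2⟩
      · have hx5 : orderOf x = 5 := by
          haveI : Fact (Nat.Prime 5) := ⟨Nat.prime_five⟩
          exact orderOf_eq_prime a.2 a.1.2.1
        have hc := (mem_centralizer_singleton_iff.1 a.1.1).symm
        exact ⟨⟨⟨a.1.2, hx5⟩, e, he.1, he.2, hc⟩, he, hc⟩)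
  rw [h.card_order_three] at e2
  omega

theorem card_five_rest : Nat.card {x : G // (IsInv z x ∧ orderOf x = 5) ∧ ¬ HasThree z x} = 1920 := by
  obtain ⟨w₀, hw₀⟩ := h.exists_out
  let R : G → G → Prop := fun x w =>
    (IsInv z x ∧ orderOf x = 5) ∧ IsI w ∧ w ∈ centralizer ({z} : Set G) ∧ w * x = x * w
  have e2 := card_pairs_right R (fun w => Out z Q w) (fun x w a => h.pair_out a.2.1 a.2.2.1 a.1.1 a.1.2 a.2.2.2)
    (k := 32) (fun w hw => by
      rw [← h.card_inverted_in hw]
      exact Nat.card_congr (Equiv.subtypeEquivRight fun x => ⟨fun a => ⟨a.1, a.2.2.2⟩,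
        fun a => ⟨a.1, h.out_isI hw, hw.1, a.2⟩⟩))
  rw [h.card_out hw₀] at e2
  have e3 := card_pairs (fun x w => R x w ∧ HasThree z x) (fun x => (IsInv z x ∧ orderOf x = 5) ∧ HasThree z x)
    (fun x w a => ⟨a.1.1, a.2⟩) (k := 3) (fun x hx => by
      rw [← ((h.card_fixed_invol hx.1.1 hx.1.2).1 hx.2).1]
      exact Nat.card_congr (Equiv.subtypeEquivRight fun w => ⟨fun a => a.1.2, fun a => ⟨⟨hx.1, a⟩, hx.2⟩⟩))
  have e4 := card_pairs (fun x w => R x w ∧ ¬ HasThree z x) (fun x => (IsInv z x ∧ orderOf x = 5) ∧ ¬ HasThree z x)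
    (fun x w a => ⟨a.1.1, a.2⟩) (k := 1) (fun x hx => by
      rw [← ((h.card_fixed_invol hx.1.1 hx.1.2).2 hx.2).1]
      exact Nat.card_congr (Equiv.subtypeEquivRight fun w => ⟨fun a => a.1.2, fun a => ⟨⟨hx.1, a⟩, hx.2⟩⟩))
  have hsplit := card_split (fun p : G × G => R p.1 p.2) (fun p => HasThree z p.1)
  rw [e2, e3, e4, h.card_five_three] at hsplit
  omega

theorem card_five_inverted : Nat.card {x : G // IsInv z x ∧ orderOf x = 5} = 2560 := by
  rw [card_split _ (HasThree z), h.card_five_three, h.card_five_rest]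

theorem card_fifteen : Nat.card {x : G // IsInv z x ∧ orderOf x = 15} = 3840 := by
  let R : G → G → Prop := fun f x =>
    ((IsInv z f ∧ orderOf f = 5) ∧ ¬ HasThree z f) ∧ (IsInv z x ∧ orderOf x = 15) ∧ x ^ 6 = f
  have e1 := card_pairs_right R (fun x => IsInv z x ∧ orderOf x = 15) (fun f x a => a.2.1) (k := 1)
    (fun x hx => by
      have ho : orderOf (x ^ 6) = 5 := by rw [orderOf_pow, hx.2]; rfl
      have hi : IsInv z (x ^ 6) := ⟨fun e => by rw [e, orderOf_one] at ho; norm_num at ho, by rw [ho]; decide,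
        inv_pow_inv h.zz hx.1.2.2 6⟩
      refine Nat.card_eq_one_iff_unique.2 ⟨⟨fun a b => Subtype.ext (a.2.2.2.symm.trans b.2.2.2)⟩,
        ⟨⟨x ^ 6, ⟨⟨hi, ho⟩, ?_⟩, hx, rfl⟩⟩⟩
      intro hA
      obtain ⟨e, he, heo, hex⟩ := hA
      obtain ⟨u, b, D⟩ := h.five_data ho
      have h10 : orderOf (x ^ 10) = 3 := by rw [orderOf_pow, hx.2]; rfl
      have h10i := inv_pow_inv h.zz hx.1.2.2 10
      have hei : z * e * z = e⁻¹ := by
        have hbi : z * b * z = b⁻¹ := by
          rcases three_in_five ho D h10 (pow_mul_comm x 10 6) with e1 | e1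
          · rw [← e1]; exact h10i
          · rw [e1, invol_conj_inv_map h.zz] at h10i
            exact inv_injective h10i
        rcases three_in_five ho D heo hex with rfl | rfl
        · exact hbi
        · rw [invol_conj_inv_map h.zz, hbi]
      have := fix_inv_one (by rw [heo]; decide) hei ((invol_fix_iff h.zz e).2 (mem_centralizer_singleton_iff.1 he).symm)
      rw [this, orderOf_one] at heo; norm_num at heo)
  have e2 := card_pairs R (fun f => (IsInv z f ∧ orderOf f = 5) ∧ ¬ HasThree z f) (fun f x a => a.1) (k := 2)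
    (fun f hf => by
      obtain ⟨-, u, b, D, hbi⟩ := (h.card_fixed_invol hf.1.1 hf.1.2).2 hf.2
      have hb := D.yclass.1
      have hf6 : f ^ 6 = f := by
        rw [show 6 = 5 + 1 from rfl, pow_succ, show f ^ 5 = 1 from orderOf_dvd_iff_pow_eq_one.1 hf.1.2.dvd, one_mul]
      have hm : ∀ c, c = b ∨ c = b⁻¹ → R f (f * c) := by
        intro c hc
        have hco : orderOf c = 3 := by rcases hc with rfl | rfl <;> simp [hb]
        have hfc : Commute f c := by
          rcases hc with rfl | rfl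
          · exact D.commb.symm
          · exact (show Commute f b from D.commb.symm).inv_right
        have hci : z * c * z = c⁻¹ := by
          rcases hc with rfl | rfl
          · exact hbi
          · rw [invol_conj_inv_map h.zz, hbi]
        have h15 : orderOf (f * c) = 15 := by
          rw [hfc.orderOf_mul_eq_mul_orderOf_of_coprime (by rw [hf.1.2, hco]; norm_num), hf.1.2, hco]
        refine ⟨hf, ⟨⟨fun e => by rw [e, orderOf_one] at h15; norm_num at h15, by rw [h15]; decide, ?_⟩, h15⟩, ?_⟩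
        · rw [invol_conj_mul_map h.zz, hf.1.1.2.2, hci, _root_.mul_inv_rev, hfc.inv_inv.eq]
        · rw [hfc.mul_pow, hf6, show 6 = 3 * 2 from rfl, pow_mul,
            show c ^ 3 = 1 from orderOf_dvd_iff_pow_eq_one.1 hco.dvd, one_pow, mul_one]
      have hne : f * b ≠ f * b⁻¹ := fun e => by
        have h2 := eq_one_of_odd_of_mul_self (show Odd (orderOf b) by rw [hb]; decide)
          (by nth_rw 2 [mul_left_cancel e]; exact mul_inv_cancel b)
        rw [h2, orderOf_one] at hb; norm_num at hb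
      rw [← Set.ncard_pair hne, ← Nat.card_coe_set_eq]
      refine Nat.card_congr (Equiv.subtypeEquivRight fun x => ⟨?_, fun hx => ?_⟩)
      · rintro ⟨-, ⟨hx, hxo⟩, hx6⟩
        obtain ⟨i, j, rfl⟩ := D.odd x (mem_centralizer_singleton_iff.2 (by
          rw [← hx6, ← pow_succ, ← pow_succ'])) hx.2.1
        have hfb : Commute (f ^ i) (b ^ j) := (show Commute f b from D.commb.symm).pow_pow i j
        have e6 : f ^ i = f := by
          rw [hfb.mul_pow, ← pow_mul, mul_comm i, pow_mul, hf6, ← pow_mul b, show j * 6 = 3 * (j * 2) by ring,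
            pow_mul b, show b ^ 3 = 1 from orderOf_dvd_iff_pow_eq_one.1 hb.dvd, one_pow, mul_one] at hx6
          exact hx6
        rw [e6] at hxo ⊢
        simp only [Set.mem_insert_iff, Set.mem_singleton_iff]
        rcases order_three_pow hb j with e | e | e
        · rw [e, mul_one, hf.1.2] at hxo; norm_num at hxo
        · exact Or.inl (by rw [e])
        · exact Or.inr (by rw [e])
      · simp only [Set.mem_insert_iff, Set.mem_singleton_iff] at hx
        rcases hx with rfl | rfl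
        · exact hm b (Or.inl rfl)
        · exact hm b⁻¹ (Or.inr rfl))
  rw [h.card_five_rest] at e2
  omega

theorem card_u : Nat.card {x : G // IsU z x} = 640 := by
  let R : G → G → Prop := fun x e => IsU z x ∧ (e ∈ centralizer ({z} : Set G) ∧ orderOf e = 3) ∧ e * x = x * e
  have e2 := card_pairs_right R (fun e => e ∈ centralizer ({z} : Set G) ∧ orderOf e = 3) (fun x e a => a.2.1)
    (k := 16) (fun e he => by
      obtain ⟨h32, h16, hcl⟩ := h.X_big he.1 he.2
      have hs := card_split (fun x => x ∈ centralizer ({e} : Set G) ∧ IsInv z x) (fun x => x ^ 5 = 1)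
      rw [h32, h16] at hs
      rw [show 16 = Nat.card {x : G // (x ∈ centralizer ({e} : Set G) ∧ IsInv z x) ∧ ¬ x ^ 5 = 1} by omega]
      refine Nat.card_congr (Equiv.subtypeEquivRight fun x => ⟨fun a => ?_, fun a => ?_⟩)
      · refine ⟨⟨mem_centralizer_singleton_iff.2 a.2.2.symm, a.1.1⟩, fun h5 => a.1.1.1 ?_⟩
        exact orderOf_eq_one_iff.1 (Nat.eq_one_of_dvd_coprimes (by norm_num : Nat.Coprime 5 3)
          (orderOf_dvd_of_pow_eq_one h5) (orderOf_dvd_of_pow_eq_one a.1.2.1))
      · have hc := (mem_centralizer_singleton_iff.1 a.1.1).symm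
        rcases hcl x a.1.1 a.1.2 with ⟨h5, -⟩ | ⟨h3, -⟩
        · exact absurd h5 a.2
        · refine ⟨⟨a.1.2, h3, fun hY => ?_, e, he.1, he.2, hc⟩, he, hc⟩
          obtain ⟨-, -, -, -, -, hno⟩ := h.yclass_fixed hY a.1.2.2.2
          exact hno e he.1 hc he.2)
  have e1 := card_pairs R (IsU z) (fun x e a => a.1) (k := 2) (fun x hx => by
    obtain ⟨hxi, hx3, hY, e, he, heo, hex⟩ := hx
    have hxo : orderOf x = 3 := by haveI : Fact (Nat.Prime 3) := ⟨Nat.prime_three⟩; exact orderOf_eq_prime hx3 hxi.1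
    set D := centralizer ({x} : Set G) ⊓ centralizer ({z} : Set G) with hD
    have hDno : ∀ p, p.Prime → p ∣ Nat.card D → p = 3 := by
      intro p hp hpd
      haveI := Fact.mk hp
      obtain ⟨c, hc⟩ := exists_prime_orderOf_dvd_card' (G := D) p hpd
      rw [← Subgroup.orderOf_coe] at hc
      have hcx := mem_centralizer_singleton_iff.1 c.2.1
      have hd := orderOf_dvd_natCard _ c.2.2
      rw [hc, h.card_C, show 1920 = 2 ^ 7 * 3 * 5 from rfl] at hd
      rcases (Nat.Prime.dvd_mul hp).1 hd with hd | hd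
      · rcases (Nat.Prime.dvd_mul hp).1 hd with hd | hd
        · obtain rfl : p = 2 := (Nat.prime_dvd_prime_iff_eq hp Nat.prime_two).1 (hp.dvd_of_dvd_pow hd)
          exact absurd ⟨hxo, (c : G), isI_iff.2 hc, c.2.1⟩ hY
        · exact (Nat.prime_dvd_prime_iff_eq hp Nat.prime_three).1 hd
      · obtain rfl : p = 5 := (Nat.prime_dvd_prime_iff_eq hp Nat.prime_five).1 hd
        obtain ⟨b, Df⟩ := h.five_centralizer c.2.2 hc
        rcases three_in_five hc Df hxo hcx.symm with rfl | rfl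
        · exact absurd Df.yclass hY
        · obtain ⟨hb, w, hw, hwb⟩ := Df.yclass
          exact absurd ⟨hxo, w, hw, mem_centralizer_singleton_iff.2
            ((show Commute w b from mem_centralizer_singleton_iff.1 hwb).inv_right).eq⟩ hY
    have h3 : Nat.card D = 3 := by
      have h3d : 3 ∣ Nat.card D := heo ▸ orderOf_dvd_natCard D
        ⟨mem_centralizer_singleton_iff.2 hex, he⟩
      obtain ⟨n, hn⟩ : ∃ n, Nat.card D = 3 ^ n := ⟨_, Nat.eq_prime_pow_of_unique_prime_dvd Nat.card_pos.ne'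
        fun {p} hp hpd => hDno p hp hpd⟩
      have hd : Nat.card D ∣ 1920 := h.card_C ▸ card_dvd_of_le inf_le_right
      have hn1 : n ≤ 1 := by
        by_contra hn1
        rw [hn] at hd
        exact absurd ((pow_dvd_pow 3 (show 2 ≤ n by omega)).trans hd) (by norm_num)
      interval_cases n <;> omega
    have heq : zpowers e = D := eq_of_le_of_card_ge
      (zpowers_le.2 ⟨mem_centralizer_singleton_iff.2 hex, he⟩) (by rw [Nat.card_zpowers, heo, h3])
    have hee : e ≠ e⁻¹ := fun e1 => by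
      have h2 := eq_one_of_odd_of_mul_self (show Odd (orderOf e) by rw [heo]; decide)
        (by nth_rw 2 [e1]; exact mul_inv_cancel e)
      rw [h2, orderOf_one] at heo; norm_num at heo
    rw [← Set.ncard_pair hee, ← Nat.card_coe_set_eq]
    refine Nat.card_congr (Equiv.subtypeEquivRight fun c => ⟨?_, fun hc => ?_⟩)
    · rintro ⟨-, ⟨hc, hco⟩, hcx⟩
      simp only [Set.mem_insert_iff, Set.mem_singleton_iff]
      have hm : c ∈ zpowers e := heq ▸ ⟨mem_centralizer_singleton_iff.2 hcx, hc⟩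
      exact (JTwo.pow_cases_three heo hm).resolve_left fun e1 => by rw [e1, orderOf_one] at hco; norm_num at hco
    · simp only [Set.mem_insert_iff, Set.mem_singleton_iff] at hc
      refine ⟨⟨hxi, hx3, hY, e, he, heo, hex⟩, ?_⟩
      rcases hc with rfl | rfl
      · exact ⟨⟨he, heo⟩, hex⟩
      · exact ⟨⟨inv_mem he, by rw [orderOf_inv, heo]⟩, (show Commute e x from hex).inv_left.eq⟩)
  rw [h.card_order_three] at e2
  omega

/-- The number of inverted elements. -/
theorem card_inv : Nat.card {x : G // IsInv z x} = 7232 + Nat.card {x : G // IsFree z x} := by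
  rw [card_split _ (fun x : G => orderOf x = 5), h.card_five_inverted,
    card_split (fun x : G => IsInv z x ∧ ¬ orderOf x = 5) (fun x : G => orderOf x = 15),
    card_split (fun x : G => (IsInv z x ∧ ¬ orderOf x = 5) ∧ ¬ orderOf x = 15) YClass,
    card_split (fun x : G => ((IsInv z x ∧ ¬ orderOf x = 5) ∧ ¬ orderOf x = 15) ∧ ¬ YClass x) (IsU z)]
  have c1 : Nat.card {x : G // (IsInv z x ∧ ¬ orderOf x = 5) ∧ orderOf x = 15} = 3840 := by
    rw [← h.card_fifteen]
    exact Nat.card_congr (Equiv.subtypeEquivRight fun x => ⟨fun a => ⟨a.1.1, a.2⟩,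
      fun a => ⟨⟨a.1, by rw [a.2]; norm_num⟩, a.2⟩⟩)
  have c2 : Nat.card {x : G // ((IsInv z x ∧ ¬ orderOf x = 5) ∧ ¬ orderOf x = 15) ∧ YClass x} = 192 := by
    rw [← h.card_yclass]
    exact Nat.card_congr (Equiv.subtypeEquivRight fun x => ⟨fun a => ⟨a.2, a.1.1.1⟩,
      fun a => ⟨⟨⟨a.2, by rw [a.1.1]; norm_num⟩, by rw [a.1.1]; norm_num⟩, a.1⟩⟩)
  have c3 : Nat.card {x : G // (((IsInv z x ∧ ¬ orderOf x = 5) ∧ ¬ orderOf x = 15) ∧ ¬ YClass x) ∧ IsU z x} = 640 := by
    rw [← h.card_u]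
    refine Nat.card_congr (Equiv.subtypeEquivRight fun x => ⟨fun a => a.2, fun a => ?_⟩)
    have ho : orderOf x = 3 := by haveI : Fact (Nat.Prime 3) := ⟨Nat.prime_three⟩; exact orderOf_eq_prime a.2.1 a.1.1
    exact ⟨⟨⟨⟨a.1, by rw [ho]; norm_num⟩, by rw [ho]; norm_num⟩, a.2.2.1⟩, a⟩
  have c4 : Nat.card {x : G // (((IsInv z x ∧ ¬ orderOf x = 5) ∧ ¬ orderOf x = 15) ∧ ¬ YClass x) ∧ ¬ IsU z x} =
      Nat.card {x : G // IsFree z x} := by
    refine Nat.card_congr (Equiv.subtypeEquivRight fun x => ⟨?_, ?_⟩)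
    · rintro ⟨⟨⟨⟨hx, h5⟩, h15⟩, hY⟩, hU⟩
      refine ⟨hx, h15, fun c hc hcx => by_contra fun hc1 => ?_⟩
      rcases h.d_cases hx hc hc1 hcx with e | e | e
      · exact hY e
      · exact h5 e
      · exact hU e
    · rintro ⟨hx, h15, hfree⟩
      refine ⟨⟨⟨⟨hx, fun h5 => ?_⟩, h15⟩, fun hY => ?_⟩, fun hU => ?_⟩
      · obtain ⟨w, hw, hwC, hwx⟩ : ∃ w, IsI w ∧ w ∈ centralizer ({z} : Set G) ∧ w * x = x * w := by
          by_cases hA : HasThree z x
          · have e := ((h.card_fixed_invol hx h5).1 hA).1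
            obtain ⟨w⟩ := (Nat.card_pos_iff.1 (by rw [e]; norm_num :
              0 < Nat.card {w : G // IsI w ∧ w ∈ centralizer ({z} : Set G) ∧ w * x = x * w})).1
            exact ⟨w.1, w.2⟩
          · have e := ((h.card_fixed_invol hx h5).2 hA).1
            obtain ⟨w⟩ := (Nat.card_pos_iff.1 (by rw [e]; norm_num :
              0 < Nat.card {w : G // IsI w ∧ w ∈ centralizer ({z} : Set G) ∧ w * x = x * w})).1
            exact ⟨w.1, w.2⟩
        exact hw.2 (hfree w hwC hwx)
      · obtain ⟨c, hc, hc1, hcx, -⟩ := h.yclass_fixed hY hx.2.2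
        exact hc1 (hfree c hc hcx)
      · obtain ⟨-, -, -, e, he, heo, hex⟩ := hU
        rw [hfree e he hex, orderOf_one] at heo
        norm_num at heo
  rw [c1, c2, c3, c4]
  ring

/-- The number of involutions. -/
theorem card_n : Nat.card {t : G // IsI t} = 16563 + Nat.card {x : G // IsFree z x} := by
  rw [h.card_invol, h.card_inv]; ring

end Big

end CfsgLib.Invol.JThreeType
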