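import Cfsg.Agent.Lib.Invol.JThreeType.Classes
import Cfsg.Agent.Lib.Spor.UFourType.InvolFixed

/-!
# Inverted elements and elements of the class of the three-element
-/

set_option autoImplicit false
set_option synthInstance.maxSize 4096

namespace CfsgLib.Invol.JThreeType

open Subgroup
open CfsgLib.Invol.JTwo (PreHyp Frame Out cj mem_cj card_orbit_mul cyc mem_cyc card_cyc)

variable {G : Type*} [Group G] {z : G}

theorem yclass_conj (g : G) {x : G} (hx : YClass x) : YClass (g * x * g⁻¹) := by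
  obtain ⟨hx3, u, hu, hux⟩ := hx
  refine ⟨by rw [← MulAut.conj_apply, MulEquiv.orderOf_eq, hx3], g * u * g⁻¹, isI_conj g hu,
    mem_centralizer_singleton_iff.2 ?_⟩
  rw [show g * u * g⁻¹ * (g * x * g⁻¹) = g * (u * x) * g⁻¹ by group, mem_centralizer_singleton_iff.1 hux]
  group

theorem yclass_inv {x : G} (hx : YClass x) : YClass x⁻¹ := by
  obtain ⟨hx3, u, hu, hux⟩ := hx
  exact ⟨by rw [orderOf_inv, hx3], u, hu,
    mem_centralizer_singleton_iff.2 ((show Commute u x from mem_centralizer_singleton_iff.1 hux).inv_right).eq⟩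

theorem isInv_conj (hz : z * z = 1) {c x : G} (hc : c ∈ centralizer ({z} : Set G)) (hx : IsInv z x) :
    IsInv z (c * x * c⁻¹) := by
  have hzc : z * c * z = c := (invol_fix_iff hz c).2 (mem_centralizer_singleton_iff.1 hc).symm
  refine ⟨fun e => hx.1 (conj_eq_one_iff.1 e), by rw [← MulAut.conj_apply, MulEquiv.orderOf_eq]; exact hx.2.1, ?_⟩
  rw [invol_conj_mul_map hz, invol_conj_mul_map hz, invol_conj_inv_map hz, hzc, hx.2.2]
  group

theorem isInv_inv (hz : z * z = 1) {x : G} (hx : IsInv z x) : IsInv z x⁻¹ :=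
  ⟨inv_ne_one.2 hx.1, by rw [orderOf_inv]; exact hx.2.1, by rw [invol_conj_inv_map hz, hx.2.2]⟩

theorem isU_conj (hz : z * z = 1) {c x : G} (hc : c ∈ centralizer ({z} : Set G)) (hx : IsU z x) :
    IsU z (c * x * c⁻¹) := by
  obtain ⟨hi, h3, hY, e, he, heo, hex⟩ := hx
  refine ⟨isInv_conj hz hc hi, by rw [conj_pow, h3]; group, fun hY' => hY ?_, c * e * c⁻¹,
    mul_mem (mul_mem hc he) (inv_mem hc), by rw [← MulAut.conj_apply, MulEquiv.orderOf_eq, heo], ?_⟩
  · have := yclass_conj c⁻¹ hY'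
    rwa [show c⁻¹ * (c * x * c⁻¹) * c⁻¹⁻¹ = x by group] at this
  · rw [show c * e * c⁻¹ * (c * x * c⁻¹) = c * (e * x) * c⁻¹ by group, hex]; group

theorem isU_inv (hz : z * z = 1) {x : G} (hx : IsU z x) : IsU z x⁻¹ := by
  obtain ⟨hi, h3, hY, e, he, heo, hex⟩ := hx
  exact ⟨isInv_inv hz hi, by rw [inv_pow, h3, inv_one], fun hY' => hY (inv_inv x ▸ yclass_inv hY'), e, he, heo,
    (show Commute e x from hex).inv_right.eq⟩

theorem isFree_conj (hz : z * z = 1) {c x : G} (hc : c ∈ centralizer ({z} : Set G)) (hx : IsFree z x) :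
    IsFree z (c * x * c⁻¹) := by
  refine ⟨isInv_conj hz hc hx.1, by rw [← MulAut.conj_apply, MulEquiv.orderOf_eq]; exact hx.2.1,
    fun d hd hdx => ?_⟩
  have e : c⁻¹ * d * c = 1 := hx.2.2 _ (mul_mem (mul_mem (inv_mem hc) hd) hc) (by
    calc c⁻¹ * d * c * x = c⁻¹ * (d * (c * x * c⁻¹)) * c := by group
      _ = c⁻¹ * (c * x * c⁻¹ * d) * c := by rw [hdx]
      _ = x * (c⁻¹ * d * c) := by group)
  calc d = c * (c⁻¹ * d * c) * c⁻¹ := by group
    _ = 1 := by rw [e]; group

/-- Conjugation by `z` preserves the centralizer of an inverted element. -/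
theorem cent_norm (hz : z * z = 1) {x a : G} (hx : z * x * z = x⁻¹) (ha : a ∈ centralizer ({x} : Set G)) :
    z * a * z ∈ centralizer ({x} : Set G) := by
  refine mem_centralizer_singleton_iff.2 ?_
  have e : z * x⁻¹ * z = x := by rw [← hx, invol_conj_twice hz]
  calc z * a * z * x = z * a * z * (z * x⁻¹ * z) := by rw [e]
    _ = z * (a * x⁻¹) * z := (invol_conj_mul_map hz a x⁻¹).symm
    _ = z * (x⁻¹ * a) * z := by
      rw [(show Commute a x from mem_centralizer_singleton_iff.1 ha).inv_right.eq]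
    _ = x * (z * a * z) := by rw [invol_conj_mul_map hz, e]

theorem isU_order {x : G} (hx : IsU z x) : orderOf x = 3 := by
  haveI : Fact (Nat.Prime 3) := ⟨Nat.prime_three⟩
  exact orderOf_eq_prime hx.2.1 hx.1.1

/-- No involution centralises an element of the set `U`. -/
theorem u_no_invol {u : G} (hu : IsU z u) {w : G} (hw : IsI w) : w * u ≠ u * w := fun e =>
  hu.2.2.1 ⟨isU_order hu, w, hw, mem_centralizer_singleton_iff.2 e⟩

theorem u_odd [Finite G] {u : G} (hu : IsU z u) {a : G} (ha : a ∈ centralizer ({u} : Set G)) :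
    Odd (orderOf a) := by
  rw [← Nat.not_even_iff_odd]
  intro he
  exact u_no_invol hu (exists_invol_half he)
    ((show Commute a u from mem_centralizer_singleton_iff.1 ha).pow_left _).eq

namespace Big

variable [Finite G] {Q : Subgroup G} (h : Big z Q)
include h

/-- In the centralizer of `y`, an element of order prime to five is inverted modulo `y`. -/
theorem quot_three {y : G} (hyC : y ∈ centralizer ({z} : Set G)) (hy : orderOf y = 3) {v : XQ y}
    (hvo : Odd (orderOf v)) (h5 : ¬ 5 ∣ orderOf v) :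
    v ^ 3 = 1 ∧ ∃ w : XQ y, orderOf w = 2 ∧ w * v * w = v⁻¹ := by
  classical
  have E := h.eight hyC hy
  have hX := h.card_X hyC hy
  rw [h.big y hyC hy] at hX
  set zb := QuotientGroup.mk' (cyc y) (h.zX hyC hy)
  rcases E.cases with ⟨e, -⟩ | ⟨hH, h32, h16, hcl⟩
  · exact absurd (hX.trans (congrArg (3 * ·) e)) (by norm_num)
  obtain ⟨v0, hv0, hv05⟩ : ∃ v0, IsOddInv zb v0 ∧ v0 ^ 5 ≠ 1 := by
    by_contra hall
    push Not at hall
    have : Nat.card {x : XQ y // IsOddInv zb x} ≤ Nat.card {x : XQ y // IsOddInv zb x ∧ x ^ 5 = 1} :=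
      Nat.card_le_card_of_injective (fun x => ⟨x.1, x.2, hall x.1 x.2⟩)
        fun a b e => Subtype.ext (congrArg Subtype.val e :)
    exact absurd (h32.symm.le.trans (this.trans h16.le)) (by norm_num)
  have h9 : Nat.card (centralizer ({v0} : Set (XQ y))) = 9 := by
    rcases hcl v0 hv0 with ⟨e, -, -⟩ | ⟨-, e⟩
    · exact absurd e hv05
    · exact e
  set P0 := centralizer ({v0} : Set (XQ y)) with hP0
  have hzz := invol_mul_self E.ord
  have hodd0 : ∀ a ∈ P0, Odd (orderOf a) := fun a ha =>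
    (show Odd 9 by decide).of_dvd_nat (h9 ▸ orderOf_dvd_natCard P0 ha)
  obtain ⟨hinv0, -⟩ := fixfree_inverts hzz P0 hodd0 (fun a ha => cent_norm hzz hv0.2.2 ha)
    fun a ha hc => E.odd_commute E.ord (hodd0 a ha) hc.symm
  have hcube0 : ∀ a ∈ P0, a ^ 3 = 1 := fun a ha => by
    by_cases ha1 : a = 1
    · rw [ha1, one_pow]
    · rcases hcl a ⟨ha1, hodd0 a ha, hinv0 a ha⟩ with ⟨e, -, -⟩ | ⟨e, -⟩
      · exact absurd (orderOf_eq_one_iff.1 (Nat.eq_one_of_dvd_coprimes (by norm_num : Nat.Coprime 5 9)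
          (orderOf_dvd_of_pow_eq_one e) (h9 ▸ orderOf_dvd_natCard P0 ha))) ha1
      · exact e
  haveI : Fact (Nat.Prime 3) := ⟨Nat.prime_three⟩
  obtain ⟨S, hS⟩ := (IsPGroup.of_card (p := 3) (n := 2) (G := P0) h9).exists_le_sylow
  have hSP : P0 = (S : Subgroup (XQ y)) := by
    refine eq_of_le_of_card_ge hS ?_
    obtain ⟨n, hn⟩ := IsPGroup.iff_card.1 S.isPGroup'
    have hd := card_subgroup_dvd_card (S : Subgroup (XQ y))
    rw [hn, hH] at hd
    have : n ≤ 2 := by
      by_contra hh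
      exact absurd ((pow_dvd_pow 3 (show 3 ≤ n by omega)).trans hd) (by norm_num)
    rw [hn, h9]
    exact Nat.pow_le_pow_right (by norm_num) this
  have h45 : orderOf v ∣ 45 := by
    have hd : orderOf v ∣ 2 ^ 3 * 45 := (_root_.orderOf_dvd_natCard v).trans (dvd_of_eq hH)
    exact ((Nat.coprime_two_right.2 hvo).pow_right 3).dvd_of_dvd_mul_left hd
  have hd9 : orderOf v ∣ 3 ^ 2 :=
    (Nat.Coprime.symm ((Nat.prime_five.coprime_iff_not_dvd).2 h5)).dvd_of_dvd_mul_right
      (show orderOf v ∣ 3 ^ 2 * 5 from h45)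
  obtain ⟨T, hT⟩ := (IsPGroup.iff_card.2 (by
    obtain ⟨k, -, hk⟩ := (Nat.dvd_prime_pow Nat.prime_three).1 hd9
    exact ⟨k, by rw [Nat.card_zpowers, hk]⟩) : IsPGroup 3 (zpowers v)).exists_le_sylow
  obtain ⟨g, hg⟩ := MulAction.exists_smul_eq (XQ y) T S
  have hm : g * v * g⁻¹ ∈ P0 := by
    rw [hSP, ← hg, Sylow.coe_subgroup_smul]
    exact ⟨v, hT (mem_zpowers v), rfl⟩
  refine ⟨?_, g⁻¹ * zb * g, ?_, ?_⟩
  · have := hcube0 _ hm
    rwa [conj_pow, conj_eq_one_iff] at this
  · rw [show g⁻¹ * zb * g = g⁻¹ * zb * g⁻¹⁻¹ by group, ← MulAut.conj_apply, MulEquiv.orderOf_eq, E.ord]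
  · calc g⁻¹ * zb * g * v * (g⁻¹ * zb * g) = g⁻¹ * (zb * (g * v * g⁻¹) * zb) * g := by group
      _ = v⁻¹ := by rw [hinv0 _ hm]; group

/-- An inverted element commuting with an inverted element of the class. -/
theorem yclass_comm {a x : G} (ha : YClass a) (hai : z * a * z = a⁻¹) (hx : IsInv z x) (hxa : x * a = a * x) :
    x ∈ zpowers a ∨ 5 ∣ orderOf x := by
  classical
  haveI : Fact (Nat.Prime 3) := ⟨Nat.prime_three⟩
  obtain ⟨y₀, hy₀⟩ := exists_prime_orderOf_dvd_card' (G := ↥(centralizer ({z} : Set G))) 3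
    (by rw [h.card_C]; norm_num)
  rw [← Subgroup.orderOf_coe] at hy₀
  obtain ⟨y, hyC⟩ := y₀
  replace hy₀ : orderOf y = 3 := hy₀
  obtain ⟨t, ht, hty⟩ := h.exists_inverter (Or.inl rfl) hyC hy₀
  obtain ⟨g, hgy, hgz⟩ := h.yclass_data hyC hy₀ ht hty ha h.isI hai
  by_contra hne
  push Not at hne
  obtain ⟨hnm, h5⟩ := hne
  set x' := g * x * g⁻¹ with hx'
  have hxy : x' ∈ centralizer ({y} : Set G) := mem_centralizer_singleton_iff.2 (by
    rw [hx', ← hgy, show g * x * g⁻¹ * (g * a * g⁻¹) = g * (x * a) * g⁻¹ by group, hxa]; group)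
  have htx : t * x' * t = x'⁻¹ := hgz ▸ inverts_conj g hx.2.2
  have hxo : orderOf x' = orderOf x := by rw [hx', ← MulAut.conj_apply, MulEquiv.orderOf_eq]
  set xX : ↥(centralizer ({y} : Set G)) := ⟨x', hxy⟩
  set v := QuotientGroup.mk' (cyc y) xX with hv
  have hvd : orderOf v ∣ orderOf x := (orderOf_map_dvd _ xX).trans (by rw [← Subgroup.orderOf_coe, hxo])
  have hv1 : v ≠ 1 := fun e => hnm (by
    have := mem_cyc.1 ((QuotientGroup.eq_one_iff xX).1 e)
    obtain ⟨k, hk⟩ := mem_zpowers_iff.1 this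
    refine mem_zpowers_iff.2 ⟨k, ?_⟩
    calc a ^ k = g⁻¹ * (g * a * g⁻¹) ^ k * g := by rw [conj_zpow]; group
      _ = g⁻¹ * x' * g := by rw [hgy, hk]
      _ = x := by rw [hx']; group)
  obtain ⟨hv3, w, hw, hwv⟩ := h.quot_three hyC hy₀ (hx.2.1.of_dvd_nat hvd) fun e => h5 (e.trans hvd)
  obtain ⟨wl, hwl, rfl⟩ := h.exists_invol_lift hyC hy₀ hw
  obtain ⟨b, hb, hbw⟩ := h.conj_in_X hyC hy₀ hwl wl.2
  set bX : ↥(centralizer ({y} : Set G)) := ⟨b, hb⟩
  set x1 : ↥(centralizer ({y} : Set G)) := bX⁻¹ * xX * bX with hx1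
  have hwl' : wl = bX * h.zX hyC hy₀ * bX⁻¹ := Subtype.ext hbw.symm
  have hodd1 : IsOddInv (QuotientGroup.mk' (cyc y) (h.zX hyC hy₀)) (QuotientGroup.mk' (cyc y) x1) := by
    refine ⟨fun e => hv1 ?_, ?_, ?_⟩
    · rw [hx1, map_mul, map_mul, map_inv] at e
      calc v = QuotientGroup.mk' (cyc y) bX * ((QuotientGroup.mk' (cyc y) bX)⁻¹ * v * QuotientGroup.mk' (cyc y) bX) *
          (QuotientGroup.mk' (cyc y) bX)⁻¹ := by group
        _ = 1 := by rw [e]; group
    · rw [hx1, show bX⁻¹ * xX * bX = bX⁻¹ * xX * bX⁻¹⁻¹ by group, map_mul, map_mul, map_inv _ bX⁻¹,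
        ← MulAut.conj_apply, MulEquiv.orderOf_eq]
      exact hx.2.1.of_dvd_nat hvd
    · rw [hwl', map_mul, map_mul, map_inv] at hwv
      rw [hx1, map_mul, map_mul, map_inv, ← hv]
      set B := QuotientGroup.mk' (cyc y) bX
      set Z := QuotientGroup.mk' (cyc y) (h.zX hyC hy₀)
      calc Z * (B⁻¹ * v * B) * Z = B⁻¹ * (B * Z * B⁻¹ * v * (B * Z * B⁻¹)) * B := by group
        _ = (B⁻¹ * v * B)⁻¹ := by rw [hwv]; group
  obtain ⟨x3, hx3, hm3⟩ := h.exists_lift_inv hyC hy₀ hodd1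
  set k := x1⁻¹ * x3 with hk
  have hkc : k ∈ cyc y := QuotientGroup.eq.1 hm3.symm
  obtain ⟨j, hj⟩ := mem_zpowers_iff.1 (mem_cyc.1 hkc)
  have e3 : (x3 : G) = b⁻¹ * x' * b * y ^ j := by
    rw [hj, show b⁻¹ * x' * b = (x1 : G) from rfl, hk]; simp
  have htt := ht.2.2
  have hti : t⁻¹ = t := inv_eq_of_mul_eq_one_right htt
  set t3 := b⁻¹ * t * b with ht3
  have hcy : b⁻¹ * y * b = y := by rw [mul_assoc, ← mem_centralizer_singleton_iff.1 hb, inv_mul_cancel_left]
  have ht3y : t3 * y * t3 = y⁻¹ := by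
    have := inverts_conj b⁻¹ hty
    rwa [inv_inv, hcy] at this
  have ht3x : t3 * (x3 : G) * t3 = (x3 : G)⁻¹ := by
    have e1 := inverts_conj b⁻¹ htx
    rw [inv_inv] at e1
    have ht3I : t3 * t3 = 1 := by
      rw [ht3, show b⁻¹ * t * b * (b⁻¹ * t * b) = b⁻¹ * (t * t) * b by group, htt]; group
    have e2 : t3 * y ^ j * t3 = (y ^ j)⁻¹ := by
      have h3i : t3⁻¹ = t3 := inv_eq_of_mul_eq_one_right ht3I
      have := conj_zpow_of_inverts (show t3 * y * t3⁻¹ = y⁻¹ by rw [h3i]; exact ht3y) j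
      rwa [h3i, zpow_neg] at this
    have hc : Commute (b⁻¹ * x' * b) (y ^ j) :=
      (show Commute (b⁻¹ * x' * b) y from by
        show b⁻¹ * x' * b * y = y * (b⁻¹ * x' * b)
        exact mem_centralizer_singleton_iff.1 (mul_mem (mul_mem (inv_mem hb) hxy) hb)).zpow_right j
    rw [e3, invol_conj_mul_map ht3I, e1, e2, hc.inv_inv.eq, ← _root_.mul_inv_rev]
  -- the lift has odd centralizer, but also the product of two inverting involutions
  have hx33 : (x3 : G) ^ 3 = 1 := h.pow_lift hyC hy₀ hx3 (by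
    rw [hm3, hx1, map_mul, map_mul, map_inv]
    set B := QuotientGroup.mk' (cyc y) bX
    rw [show B⁻¹ * QuotientGroup.mk' (cyc y) xX * B = B⁻¹ * v * B⁻¹⁻¹ by rw [hv]; group, conj_pow, hv3]
    group)
  have hx3o : orderOf (x3 : G) = 3 := orderOf_eq_prime hx33 hx3.1
  have hno : ∀ w, IsI w → w * (x3 : G) ≠ x3 * w := by
    intro w hw e
    obtain ⟨-, -, -, -, -, hnone⟩ := h.yclass_fixed (⟨hx3o, w, hw, mem_centralizer_singleton_iff.2 e⟩) hx3.2.2
    exact hnone y hyC (mem_centralizer_singleton_iff.1 x3.2).symm hy₀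
  have hrc : Commute (z * t3) (x3 : G) := by
    show z * t3 * (x3 : G) = x3 * (z * t3)
    have ht3I : t3 * t3 = 1 := by
      rw [ht3, show b⁻¹ * t * b * (b⁻¹ * t * b) = b⁻¹ * (t * t) * b by group, htt]; group
    have e1 : t3 * (x3 : G) = (x3 : G)⁻¹ * t3 := by rw [← ht3x, mul_assoc (t3 * (x3 : G)), ht3I, mul_one]
    have e2 : z * (x3 : G)⁻¹ = x3 * z := by
      rw [← hx3.2.2, ← mul_assoc, ← mul_assoc, h.zz, one_mul]
    rw [mul_assoc, e1, ← mul_assoc, e2, mul_assoc]
  have hro : Odd (orderOf (z * t3)) := by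
    rw [← Nat.not_even_iff_odd]
    intro he
    exact hno _ (exists_invol_half he) (hrc.pow_left _).eq
  have hzy : z * y * z = y := (invol_fix_iff h.zz y).2 (mem_centralizer_singleton_iff.1 hyC).symm
  have ht3I : t3 * t3 = 1 := by
    rw [ht3, show b⁻¹ * t * b * (b⁻¹ * t * b) = b⁻¹ * (t * t) * b by group, htt]; group
  have r0 : z * t3 * y * (z * t3)⁻¹ = y⁻¹ := by
    rw [_root_.mul_inv_rev, inv_eq_of_mul_eq_one_right ht3I, inv_eq_of_mul_eq_one_right h.zz,
      show z * t3 * y * (t3 * z) = z * (t3 * y * t3) * z by group, ht3y, invol_conj_inv_map h.zz, hzy]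
  obtain ⟨d, hd, hdd⟩ := exists_sqrt_of_odd hro
  obtain ⟨n, hn⟩ := mem_zpowers_iff.1 hd
  have hm2 : (z * t3) * (z * t3) * y = y * ((z * t3) * (z * t3)) := by
    refine mul_inv_eq_iff_eq_mul.1 ?_
    rw [show z * t3 * (z * t3) * y * (z * t3 * (z * t3))⁻¹ = z * t3 * (z * t3 * y * (z * t3)⁻¹) * (z * t3)⁻¹ by group,
      r0, show z * t3 * y⁻¹ * (z * t3)⁻¹ = (z * t3 * y * (z * t3)⁻¹)⁻¹ by group, r0, inv_inv]
  have hcomm : Commute (z * t3) y := by
    have e : z * t3 = (z * t3 * (z * t3)) ^ n := by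
      rw [((Commute.refl (z * t3))).mul_zpow, hn, hdd]
    rw [e]
    exact (show Commute (z * t3 * (z * t3)) y from hm2).zpow_left n
  rw [hcomm.eq, mul_inv_cancel_right] at r0
  have h2 := eq_one_of_odd_of_mul_self (show Odd (orderOf y) by rw [hy₀]; decide)
    (by nth_rw 2 [r0]; exact mul_inv_cancel y)
  rw [h2, orderOf_one] at hy₀
  norm_num at hy₀

theorem free_no_five {x : G} (hx : IsFree z x) {a : G} (ha : a * x = x * a) : orderOf a ≠ 5 := by
  intro h5
  obtain ⟨u, b, D⟩ := h.five_data h5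
  obtain ⟨i, j, hij⟩ := D.odd x (mem_centralizer_singleton_iff.2 ha.symm) hx.1.2.1
  have hab : Commute (a ^ i) (b ^ j) := (show Commute a b from D.commb.symm).pow_pow i j
  have h15 : x ^ 15 = 1 := by
    rw [hij, hab.mul_pow, ← pow_mul, ← pow_mul, mul_comm i, mul_comm j, pow_mul, pow_mul,
      show a ^ 15 = (a ^ 5) ^ 3 by rw [← pow_mul], show b ^ 15 = (b ^ 3) ^ 5 by rw [← pow_mul],
      show a ^ 5 = 1 from orderOf_dvd_iff_pow_eq_one.1 h5.dvd,
      show b ^ 3 = 1 from orderOf_dvd_iff_pow_eq_one.1 D.yclass.1.dvd]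
    simp
  have hd := orderOf_dvd_of_pow_eq_one h15
  have hmem : orderOf x ∈ Nat.divisors 15 := Nat.mem_divisors.2 ⟨hd, by norm_num⟩
  rw [show Nat.divisors 15 = {1, 3, 5, 15} by decide] at hmem
  simp only [Finset.mem_insert, Finset.mem_singleton] at hmem
  rcases hmem with e | e | e | e
  · exact hx.1.1 (orderOf_eq_one_iff.1 e)
  · have hYb : YClass x := by
      rcases three_in_five h5 D e ha.symm with rfl | rfl
      · exact D.yclass
      · exact yclass_inv D.yclass
    obtain ⟨c, hc, hc1, hcx, -⟩ := h.yclass_fixed hYb hx.1.2.2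
    exact hc1 (hx.2.2 c hc hcx)
  · by_cases hA : HasThree z x
    · obtain ⟨c, hc, hco, hcx⟩ := hA
      rw [hx.2.2 c hc hcx, orderOf_one] at hco
      norm_num at hco
    · obtain ⟨w⟩ := (Nat.card_pos_iff.1 (by rw [((h.card_fixed_invol hx.1 e).2 hA).1]; norm_num :
        0 < Nat.card {w : G // IsI w ∧ w ∈ centralizer ({z} : Set G) ∧ w * x = x * w})).1
      exact w.2.1.2 (hx.2.2 w.1 w.2.2.1 w.2.2.2)
  · exact hx.2.1 e

/-- The centralizer of a free element is abelian of odd order and inverted. -/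
theorem free_cent {x : G} (hx : IsFree z x) :
    Odd (Nat.card (centralizer ({x} : Set G))) ∧
      (∀ a ∈ centralizer ({x} : Set G), z * a * z = a⁻¹) ∧
      ∀ a ∈ centralizer ({x} : Set G), ∀ b ∈ centralizer ({x} : Set G), a * b = b * a := by
  have hodd : Odd (Nat.card (centralizer ({x} : Set G))) := by
    rw [← Nat.not_even_iff_odd, even_iff_two_dvd]
    intro h2
    obtain ⟨w, hw, hww, hw1, hwz⟩ :=
      Spor.UFourType.exists_fixed_invol h.zz _ (fun a ha => cent_norm h.zz hx.1.2.2 ha) h2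
    exact hw1 (hx.2.2 w (mem_centralizer_singleton_iff.2 hwz) (mem_centralizer_singleton_iff.1 hw))
  refine ⟨hodd, fixfree_inverts h.zz _ (fun a ha => hodd.of_dvd_nat (orderOf_dvd_natCard _ ha))
    (fun a ha => cent_norm h.zz hx.1.2.2 ha) fun a ha hc => ?_⟩
  exact hx.2.2 a (mem_centralizer_singleton_iff.2 hc.symm) (mem_centralizer_singleton_iff.1 ha)

theorem free_inv {x : G} (hx : IsFree z x) {a : G} (ha : a * x = x * a) (ha1 : a ≠ 1) : IsInv z a :=
  ⟨ha1, (h.free_cent hx).1.of_dvd_nat (orderOf_dvd_natCard _ (mem_centralizer_singleton_iff.2 ha)),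
    (h.free_cent hx).2.1 a (mem_centralizer_singleton_iff.2 ha)⟩

theorem free_no_yclass {x : G} (hx : IsFree z x) {a : G} (ha : a * x = x * a) : ¬ YClass a := by
  intro hY
  have ha1 : a ≠ 1 := fun e => by have := hY.1; rw [e, orderOf_one] at this; norm_num at this
  rcases h.yclass_comm hY (h.free_inv hx ha ha1).2.2 hx.1 ha.symm with hm | h5
  · have hxY : YClass x := by
      rcases (JTwo.pow_cases_three hY.1 hm).resolve_left hx.1.1 with rfl | rfl
      · exact hY
      · exact yclass_inv hY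
    obtain ⟨c, hc, hc1, hcx, -⟩ := h.yclass_fixed hxY hx.1.2.2
    exact hc1 (hx.2.2 c hc hcx)
  · refine h.free_no_five hx (a := x ^ (orderOf x / 5)) ((Commute.refl x).pow_left _).eq ?_
    rw [orderOf_pow_of_dvd (Nat.div_ne_zero_iff.2 ⟨by norm_num, Nat.le_of_dvd (orderOf_pos x) h5⟩)
      (Nat.div_dvd_of_dvd h5), Nat.div_div_self h5 (orderOf_pos x).ne']

theorem free_near {x : G} (hx : IsFree z x) {a : G} (ha : a * x = x * a) (ha1 : a ≠ 1) :
    IsU z a ∨ IsFree z a := by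
  have hai := h.free_inv hx ha ha1
  by_cases hU : IsU z a
  · exact Or.inl hU
  refine Or.inr ⟨hai, fun h15 => ?_, fun c hc hca => ?_⟩
  · exact h.free_no_five hx (a := a ^ 3) ((show Commute a x from ha).pow_left 3).eq (by
      rw [orderOf_pow, h15]; rfl)
  · by_contra hc1
    rcases h.d_cases hai hc hc1 hca with e | e | e
    · exact h.free_no_yclass hx ha e
    · exact h.free_no_five hx ha e
    · exact hU e

theorem u_fixed {u e : G} (hu : IsU z u) (heC : e ∈ centralizer ({z} : Set G)) (heo : orderOf e = 3)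
    (heu : e * u = u * e) {c : G} (hc : c ∈ centralizer ({z} : Set G)) (hcu : c * u = u * c) :
    c ∈ zpowers e := by
  have hm := mem_centralizer_singleton_iff.2 hcu
  rcases h.odd_order_cases hc (u_odd hu hm) with h3 | h5
  · haveI : Fact (Nat.Prime 3) := ⟨Nat.prime_three⟩
    refine prime_unique (K := centralizer ({u} : Set G) ⊓ centralizer ({z} : Set G)) (p := 3) ?_
      ⟨mem_centralizer_singleton_iff.2 heu, heC⟩ heo ⟨hm, hc⟩ h3
    have hd : Nat.card (centralizer ({u} : Set G) ⊓ centralizer ({z} : Set G) : Subgroup G) ∣ 1920 :=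
      h.card_C ▸ card_dvd_of_le inf_le_right
    have hodd : ¬ 2 ∣ Nat.card (centralizer ({u} : Set G) ⊓ centralizer ({z} : Set G) : Subgroup G) := fun h2 => by
      haveI : Fact (Nat.Prime 2) := ⟨Nat.prime_two⟩
      obtain ⟨w, hw⟩ := exists_prime_orderOf_dvd_card' _ h2
      rw [← Subgroup.orderOf_coe] at hw
      exact u_no_invol hu (isI_iff.2 hw) (mem_centralizer_singleton_iff.1 w.2.1)
    have hd15 : Nat.card (centralizer ({u} : Set G) ⊓ centralizer ({z} : Set G) : Subgroup G) ∣ 15 :=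
      ((Nat.prime_two.coprime_iff_not_dvd.2 hodd).symm.pow_right 7).dvd_of_dvd_mul_left
        (show _ ∣ 2 ^ 7 * 15 from hd)
    by_contra hlt
    have h5 : 5 ∣ Nat.card (centralizer ({u} : Set G) ⊓ centralizer ({z} : Set G) : Subgroup G) := by
      have hle := Nat.le_of_dvd (by norm_num) hd15
      push Not at hlt
      interval_cases hn : Nat.card (centralizer ({u} : Set G) ⊓ centralizer ({z} : Set G) : Subgroup G) <;> omega
    haveI : Fact (Nat.Prime 5) := ⟨Nat.prime_five⟩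
    obtain ⟨w, hw⟩ := exists_prime_orderOf_dvd_card' _ h5
    rw [← Subgroup.orderOf_coe] at hw
    obtain ⟨v, b, D⟩ := h.five_data hw
    rcases three_in_five hw D (isU_order hu) (mem_centralizer_singleton_iff.1 w.2.1).symm with rfl | rfl
    · exact hu.2.2.1 D.yclass
    · exact hu.2.2.1 (yclass_inv D.yclass)
  · by_cases hc1 : c = 1
    · rw [hc1]; exact one_mem _
    exfalso
    haveI : Fact (Nat.Prime 5) := ⟨Nat.prime_five⟩
    have hco : orderOf c = 5 := orderOf_eq_prime h5 hc1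
    obtain ⟨v, b, D⟩ := h.five_data hco
    rcases three_in_five hco D (isU_order hu) hcu.symm with rfl | rfl
    · exact hu.2.2.1 D.yclass
    · exact hu.2.2.1 (yclass_inv D.yclass)

theorem u_no_five {u : G} (hu : IsU z u) {a : G} (ha : a * u = u * a) : ¬ 5 ∣ orderOf a := by
  intro h5
  haveI : Fact (Nat.Prime 5) := ⟨Nat.prime_five⟩
  set c := a ^ (orderOf a / 5) with hc
  have hco : orderOf c = 5 := by
    rw [hc, orderOf_pow_of_dvd (Nat.div_ne_zero_iff.2 ⟨by norm_num, Nat.le_of_dvd (orderOf_pos a) h5⟩)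
      (Nat.div_dvd_of_dvd h5), Nat.div_div_self h5 (orderOf_pos a).ne']
  have hcu : c * u = u * c := ((show Commute a u from ha).pow_left _).eq
  obtain ⟨v, b, D⟩ := h.five_data hco
  rcases three_in_five hco D (isU_order hu) hcu.symm with rfl | rfl
  · exact hu.2.2.1 D.yclass
  · exact hu.2.2.1 (yclass_inv D.yclass)

/-- The nontrivial inverted elements of the centralizer of an element of `U`. -/
theorem u_near {u : G} (hu : IsU z u) {a : G} (ha : a * u = u * a) (hai : z * a * z = a⁻¹) (ha1 : a ≠ 1) :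
    IsU z a ∨ IsFree z a := by
  have hI : IsInv z a := ⟨ha1, u_odd hu (mem_centralizer_singleton_iff.2 ha), hai⟩
  by_cases hU : IsU z a
  · exact Or.inl hU
  refine Or.inr ⟨hI, fun h15 => h.u_no_five hu ha (by rw [h15]; norm_num), fun c hc hca => ?_⟩
  by_contra hc1
  rcases h.d_cases hI hc hc1 hca with e | e | e
  · rcases h.yclass_comm e hai hu.1 ha.symm with hm | h5
    · rcases (JTwo.pow_cases_three e.1 hm).resolve_left hu.1.1 with rfl | rfl
      · exact hu.2.2.1 e
      · exact hu.2.2.1 (yclass_inv e)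
    · rw [isU_order hu] at h5; norm_num at h5
  · exact h.u_no_five hu ha (by rw [e])
  · exact hU e

/-- An element of the centralizer of `u` is a fixed element times an inverted one. -/
theorem u_decomp {u e : G} (hu : IsU z u) (heC : e ∈ centralizer ({z} : Set G)) (heo : orderOf e = 3)
    (heu : e * u = u * e) (S : Subgroup G) (hSu : ∀ a ∈ S, a * u = u * a) (hSz : ∀ a ∈ S, z * a * z ∈ S)
    {a : G} (ha : a ∈ S) :
    ∃ p ∈ S, ∃ d ∈ S, a = p * d ∧ p ∈ zpowers e ∧ z * d * z = d⁻¹ := by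
  obtain ⟨p, hp, d, hd, e1, hpz, hdi⟩ := fixed_times_inverted h.zz S
    (fun b hb => u_odd hu (mem_centralizer_singleton_iff.2 (hSu b hb))) ha (hSz a ha)
  exact ⟨p, hp, d, hd, e1, h.u_fixed hu heC heo heu (mem_centralizer_singleton_iff.2 hpz.symm) (hSu p hp), hdi⟩

end Big

end CfsgLib.Invol.JThreeType
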