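import Cfsg.Agent.Lib.Invol.JThreeType.Tools

/-!
# Families of inverted elements with abelian centralizers
-/

set_option autoImplicit false

namespace CfsgLib.Invol.JThreeType

open Subgroup

variable {H : Type*} [Group H] [Finite H] {z : H}

/-- The stabiliser of a subgroup in the centralizer of the involution. -/
def stab (z : H) (A : Subgroup H) : Subgroup H :=
  centralizer ({z} : Set H) ⊓ normalizer (A : Set H)

/-- The order of the group is the product of three numbers, the last congruent to one. -/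
def Congr (H : Type*) (a k r : ℕ) : Prop := ∃ q, Nat.card H = a * k * q ∧ q % r = 1

/-- An inverted abelian subgroup and its conjugate are moved by the centralizer of the involution. -/
theorem align (hz : z * z = 1) {A B : Subgroup H} (hA : ∀ a ∈ A, z * a * z = a⁻¹) (hB : ∀ b ∈ B, z * b * z = b⁻¹)
    (hodd : ∀ b ∈ B, Odd (orderOf b)) {v : H} (hv : v ∈ B) (hvc : centralizer ({v} : Set H) = B) {g : H}
    (hg : ∀ a, a ∈ A ↔ g * a * g⁻¹ ∈ B) :
    ∃ d ∈ B, d * g ∈ centralizer ({z} : Set H) ∧ ∀ a, a ∈ A ↔ d * g * a * (d * g)⁻¹ ∈ B := by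
  have hzi : z⁻¹ = z := inv_eq_of_mul_eq_one_right hz
  set t := g * z * g⁻¹ with ht
  have htt : t * t = 1 := by
    rw [ht, show g * z * g⁻¹ * (g * z * g⁻¹) = g * (z * z) * g⁻¹ by group, hz]; group
  have htB : ∀ b ∈ B, t * b * t = b⁻¹ := by
    intro b hb
    have hm : g⁻¹ * b * g ∈ A := (hg _).2 (by rw [show g * (g⁻¹ * b * g) * g⁻¹ = b by group]; exact hb)
    calc t * b * t = g * (z * (g⁻¹ * b * g) * z) * g⁻¹ := by rw [ht]; group
      _ = b⁻¹ := by rw [hA _ hm]; group
  have hm : z * t ∈ B := by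
    rw [← hvc]
    refine mem_centralizer_singleton_iff.2 ?_
    have e1 : t * v = v⁻¹ * t := by rw [← htB v hv, mul_assoc (t * v), htt, mul_one]
    have e2 : z * v⁻¹ = v * z := by
      rw [← hB v hv, ← mul_assoc, ← mul_assoc, hz, one_mul]
    rw [mul_assoc, e1, ← mul_assoc, e2, mul_assoc]
  obtain ⟨d, hd, hdd⟩ := exists_sqrt_of_odd (hodd _ hm)
  have hdB : d ∈ B := (zpowers_le.2 hm) hd
  refine ⟨d, hdB, mem_centralizer_singleton_iff.2 ?_, fun a => ?_⟩
  · have e : t = z * (d * d) := by rw [hdd, ← mul_assoc, hz, one_mul]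
    have e' : z * d = d⁻¹ * z := by rw [← hB d hdB, mul_assoc (z * d), hz, mul_one]
    calc d * g * z = d * t * g := by rw [ht]; group
      _ = d * (z * d) * d * g := by rw [e]; group
      _ = z * (d * g) := by rw [e']; group
  · rw [hg, show d * g * a * (d * g)⁻¹ = d * (g * a * g⁻¹) * d⁻¹ by group,
      Subgroup.mul_mem_cancel_right _ (inv_mem hdB), Subgroup.mul_mem_cancel_left _ hdB]

/-- An inverted subgroup which is the centralizer of each of its elements of order `r` contains a Sylow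
subgroup with its normalizer. -/
theorem sylow_part (hz : z * z = 1) {A : Subgroup H} (hinv : ∀ a ∈ A, z * a * z = a⁻¹)
    {r : ℕ} [hr : Fact r.Prime] (hrA : r ∣ Nat.card A)
    (hc : ∀ v ∈ A, v ^ r = 1 → v ≠ 1 → centralizer ({v} : Set H) = A) :
    ∃ P : Sylow r H, (P : Subgroup H) ≤ A ∧ (∀ g : H, g ∈ normalizer (A : Set H) ↔ g ∈ normalizer ((P : Subgroup H) : Set H)) ∧
      (∀ g : H, (∀ u ∈ (P : Subgroup H), g * u = u * g) ↔ g ∈ A) := by
  classical
  obtain ⟨v₀, hv₀⟩ := exists_prime_orderOf_dvd_card' (G := A) r hrA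
  have hv : orderOf (v₀ : H) = r := by rw [Subgroup.orderOf_coe]; exact hv₀
  have hv1 : (v₀ : H) ≠ 1 := fun e => by rw [e, orderOf_one] at hv; exact hr.out.one_lt.ne hv
  have hvr : (v₀ : H) ^ r = 1 := orderOf_dvd_iff_pow_eq_one.1 hv.dvd
  obtain ⟨P, hP⟩ := (IsPGroup.of_card (p := r) (n := 1) (G := zpowers (v₀ : H))
    (by rw [Nat.card_zpowers, hv, pow_one])).exists_le_sylow
  have hvP : (v₀ : H) ∈ (P : Subgroup H) := hP (mem_zpowers _)
  haveI : Nontrivial (P : Subgroup H) := ⟨⟨⟨_, hvP⟩, 1, fun e => hv1 (congrArg Subtype.val e)⟩⟩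
  haveI := P.2.center_nontrivial
  obtain ⟨c, hcr⟩ : ∃ c : center (P : Subgroup H), orderOf c = r := by
    refine exists_prime_orderOf_dvd_card' r ?_
    obtain ⟨j, hj⟩ := (P.isPGroup'.to_subgroup (center (P : Subgroup H))).exists_card_eq
    rcases j with _ | j
    · have := Finite.one_lt_card (α := center (P : Subgroup H))
      rw [hj] at this; norm_num at this
    · rw [hj]; exact dvd_pow_self r (Nat.succ_ne_zero j)
  have hcH : orderOf ((c.1 : H)) = r := by
    rw [Subgroup.orderOf_coe, Subgroup.orderOf_coe]; exact hcr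
  have hcen : ∀ u ∈ (P : Subgroup H), u * (c.1 : H) = (c.1 : H) * u := fun u hu =>
    congrArg Subtype.val (mem_center_iff.1 c.2 ⟨u, hu⟩)
  have hcA : (c.1 : H) ∈ A := by
    rw [← hc _ v₀.2 hvr hv1]
    exact mem_centralizer_singleton_iff.2 (hcen _ hvP).symm
  have hc1 : (c.1 : H) ≠ 1 := fun e => by rw [e, orderOf_one] at hcH; exact hr.out.one_lt.ne hcH
  have hcr' : (c.1 : H) ^ r = 1 := orderOf_dvd_iff_pow_eq_one.1 hcH.dvd
  have hPA : (P : Subgroup H) ≤ A := fun u hu => by
    rw [← hc _ hcA hcr' hc1]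
    exact mem_centralizer_singleton_iff.2 (hcen u hu)
  have hcomm : ∀ a ∈ A, ∀ b ∈ A, a * b = b * a := fun a ha b hb => inv_injective (by
    rw [← hinv _ (mul_mem ha hb), invol_conj_mul_map hz, hinv a ha, hinv b hb, _root_.mul_inv_rev])
  have hcent : ∀ g : H, (∀ u ∈ (P : Subgroup H), g * u = u * g) ↔ g ∈ A := fun g => by
    refine ⟨fun h => ?_, fun h u hu => hcomm g h u (hPA hu)⟩
    rw [← hc _ v₀.2 hvr hv1]
    exact mem_centralizer_singleton_iff.2 (h _ hvP)
  -- the Sylow subgroup is the whole primary part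
  have hmax : ∀ a ∈ A, (∃ j, a ^ r ^ j = 1) → a ∈ (P : Subgroup H) := by
    rintro a ha ⟨j, hj⟩
    have hle : zpowers a ≤ normalizer ((P : Subgroup H) : Set H) := zpowers_le.2 (mem_normalizer_iff.2 fun u => by
      constructor
      · intro hu
        rwa [hcomm a ha u (hPA hu), mul_inv_cancel_right]
      · intro hu
        have hua := hPA hu
        have e : u = a * u * a⁻¹ := by
          have : u ∈ A := by
            have := mul_mem (mul_mem (inv_mem ha) hua) ha
            rwa [show a⁻¹ * (a * u * a⁻¹) * a = u by group] at this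
          rw [hcomm a ha u this, mul_inv_cancel_right]
        exact e ▸ hu)
    have hp : IsPGroup r (zpowers a ⊔ (P : Subgroup H) : Subgroup H) :=
      IsPGroup.to_sup_of_normal_right' (fun g => by
        obtain ⟨k, hk⟩ := mem_zpowers_iff.1 g.2
        refine ⟨j, Subtype.ext ?_⟩
        rw [coe_pow, ← hk, ← zpow_natCast, ← zpow_mul, mul_comm, zpow_mul, zpow_natCast, hj, one_zpow, coe_one])
        P.isPGroup' hle
    exact (P.is_maximal' hp le_sup_right).le (mem_sup_left (mem_zpowers a))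
  refine ⟨P, hPA, fun g => ⟨fun hg => ?_, fun hg => ?_⟩, hcent⟩
  · refine mem_normalizer_iff.2 fun u => ?_
    have key : ∀ g' : H, g' ∈ normalizer (A : Set H) → ∀ u ∈ (P : Subgroup H), g' * u * g'⁻¹ ∈ (P : Subgroup H) := by
      intro g' hg' u hu
      obtain ⟨j, hj⟩ := P.isPGroup' ⟨u, hu⟩
      refine hmax _ ((mem_normalizer_iff.1 hg' u).1 (hPA hu)) ⟨j, ?_⟩
      rw [conj_pow, show u ^ r ^ j = 1 from congrArg Subtype.val hj]; group
    refine ⟨key g hg u, fun h => ?_⟩
    have := key g⁻¹ (inv_mem hg) _ h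
    rwa [show g⁻¹ * (g * u * g⁻¹) * g⁻¹⁻¹ = u by group] at this
  · refine mem_normalizer_iff.2 fun a => ?_
    rw [← hcent, ← hcent]
    constructor
    · intro h u hu
      have hu' : g⁻¹ * u * g⁻¹⁻¹ ∈ (P : Subgroup H) := (mem_normalizer_iff.1 (inv_mem hg) u).1 hu
      calc g * a * g⁻¹ * u = g * (a * (g⁻¹ * u * g⁻¹⁻¹)) * g⁻¹ := by group
        _ = g * (g⁻¹ * u * g⁻¹⁻¹ * a) * g⁻¹ := by rw [h _ hu']
        _ = u * (g * a * g⁻¹) := by group
    · intro h u hu
      have hu' : g * u * g⁻¹ ∈ (P : Subgroup H) := (mem_normalizer_iff.1 hg u).1 hu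
      calc a * u = g⁻¹ * (g * a * g⁻¹ * (g * u * g⁻¹)) * g := by group
        _ = g⁻¹ * (g * u * g⁻¹ * (g * a * g⁻¹)) * g := by rw [h _ hu']
        _ = u * a := by group

/-- The congruence for the order given by such a subgroup. -/
theorem congr_part (hz : z * z = 1) {A : Subgroup H} (hinv : ∀ a ∈ A, z * a * z = a⁻¹)
    (hodd : ∀ a ∈ A, Odd (orderOf a)) {r : ℕ} [hr : Fact r.Prime] (hrA : r ∣ Nat.card A)
    (hc : ∀ v ∈ A, v ^ r = 1 → v ≠ 1 → centralizer ({v} : Set H) = A) :
    Congr H (Nat.card A) (Nat.card (stab z A)) r := by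
  classical
  obtain ⟨P, -, hN, -⟩ := sylow_part hz hinv hrA hc
  obtain ⟨v₀, hv₀⟩ := exists_prime_orderOf_dvd_card' (G := A) r hrA
  have hv : orderOf (v₀ : H) = r := by rw [Subgroup.orderOf_coe]; exact hv₀
  have hv1 : (v₀ : H) ≠ 1 := fun e => by rw [e, orderOf_one] at hv; exact hr.out.one_lt.ne hv
  have hvc := hc _ v₀.2 (orderOf_dvd_iff_pow_eq_one.1 hv.dvd) hv1
  have hNA : normalizer (A : Set H) = normalizer ((P : Subgroup H) : Set H) := Subgroup.ext hN
  let m : A × stab z A → normalizer (A : Set H) := fun p =>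
    ⟨p.1 * p.2, mul_mem (le_normalizer p.1.2) p.2.2.2⟩
  have hm : Function.Bijective m := by
    constructor
    · rintro ⟨a, c⟩ ⟨a', c'⟩ e
      replace e : (a : H) * c = a' * c' := congrArg Subtype.val e
      have e1 : (a' : H)⁻¹ * a = (c' : H) * (c : H)⁻¹ := by
        rw [eq_mul_inv_iff_mul_eq, mul_assoc, e, inv_mul_cancel_left]
      have hmA : (a' : H)⁻¹ * a ∈ A := mul_mem (inv_mem a'.2) a.2
      have hfix : z * ((a' : H)⁻¹ * a) * z = (a' : H)⁻¹ * a := (invol_fix_iff hz _).2 (by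
        rw [e1]; exact (mem_centralizer_singleton_iff.1 (mul_mem c'.2.1 (inv_mem c.2.1))).symm)
      rw [hinv _ hmA] at hfix
      have h1 := eq_one_of_odd_of_mul_self (hodd _ hmA) (by nth_rw 1 [← hfix]; exact inv_mul_cancel _)
      have ha : a = a' := Subtype.ext (inv_mul_eq_one.1 h1).symm
      subst ha
      exact Prod.ext rfl (Subtype.ext (mul_left_cancel e))
    · rintro ⟨g, hg⟩
      obtain ⟨d, hd, hdC, -⟩ := align hz hinv hinv hodd v₀.2 hvc (g := g) (mem_normalizer_iff.1 hg)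
      exact ⟨(⟨d⁻¹, inv_mem hd⟩, ⟨d * g, hdC, mul_mem (le_normalizer hd) hg⟩),
        Subtype.ext (inv_mul_cancel_left d g)⟩
  refine ⟨Nat.card (Sylow r H), ?_, Eq.trans (card_sylow_modEq_one r H) (Nat.mod_eq_of_lt hr.out.one_lt)⟩
  rw [← Nat.card_prod, Nat.card_eq_of_bijective m hm, hNA, P.card_eq_index_normalizer]
  exact (card_mul_index _).symm

/-- A system of inverted elements with centralizers in the system. -/
structure FreeSys (z : H) (P : H → Prop) : Prop where
  ne_one : ∀ x, P x → x ≠ 1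
  conj : ∀ x c, P x → c ∈ centralizer ({z} : Set H) → P (c * x * c⁻¹)
  fixfree : ∀ x c, P x → c ∈ centralizer ({z} : Set H) → c * x = x * c → c = 1
  odd : ∀ x, P x → Odd (Nat.card (centralizer ({x} : Set H)))
  inv : ∀ x, P x → z * x * z = x⁻¹
  closed : ∀ x y, P x → y * x = x * y → y ≠ 1 → P y

namespace FreeSys

variable {P : H → Prop} (S : FreeSys z P) (hz : z * z = 1)
include S hz

omit [Finite H] in
theorem cent_props {x : H} (hx : P x) :
    (∀ a ∈ centralizer ({x} : Set H), Odd (orderOf a)) ∧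
      (∀ a ∈ centralizer ({x} : Set H), z * a * z = a⁻¹) ∧
      ∀ a ∈ centralizer ({x} : Set H), ∀ b ∈ centralizer ({x} : Set H), a * b = b * a := by
  haveI : Finite (centralizer ({x} : Set H)) := Nat.finite_of_card_ne_zero (Nat.pos_iff_ne_zero.1 (S.odd x hx).pos)
  have hodd : ∀ a ∈ centralizer ({x} : Set H), Odd (orderOf a) := fun a ha =>
    (S.odd x hx).of_dvd_nat (by rw [← Subgroup.orderOf_mk a ha]; exact _root_.orderOf_dvd_natCard _)
  refine ⟨hodd, fixfree_inverts hz _ hodd (fun a ha => ?_) fun a ha hc => ?_⟩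
  · refine mem_centralizer_singleton_iff.2 ?_
    have e : z * x⁻¹ * z = x := by rw [← S.inv x hx, invol_conj_twice hz]
    have ha' : a * x⁻¹ = x⁻¹ * a :=
      ((show Commute a x from mem_centralizer_singleton_iff.1 ha).inv_right).eq
    calc z * a * z * x = z * a * z * (z * x⁻¹ * z) := by rw [e]
      _ = z * (a * x⁻¹) * z := (invol_conj_mul_map hz a x⁻¹).symm
      _ = z * (x⁻¹ * a) * z := by rw [ha']
      _ = x * (z * a * z) := by rw [invol_conj_mul_map hz, e]
  · exact S.fixfree x a hx (mem_centralizer_singleton_iff.2 hc.symm) (mem_centralizer_singleton_iff.1 ha)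

theorem cent_eq {x y : H} (hx : P x) (hy : y * x = x * y) (hy1 : y ≠ 1) :
    centralizer ({y} : Set H) = centralizer ({x} : Set H) := by
  have hPy := S.closed x y hx hy hy1
  refine le_antisymm (fun g hg => mem_centralizer_singleton_iff.2 ?_) fun g hg => mem_centralizer_singleton_iff.2 ?_
  · exact (S.cent_props hz hPy).2.2 g hg x (mem_centralizer_singleton_iff.2 hy.symm)
  · exact (S.cent_props hz hx).2.2 g hg y (mem_centralizer_singleton_iff.2 hy)

/-- Two elements have centralizers conjugate in the centralizer of the involution. -/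
def _root_.CfsgLib.Invol.JThreeType.SameFam (z x y : H) : Prop :=
  ∃ c ∈ centralizer ({z} : Set H), ∀ g : H, g ∈ centralizer ({x} : Set H) ↔ c * g * c⁻¹ ∈ centralizer ({y} : Set H)

theorem same_setoid : Equivalence fun x y : {x : H // P x} => SameFam z (x : H) y where
  refl x := ⟨1, one_mem _, fun g => by rw [one_mul, inv_one, mul_one]⟩
  symm := by
    rintro x y ⟨c, hc, h⟩
    refine ⟨c⁻¹, inv_mem hc, fun g => ?_⟩
    rw [h, show c * (c⁻¹ * g * c⁻¹⁻¹) * c⁻¹ = g by group]
  trans := by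
    rintro x y w ⟨c, hc, h⟩ ⟨d, hd, h'⟩
    refine ⟨d * c, mul_mem hd hc, fun g => ?_⟩
    rw [h, h', show d * (c * g * c⁻¹) * d⁻¹ = d * c * g * (d * c)⁻¹ by group]

theorem class_iff {x y : H} (hx : P x) :
    P y ∧ SameFam z x y ↔
      ∃ c ∈ centralizer ({z} : Set H), ∃ u, u * x = x * u ∧ u ≠ 1 ∧ y = c * u * c⁻¹ := by
  constructor
  · rintro ⟨hy, c, hc, h⟩
    refine ⟨c, hc, c⁻¹ * y * c, ?_, fun e => S.ne_one y hy ?_, by group⟩
    · refine mem_centralizer_singleton_iff.1 ((h _).2 ?_)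
      rw [show c * (c⁻¹ * y * c) * c⁻¹ = y by group]
      exact mem_centralizer_singleton_iff.2 rfl
    · calc y = c * (c⁻¹ * y * c) * c⁻¹ := by group
        _ = 1 := by rw [e]; group
  · rintro ⟨c, hc, u, hu, hu1, rfl⟩
    refine ⟨S.conj u c (S.closed x u hx hu hu1) hc, c, hc, fun g => ?_⟩
    rw [← S.cent_eq hz hx hu hu1, mem_centralizer_singleton_iff, mem_centralizer_singleton_iff,
      show c * g * c⁻¹ * (c * u * c⁻¹) = c * (g * u) * c⁻¹ by group,
      show c * u * c⁻¹ * (c * g * c⁻¹) = c * (u * g) * c⁻¹ by group, mul_left_inj, mul_right_inj]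

theorem family_count (hz1 : z ≠ 1) {x : H} (hx : P x) :
    ∃ m : ℕ, Nat.card (centralizer ({x} : Set H)) = Nat.card (stab z (centralizer ({x} : Set H))) * m + 1 ∧
      2 ∣ Nat.card (stab z (centralizer ({x} : Set H))) ∧
      Nat.card (stab z (centralizer ({x} : Set H))) ∣ Nat.card (centralizer ({z} : Set H)) ∧ 0 < m ∧
      Nat.card {y : H // P y ∧ SameFam z x y} = Nat.card (centralizer ({z} : Set H)) * m := by
  classical
  haveI := Fintype.ofFinite H
  obtain ⟨-, hinv, -⟩ := S.cent_props hz hx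
  set A := centralizer ({x} : Set H) with hA
  set N := stab z A with hN
  have hzi : z⁻¹ = z := inv_eq_of_mul_eq_one_right hz
  have hzN : z ∈ N := by
    refine ⟨mem_centralizer_singleton_iff.2 rfl, mem_normalizer_iff.2 fun y => ⟨fun hy => ?_, fun hy => ?_⟩⟩
    · rw [hzi, hinv y hy]; exact inv_mem hy
    · rw [hzi] at hy
      have := hinv _ hy
      rw [invol_conj_twice hz] at this
      rw [this]; exact inv_mem hy
  let A' := {u : H // u * x = x * u ∧ u ≠ 1}
  have hmem : ∀ (d : N) (u : A'), (d : H) * u * (d : H)⁻¹ * x = x * ((d : H) * u * (d : H)⁻¹) ∧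
      (d : H) * u * (d : H)⁻¹ ≠ 1 := fun d u =>
    ⟨mem_centralizer_singleton_iff.1 ((mem_normalizer_iff.1 d.2.2 _).1 (mem_centralizer_singleton_iff.2 u.2.1)),
      fun e => u.2.2 (conj_eq_one_iff.1 e)⟩
  letI : MulAction N A' :=
    { smul := fun d u => ⟨(d : H) * u * (d : H)⁻¹, hmem d u⟩
      one_smul := fun u => Subtype.ext (by show (1 : H) * u * (1 : H)⁻¹ = u; group)
      mul_smul := fun d e u => Subtype.ext (by
        show (d : H) * e * u * ((d : H) * e)⁻¹ = d * ((e : H) * u * (e : H)⁻¹) * (d : H)⁻¹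
        group) }
  have horb : ∀ u : A', Nat.card (MulAction.orbit N u) = Nat.card N := by
    intro u
    have hst : MulAction.stabilizer N u = ⊥ := by
      refine (Subgroup.eq_bot_iff_forall _).2 fun d hd => Subtype.ext ?_
      have he : (d : H) * u * (d : H)⁻¹ = u := congrArg Subtype.val (MulAction.mem_stabilizer_iff.1 hd)
      exact S.fixfree u d (S.closed x u hx u.2.1 u.2.2) d.2.1 (mul_inv_eq_iff_eq_mul.1 he)
    rw [Nat.card_congr (MulAction.orbitEquivQuotientStabilizer N u), hst, ← Subgroup.index_eq_card,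
      Subgroup.index_bot]
  have hdvd : Nat.card N ∣ Nat.card A' := by
    haveI : Fintype (MulAction.orbitRel.Quotient N A') := Fintype.ofFinite _
    rw [Nat.card_congr (MulAction.selfEquivSigmaOrbits N A'), Nat.card_sigma]
    exact Finset.dvd_sum fun q _ => by rw [horb]
  obtain ⟨m, hm⟩ := hdvd
  haveI : Nonempty A' := ⟨⟨x, rfl, S.ne_one x hx⟩⟩
  have ha' : 0 < Nat.card A' := Nat.card_pos
  have h2 : 2 ∣ Nat.card N := by
    rw [← orderOf_eq_prime (p := 2) (by rw [pow_two]; exact hz) hz1]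
    exact orderOf_dvd_natCard _ hzN
  have hA1 : Nat.card A = Nat.card A' + 1 := by
    rw [← Finite.card_option]
    refine (Nat.card_eq_of_bijective (fun o : Option A' => o.elim (1 : A)
      fun u => ⟨u.1, mem_centralizer_singleton_iff.2 u.2.1⟩) ⟨?_, fun y => ?_⟩).symm
    · rintro (_ | u) (_ | v) e
      · rfl
      · exact absurd (congrArg Subtype.val e).symm v.2.2
      · exact absurd (congrArg Subtype.val e) u.2.2
      · exact congrArg some (Subtype.ext (congrArg Subtype.val e :))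
    · by_cases h1 : y = 1
      · exact ⟨none, h1.symm⟩
      · exact ⟨some ⟨y.1, mem_centralizer_singleton_iff.1 y.2, fun e => h1 (Subtype.ext e)⟩, rfl⟩
  refine ⟨m, by rw [hA1, hm], h2, Subgroup.card_dvd_of_le inf_le_left, ?_, ?_⟩
  · rcases Nat.eq_zero_or_pos m with e | e
    · rw [e, mul_zero] at hm; omega
    · exact e
  let Y := {y : H // P y ∧ SameFam z x y}
  let C := centralizer ({z} : Set H)
  let Φ : C × A' → Y := fun p => ⟨(p.1 : H) * p.2 * (p.1 : H)⁻¹,
    (S.class_iff hz hx).2 ⟨p.1, p.1.2, p.2, p.2.2.1, p.2.2.2, rfl⟩⟩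
  have hfib : ∀ y : Y, Nat.card {p : C × A' // Φ p = y} = Nat.card N := by
    intro y
    obtain ⟨c, hc, u, hu, hu1, hy⟩ := (S.class_iff hz hx).1 y.2
    have key : ∀ (v : A') (c' : C), (c' : H) * v * (c' : H)⁻¹ = y.1 → ((c' : H)⁻¹ * c) ∈ N := by
      intro v c' he
      refine ⟨(mul_mem (inv_mem c'.2) hc : (c' : H)⁻¹ * c ∈ centralizer ({z} : Set H)),
        mem_normalizer_iff.2 fun g => ?_⟩
      set d := (c' : H)⁻¹ * c with hd
      have hdu : d * u * d⁻¹ = v := by
        rw [hd, show (c' : H)⁻¹ * c * u * ((c' : H)⁻¹ * c)⁻¹ = (c' : H)⁻¹ * (c * u * c⁻¹) * c' by group, ← hy, ← he]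
        group
      show g ∈ A ↔ d * g * d⁻¹ ∈ A
      have e1 : centralizer ({u} : Set H) = A := S.cent_eq hz hx hu hu1
      have e2 : centralizer ({(v : H)} : Set H) = A := S.cent_eq hz hx v.2.1 v.2.2
      nth_rw 1 [← e1]
      rw [← e2, ← hdu, mem_centralizer_singleton_iff, mem_centralizer_singleton_iff,
        show d * g * d⁻¹ * (d * u * d⁻¹) = d * (g * u) * d⁻¹ by group,
        show d * u * d⁻¹ * (d * g * d⁻¹) = d * (u * g) * d⁻¹ by group, mul_left_inj, mul_right_inj]
    have hd : ∀ d : N, c * (d : H)⁻¹ ∈ C := fun d => mul_mem hc (inv_mem d.2.1)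
    refine Nat.card_congr
      { toFun := fun p => ⟨(p.1.1 : H)⁻¹ * c, key p.1.2 p.1.1 (congrArg Subtype.val p.2)⟩
        invFun := fun d => ⟨(⟨c * (d : H)⁻¹, hd d⟩, ⟨(d : H) * u * (d : H)⁻¹, hmem d ⟨u, hu, hu1⟩⟩),
          Subtype.ext (by
            show c * (d : H)⁻¹ * ((d : H) * u * (d : H)⁻¹) * (c * (d : H)⁻¹)⁻¹ = y.1
            rw [hy]; group)⟩
        left_inv := fun ⟨⟨c', v⟩, hp⟩ => by
          have he : (c' : H) * v * (c' : H)⁻¹ = y.1 := congrArg Subtype.val hp
          refine Subtype.ext (Prod.ext (Subtype.ext ?_) (Subtype.ext ?_))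
          · show c * ((c' : H)⁻¹ * c)⁻¹ = c'
            group
          · show (c' : H)⁻¹ * c * u * ((c' : H)⁻¹ * c)⁻¹ = v
            rw [show (c' : H)⁻¹ * c * u * ((c' : H)⁻¹ * c)⁻¹ = (c' : H)⁻¹ * (c * u * c⁻¹) * c' by group, ← hy, ← he]
            group
        right_inv := fun d => Subtype.ext (by
          show (c * (d : H)⁻¹)⁻¹ * c = d
          group) }
  haveI := Fintype.ofFinite Y
  have h := Nat.card_congr (Equiv.sigmaFiberEquiv Φ)
  rw [Nat.card_sigma, Finset.sum_congr rfl fun y _ => hfib y, Finset.sum_const, Finset.card_univ, smul_eq_mul,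
    Nat.card_prod, hm, ← Nat.card_eq_fintype_card] at h
  have hN0 : 0 < Nat.card N := Nat.card_pos
  refine Nat.eq_of_mul_eq_mul_right hN0 ?_
  rw [h]; ring

theorem congr_family {x : H} (hx : P x) {r : ℕ} [Fact r.Prime] (hr : r ∣ Nat.card (centralizer ({x} : Set H))) :
    Congr H (Nat.card (centralizer ({x} : Set H))) (Nat.card (stab z (centralizer ({x} : Set H)))) r := by
  obtain ⟨hodd, hinv, -⟩ := S.cent_props hz hx
  exact congr_part hz hinv hodd hr fun v hv _ hv1 => S.cent_eq hz hx (mem_centralizer_singleton_iff.1 hv) hv1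

theorem family_coprime {x y : H} (hx : P x) (hy : P y)
    (h : ¬ Nat.Coprime (Nat.card (centralizer ({x} : Set H))) (Nat.card (centralizer ({y} : Set H)))) :
    SameFam z x y := by
  obtain ⟨r, hr, hrx, hry⟩ := Nat.Prime.not_coprime_iff_dvd.1 h
  haveI : Fact r.Prime := ⟨hr⟩
  obtain ⟨-, hix, -⟩ := S.cent_props hz hx
  obtain ⟨hoy, hiy, -⟩ := S.cent_props hz hy
  obtain ⟨T, -, -, hT⟩ := sylow_part hz hix hrx
    fun v hv _ hv1 => S.cent_eq hz hx (mem_centralizer_singleton_iff.1 hv) hv1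
  obtain ⟨U, -, -, hU⟩ := sylow_part hz hiy hry
    fun v hv _ hv1 => S.cent_eq hz hy (mem_centralizer_singleton_iff.1 hv) hv1
  obtain ⟨g, hg⟩ := MulAction.exists_smul_eq H T U
  have hgU : ∀ u, u ∈ (T : Subgroup H) ↔ g * u * g⁻¹ ∈ (U : Subgroup H) := fun u => by
    rw [← hg, Sylow.coe_subgroup_smul, Subgroup.mem_pointwise_smul_iff_inv_smul_mem]
    simp [mul_assoc]
  have hconj : ∀ a, a ∈ centralizer ({x} : Set H) ↔ g * a * g⁻¹ ∈ centralizer ({y} : Set H) := by
    intro a
    rw [← hT, ← hU]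
    constructor
    · intro h u hu
      have h' := h (g⁻¹ * u * g) ((hgU _).2 (by rw [show g * (g⁻¹ * u * g) * g⁻¹ = u by group]; exact hu))
      calc g * a * g⁻¹ * u = g * (a * (g⁻¹ * u * g)) * g⁻¹ := by group
        _ = g * (g⁻¹ * u * g * a) * g⁻¹ := by rw [h']
        _ = u * (g * a * g⁻¹) := by group
    · intro h u hu
      have h' := h _ ((hgU u).1 hu)
      calc a * u = g⁻¹ * (g * a * g⁻¹ * (g * u * g⁻¹)) * g := by group
        _ = g⁻¹ * (g * u * g⁻¹ * (g * a * g⁻¹)) * g := by rw [h']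
        _ = u * a := by group
  obtain ⟨d, -, hd, hd'⟩ := align hz hix hiy hoy (v := y) (mem_centralizer_singleton_iff.2 rfl) rfl hconj
  exact ⟨d * g, hd, hd'⟩

/-- The families. -/
theorem families (hz1 : z ≠ 1) : ∃ (r : ℕ) (a k m : Fin r → ℕ),
    (∀ i, a i = k i * m i + 1 ∧ 2 ∣ k i ∧ k i ∣ Nat.card (centralizer ({z} : Set H)) ∧ 0 < m i ∧
      a i ∣ Nat.card H ∧ ∃ x, P x ∧ Nat.card (centralizer ({x} : Set H)) = a i ∧
        Nat.card (stab z (centralizer ({x} : Set H))) = k i) ∧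
    (∀ i j, i ≠ j → Nat.Coprime (a i) (a j)) ∧
    (∀ i (q : ℕ), q.Prime → q ∣ a i → Congr H (a i) (k i) q) ∧
    Nat.card {x : H // P x} = Nat.card (centralizer ({z} : Set H)) * ∑ i, m i := by
  classical
  let B := {x : H // P x}
  let s : Setoid B := ⟨_, S.same_setoid hz⟩
  let e := (Finite.equivFin (Quotient s)).symm
  let rep : Fin (Nat.card (Quotient s)) → B := fun i => (e i).out
  choose m h using fun i => S.family_count hz hz1 (rep i).2
  refine ⟨Nat.card (Quotient s), fun i => Nat.card (centralizer ({(rep i : H)} : Set H)),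
    fun i => Nat.card (stab z (centralizer ({(rep i : H)} : Set H))), m,
    fun i => ?_, fun i j hij => ?_, fun i q hq hqa => ?_, ?_⟩
  · obtain ⟨h1, h2, h3, h4, -⟩ := h i
    exact ⟨h1, h2, h3, h4, Subgroup.card_subgroup_dvd_card _, rep i, (rep i).2, rfl, rfl⟩
  · by_contra hh
    refine hij (e.injective ?_)
    rw [← Quotient.out_eq (e i), ← Quotient.out_eq (e j)]
    exact Quotient.sound (S.family_coprime hz (rep i).2 (rep j).2 hh)
  · haveI : Fact q.Prime := ⟨hq⟩
    exact S.congr_family hz (rep i).2 hqa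
  · rw [Nat.card_congr (Equiv.sigmaFiberEquiv (fun x : B => (e.symm ⟦x⟧))).symm, Nat.card_sigma, Finset.mul_sum]
    refine Finset.sum_congr rfl fun i _ => ?_
    rw [← (h i).2.2.2.2]
    refine Nat.card_congr ((Equiv.subtypeEquivRight fun x : B => ?_).trans
      (Equiv.subtypeSubtypeEquivSubtypeInter P (SameFam z (rep i : H))))
    rw [Equiv.symm_apply_eq]
    show ⟦x⟧ = e i ↔ SameFam z (rep i : H) (x : H)
    constructor
    · intro hx
      exact (S.same_setoid hz).symm (Quotient.exact (hx.trans (Quotient.out_eq (e i)).symm))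
    · intro hx
      rw [← Quotient.out_eq (e i)]
      exact Quotient.sound ((S.same_setoid hz).symm hx)

end FreeSys

end CfsgLib.Invol.JThreeType
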