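import Cfsg.Agent.Lib.Invol.JThreeType.Pair
import Cfsg.Agent.Lib.Invol.JThreeType.Families
import Cfsg.Agent.Lib.Invol.JThreeType.Arith

/-!
# The order of the group when all centralizers of elements of order three are large
-/

set_option autoImplicit false
set_option synthInstance.maxSize 4096

namespace CfsgLib.Invol.JThreeType

open Subgroup
open CfsgLib.Invol.JTwo (PreHyp Frame Out cj mem_cj card_orbit_mul mem_normalizer_of_le)

variable {G : Type*} [Group G] {z : G}

/-- Squaring is injective on elements of odd order. -/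
theorem sq_inj {d d' : G} (hd : Odd (orderOf d)) (hd' : Odd (orderOf d')) (e : d * d = d' * d') : d = d' := by
  obtain ⟨k, hk⟩ := hd.mul hd'
  have key : ∀ x : G, x ^ (orderOf d * orderOf d') = 1 → x = (x * x) ^ (k + 1) := fun x hx => by
    rw [← pow_two, ← pow_mul, show 2 * (k + 1) = orderOf d * orderOf d' + 1 by omega, pow_succ, hx, one_mul]
  rw [key d (by rw [pow_mul, pow_orderOf_eq_one, one_pow]),
    key d' (by rw [mul_comm, pow_mul, pow_orderOf_eq_one, one_pow]), e]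

/-- A set on which a subgroup acts by conjugation without fixed points. -/
theorem dvd_card_of_free [Finite G] (D : Subgroup G) (P : G → Prop) (hP : ∀ c ∈ D, ∀ x, P x → P (c * x * c⁻¹))
    (hfix : ∀ c ∈ D, ∀ x, P x → c * x = x * c → c = 1) : Nat.card D ∣ Nat.card {x : G // P x} := by
  classical
  letI : MulAction D {x : G // P x} :=
    { smul := fun c x => ⟨(c : G) * x * (c : G)⁻¹, hP c c.2 x x.2⟩
      one_smul := fun x => Subtype.ext (by show (1 : G) * x * (1 : G)⁻¹ = x; group)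
      mul_smul := fun c c' x => Subtype.ext (by
        show (c : G) * c' * x * ((c : G) * c')⁻¹ = c * ((c' : G) * x * (c' : G)⁻¹) * (c : G)⁻¹
        group) }
  haveI : Fintype (MulAction.orbitRel.Quotient D {x : G // P x}) := Fintype.ofFinite _
  rw [Nat.card_congr (MulAction.selfEquivSigmaOrbits D {x : G // P x}), Nat.card_sigma]
  refine Finset.dvd_sum fun q _ => ?_
  have hst : MulAction.stabilizer D q.out = ⊥ := by
    refine (Subgroup.eq_bot_iff_forall _).2 fun c hc => Subtype.ext (hfix c c.2 _ q.out.2 ?_)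
    exact mul_inv_eq_iff_eq_mul.1 (congrArg Subtype.val (MulAction.mem_stabilizer_iff.1 hc))
  rw [Nat.card_congr (MulAction.orbitEquivQuotientStabilizer D q.out), hst, ← Subgroup.index_eq_card,
    Subgroup.index_bot]

namespace Big

variable [Finite G] {Q : Subgroup G} (h : Big z Q)
include h

theorem exists_u : ∃ u, IsU z u := by
  obtain ⟨u⟩ := (Nat.card_pos_iff.1 (by rw [h.card_u]; norm_num : 0 < Nat.card {x : G // IsU z x})).1
  exact ⟨u.1, u.2⟩

theorem u_comm_e {u e w : G} (hu : IsU z u) (heC : e ∈ centralizer ({z} : Set G)) (heo : orderOf e = 3)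
    (heu : e * u = u * e) (hw : IsU z w) (hwu : w * u = u * w) : w * e = e * w := by
  obtain ⟨e', he'C, he'o, he'w⟩ := hw.2.2.2
  obtain ⟨i, hi⟩ := mem_zpowers_iff.1 (h.u_same hw he'C he'o he'w hu heC heo heu hwu)
  rw [← hi]
  exact (((show Commute e' w from he'w).zpow_left i).eq).symm

/-- The elements of `U` commuting with a given one. -/
theorem card_uu {u e : G} (hu : IsU z u) (heC : e ∈ centralizer ({z} : Set G)) (heo : orderOf e = 3)
    (heu : e * u = u * e) :
    Nat.card {w : G // IsU z w ∧ w * u = u * w} = 8 ∨ Nat.card {w : G // IsU z w ∧ w * u = u * w} = 2 := by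
  have he : ∀ w, IsU z w ∧ w * u = u * w ↔ (IsU z w ∧ w * e = e * w) ∧ w * u = u * w := fun w =>
    ⟨fun hw => ⟨⟨hw.1, h.u_comm_e hu heC heo heu hw.1 hw.2⟩, hw.2⟩, fun hw => ⟨hw.1.1, hw.2⟩⟩
  rw [Nat.card_congr (Equiv.subtypeEquivRight he)]
  rcases h.R_cases hu heC heo heu with ⟨h27, -⟩ | ⟨-, honly, -⟩
  · exact Or.inl (h.two_sets hu heC heo heu h27).1
  · right
    have hne : u⁻¹ ≠ u := fun e1 => hu.1.1 (eq_one_of_odd_of_mul_self hu.1.2.1 (by
      nth_rw 1 [← e1]; exact inv_mul_cancel u))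
    rw [← Set.ncard_pair hne.symm, ← Nat.card_coe_set_eq]
    refine Nat.card_congr (Equiv.subtypeEquivRight fun w => ?_)
    rw [Set.mem_insert_iff, Set.mem_singleton_iff]
    refine ⟨fun hw => honly w hw.1.1 hw.1.2 hw.2, ?_⟩
    rintro (rfl | rfl)
    · exact ⟨⟨hu, heu.symm⟩, rfl⟩
    · exact ⟨⟨isU_inv h.zz hu, ((show Commute e u from heu).inv_right).eq.symm⟩,
        ((Commute.refl u).inv_left).eq⟩

theorem card_uu_conj {u v : G} (hu : IsU z u) (hv : IsU z v) :
    Nat.card {w : G // IsU z w ∧ w * u = u * w} = Nat.card {w : G // IsU z w ∧ w * v = v * w} ∧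
      Nat.card (centralizer ({u} : Set G)) = Nat.card (centralizer ({v} : Set G)) := by
  obtain ⟨c, hc, rfl⟩ := h.u_conj hu hv
  have key : ∀ w : G, w * u = u * w ↔ c * w * c⁻¹ * (c * u * c⁻¹) = c * u * c⁻¹ * (c * w * c⁻¹) := fun w => by
    rw [show c * w * c⁻¹ * (c * u * c⁻¹) = c * (w * u) * c⁻¹ by group,
      show c * u * c⁻¹ * (c * w * c⁻¹) = c * (u * w) * c⁻¹ by group, mul_left_inj, mul_right_inj]
  constructor
  · refine Nat.card_congr ((MulAut.conj c).toEquiv.subtypeEquiv fun w => ?_)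
    show _ ↔ IsU z (c * w * c⁻¹) ∧ _
    refine and_congr ⟨isU_conj h.zz hc, fun hw => ?_⟩ (key w)
    have := isU_conj h.zz (inv_mem hc) hw
    rwa [show c⁻¹ * (c * w * c⁻¹) * c⁻¹⁻¹ = w by group] at this
  · refine Nat.card_congr ((MulAut.conj c).toEquiv.subtypeEquiv fun w => ?_)
    show _ ↔ c * w * c⁻¹ ∈ _
    rw [mem_centralizer_singleton_iff, mem_centralizer_singleton_iff]
    exact key w

theorem card_cent_u {u e : G} (hu : IsU z u) (heC : e ∈ centralizer ({z} : Set G)) (heo : orderOf e = 3)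
    (heu : e * u = u * e) :
    Nat.card (centralizer ({u} : Set G)) = 3 * Nat.card {a : G // a * u = u * a ∧ z * a * z = a⁻¹} := by
  have heK : zpowers e ≤ centralizer ({u} : Set G) := zpowers_le.2 (mem_centralizer_singleton_iff.2 heu)
  rw [show (3 : ℕ) = Nat.card (zpowers e) by rw [Nat.card_zpowers, heo], ← Nat.card_prod]
  refine (Nat.card_eq_of_bijective (fun q : zpowers e × {a : G // a * u = u * a ∧ z * a * z = a⁻¹} =>
    (⟨q.1.1 * q.2.1, mul_mem (heK q.1.2) (mem_centralizer_singleton_iff.2 q.2.2.1)⟩ : centralizer ({u} : Set G)))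
    ⟨?_, ?_⟩).symm
  · rintro ⟨⟨p, hp⟩, ⟨d, hd, hdi⟩⟩ ⟨⟨p', hp'⟩, ⟨d', hd', hdi'⟩⟩ e1
    replace e1 : p * d = p' * d' := congrArg Subtype.val e1
    have hfix : ∀ q ∈ zpowers e, z * q * z = q := fun q hq => (invol_fix_iff h.zz q).2
      (mem_centralizer_singleton_iff.1 ((zpowers_le.2 heC) hq)).symm
    have e2 : p * d⁻¹ = p' * d'⁻¹ := by
      have e2 := congrArg (fun a => z * a * z) e1
      rwa [invol_conj_mul_map h.zz, invol_conj_mul_map h.zz, hfix p hp, hfix p' hp', hdi, hdi'] at e2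
    have e3 : d * d = d' * d' := by
      calc d * d = (p * d⁻¹)⁻¹ * (p * d) := by group
        _ = (p' * d'⁻¹)⁻¹ * (p' * d') := by rw [e1, e2]
        _ = d' * d' := by group
    obtain rfl := sq_inj (u_odd hu (mem_centralizer_singleton_iff.2 hd))
      (u_odd hu (mem_centralizer_singleton_iff.2 hd')) e3
    obtain rfl := mul_right_cancel e1
    rfl
  · rintro ⟨a, ha⟩
    obtain ⟨p, -, d, hd, e1, hp, hdi⟩ := h.u_decomp hu heC heo heu (centralizer ({u} : Set G))
      (fun b hb => mem_centralizer_singleton_iff.1 hb) (fun b hb => cent_norm h.zz hu.1.2.2 hb) ha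
    exact ⟨(⟨p, hp⟩, ⟨d, mem_centralizer_singleton_iff.1 hd, hdi⟩), Subtype.ext e1.symm⟩

theorem card_near {u : G} (hu : IsU z u) :
    Nat.card {a : G // a * u = u * a ∧ z * a * z = a⁻¹} =
      1 + Nat.card {w : G // IsU z w ∧ w * u = u * w} + Nat.card {x : G // IsFree z x ∧ x * u = u * x} := by
  rw [card_split _ (fun a : G => a = 1),
    card_split (fun a : G => (a * u = u * a ∧ z * a * z = a⁻¹) ∧ ¬ a = 1) (IsU z), ← add_assoc]
  congr 1
  · congr 1
    · exact Nat.card_eq_one_iff_unique.2 ⟨⟨fun a b => Subtype.ext (a.2.2.trans b.2.2.symm)⟩,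
        ⟨⟨1, ⟨by rw [one_mul, mul_one], by rw [mul_one, h.zz, inv_one]⟩, rfl⟩⟩⟩
    · exact Nat.card_congr (Equiv.subtypeEquivRight fun a => ⟨fun ha => ⟨ha.2, ha.1.1.1⟩,
        fun ha => ⟨⟨⟨ha.2, ha.1.1.2.2⟩, ha.1.1.1⟩, ha.1⟩⟩)
  · refine Nat.card_congr (Equiv.subtypeEquivRight fun a => ⟨fun ha => ?_, fun ha => ?_⟩)
    · exact ⟨(h.u_near hu ha.1.1.1 ha.1.1.2 ha.1.2).resolve_left ha.2, ha.1.1.1⟩
    · refine ⟨⟨⟨ha.2, ha.1.1.2.2⟩, ha.1.1.1⟩, fun hU => ?_⟩
      obtain ⟨e, heC, heo, hea⟩ := hU.2.2.2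
      rw [ha.1.2.2 e heC hea, orderOf_one] at heo
      norm_num at heo

/-- Counting the free elements near `U`. -/
theorem near_count {j : ℕ} (hj : ∀ u, IsU z u → Nat.card {w : G // IsU z w ∧ w * u = u * w} = j) {f : ℕ}
    (hf : ∀ u, IsU z u → Nat.card {x : G // IsFree z x ∧ x * u = u * x} = f) :
    Nat.card {x : G // IsFree z x ∧ ∃ u, IsU z u ∧ u * x = x * u} * j = 640 * f ∧
      1920 ∣ Nat.card {x : G // IsFree z x ∧ ∃ u, IsU z u ∧ u * x = x * u} := by
  constructor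
  · rw [← card_pairs (fun (x : G) (u : G) => IsFree z x ∧ IsU z u ∧ u * x = x * u)
      (fun x => IsFree z x ∧ ∃ u, IsU z u ∧ u * x = x * u) (fun x u hx => ⟨hx.1, u, hx.2⟩) (k := j) ?_,
      card_pairs_right (fun (x : G) (u : G) => IsFree z x ∧ IsU z u ∧ u * x = x * u) (IsU z)
      (fun x u hx => hx.2.1) (k := f) ?_, h.card_u]
    · intro u hu
      rw [← hf u hu]
      exact Nat.card_congr (Equiv.subtypeEquivRight fun x => ⟨fun hx => ⟨hx.1, hx.2.2.symm⟩,
        fun hx => ⟨hx.1, hu, hx.2.symm⟩⟩)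
    · rintro x ⟨hx, u₀, hu₀, hu₀x⟩
      rw [← hj u₀ hu₀]
      refine Nat.card_congr (Equiv.subtypeEquivRight fun w => ⟨fun hw => ⟨hw.2.1, ?_⟩, fun hw => ⟨hx, hw.1, ?_⟩⟩)
      · exact (h.free_cent hx).2.2 w (mem_centralizer_singleton_iff.2 hw.2.2) u₀
          (mem_centralizer_singleton_iff.2 hu₀x)
      · have e := h.u_cent_eq hu₀ hw.1 hw.2.symm
        have hm : x ∈ centralizer ({u₀} : Set G) := mem_centralizer_singleton_iff.2 hu₀x.symm
        rw [← e] at hm
        exact (mem_centralizer_singleton_iff.1 hm).symm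
  · rw [← h.card_C]
    refine dvd_card_of_free _ _ (fun c hc x hx => ?_) fun c hc x hx hcx => hx.1.2.2 c hc hcx
    obtain ⟨hx, u, hu, hux⟩ := hx
    refine ⟨isFree_conj h.zz hc hx, c * u * c⁻¹, isU_conj h.zz hc hu, ?_⟩
    rw [show c * u * c⁻¹ * (c * x * c⁻¹) = c * (u * x) * c⁻¹ by group, hux]; group

/-- The congruence at the primes of `s`. -/
theorem s_congr {u e : G} (hu : IsU z u) (heC : e ∈ centralizer ({z} : Set G)) (heo : orderOf e = 3)
    (heu : e * u = u * e) {r : ℕ} (hr : r.Prime) (hr3 : r ≠ 3)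
    (hrs : r ∣ Nat.card {a : G // a * u = u * a ∧ z * a * z = a⁻¹}) :
    Congr G (Nat.card {a : G // a * u = u * a ∧ z * a * z = a⁻¹})
      (3 * Nat.card {w : G // IsU z w ∧ w * u = u * w}) r := by
  classical
  haveI : Fact r.Prime := ⟨hr⟩
  have hK := h.card_cent_u hu heC heo heu
  have hab := (h.u_struct hu).resolve_left fun hp => by
    haveI : Fact (Nat.Prime 3) := ⟨Nat.prime_three⟩
    obtain ⟨i, hi⟩ := hp.exists_card_eq
    have hd : r ∣ 3 ^ i := by rw [← hi, hK]; exact hrs.mul_left 3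
    exact hr3 ((Nat.prime_dvd_prime_iff_eq hr Nat.prime_three).1 (hr.dvd_of_dvd_pow hd))
  let A : Subgroup G :=
    { carrier := {a | a * u = u * a ∧ z * a * z = a⁻¹}
      mul_mem' := fun {a b} ha hb => ⟨((show Commute a u from ha.1).mul_left (show Commute b u from hb.1)).eq, by
        rw [invol_conj_mul_map h.zz, ha.2, hb.2, ← _root_.mul_inv_rev, hab a b ha.1 hb.1 ha.2 hb.2]⟩
      one_mem' := ⟨by rw [one_mul, mul_one], by rw [mul_one, h.zz, inv_one]⟩
      inv_mem' := fun {a} ha => ⟨((show Commute a u from ha.1).inv_left).eq, by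
        rw [invol_conj_inv_map h.zz, ha.2]⟩ }
  have hA : Nat.card A = Nat.card {a : G // a * u = u * a ∧ z * a * z = a⁻¹} := rfl
  have hmem : ∀ a, a ∈ A ↔ a * u = u * a ∧ z * a * z = a⁻¹ := fun a => Iff.rfl
  have hc := congr_part (r := r) h.zz (A := A) (fun a ha => ha.2)
    (fun a ha => u_odd hu (mem_centralizer_singleton_iff.2 ha.1)) (hA ▸ hrs) ?_
  swap
  · intro v hv hvr hv1
    have hfree : IsFree z v := (h.u_near hu hv.1 hv.2 hv1).resolve_left fun hU => by
      have h1 := orderOf_dvd_of_pow_eq_one hvr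
      rw [isU_order hU] at h1
      exact hr3 ((Nat.prime_dvd_prime_iff_eq Nat.prime_three hr).1 h1).symm
    refine le_antisymm (fun a ha => ?_) fun a ha => mem_centralizer_singleton_iff.2 (hab a v ha.1 hv.1 ha.2 hv.2)
    obtain ⟨-, hinv, hcom⟩ := h.free_cent hfree
    exact ⟨hcom a ha u (mem_centralizer_singleton_iff.2 hv.1.symm), hinv a ha⟩
  suffices hst : Nat.card (stab z A) = 3 * Nat.card {w : G // IsU z w ∧ w * u = u * w} by
    rwa [hst, hA] at hc
  have e1 := card_orbit_mul (stab z A) u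
  have hzfix : ∀ c ∈ centralizer ({z} : Set G), z * c * z = c := fun c hc =>
    (invol_fix_iff h.zz c).2 (mem_centralizer_singleton_iff.1 hc).symm
  have hzconj : ∀ c ∈ centralizer ({z} : Set G), ∀ a, z * a * z = a⁻¹ →
      z * (c * a * c⁻¹) * z = (c * a * c⁻¹)⁻¹ := fun c hc a ha => by
    rw [invol_conj_mul_map h.zz, invol_conj_mul_map h.zz, invol_conj_inv_map h.zz, hzfix c hc, ha]
    group
  have hN : ∀ c ∈ centralizer ({z} : Set G),
      centralizer ({c * u * c⁻¹} : Set G) = centralizer ({u} : Set G) → c ∈ stab z A := fun c hc he => by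
    refine ⟨hc, mem_normalizer_of_le fun a ha => (hmem _).2 ⟨?_, hzconj c hc a ha.2⟩⟩
    refine mem_centralizer_singleton_iff.1 ?_
    rw [← he]
    exact mem_centralizer_singleton_iff.2 (by
      rw [show c * a * c⁻¹ * (c * u * c⁻¹) = c * (a * u) * c⁻¹ by group, ha.1]; group)
  have hD : Nat.card (stab z A ⊓ centralizer ({u} : Set G) : Subgroup G) = 3 := by
    have hm : e ∈ stab z A := hN e heC (by rw [heu, mul_inv_cancel_right])
    rw [show stab z A ⊓ centralizer ({u} : Set G) = zpowers e from le_antisymm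
      (fun c hc => h.u_fixed hu heC heo heu hc.1.1 (mem_centralizer_singleton_iff.1 hc.2))
      (zpowers_le.2 ⟨hm, mem_centralizer_singleton_iff.2 heu⟩), Nat.card_zpowers, heo]
  rw [← e1, hD, mul_comm]
  congr 1
  refine Nat.card_congr (Equiv.subtypeEquivRight fun w => ⟨?_, fun hw => ?_⟩)
  · rintro ⟨c, hc, rfl⟩
    exact ⟨isU_conj h.zz hc.1 hu, ((mem_normalizer_iff.1 hc.2 u).1 ((hmem u).2 ⟨rfl, hu.1.2.2⟩)).1⟩
  · obtain ⟨c, hc, hcw⟩ := h.u_conj hu hw.1
    exact ⟨c, hN c hc (by rw [hcw]; exact h.u_cent_eq hu hw.1 hw.2.symm), hcw⟩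

/-- The free elements far from `U` form a system. -/
theorem far_sys : FreeSys z (fun x => IsFree z x ∧ ¬ ∃ u, IsU z u ∧ u * x = x * u) where
  ne_one x hx := hx.1.1.1
  conj x c hx hc := by
    refine ⟨isFree_conj h.zz hc hx.1, ?_⟩
    rintro ⟨u, hu, hux⟩
    refine hx.2 ⟨c⁻¹ * u * c⁻¹⁻¹, isU_conj h.zz (inv_mem hc) hu, ?_⟩
    calc c⁻¹ * u * c⁻¹⁻¹ * x = c⁻¹ * (u * (c * x * c⁻¹)) * c := by group
      _ = c⁻¹ * (c * x * c⁻¹ * u) * c := by rw [hux]
      _ = x * (c⁻¹ * u * c⁻¹⁻¹) := by group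
  fixfree x c hx hc hcx := hx.1.2.2 c hc hcx
  odd x hx := (h.free_cent hx.1).1
  inv x hx := hx.1.1.2.2
  closed x y hx hyx hy1 := by
    have hy : IsFree z y := (h.free_near hx.1 hyx hy1).resolve_left fun hU => hx.2 ⟨y, hU, hyx⟩
    refine ⟨hy, ?_⟩
    rintro ⟨u, hu, huy⟩
    exact hx.2 ⟨u, hu, (h.free_cent hy).2.2 u (mem_centralizer_singleton_iff.2 huy) x
      (mem_centralizer_singleton_iff.2 hyx.symm)⟩

theorem far_no_three {x : G} (hx : IsFree z x ∧ ¬ ∃ u, IsU z u ∧ u * x = x * u) :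
    ¬ 3 ∣ Nat.card (centralizer ({x} : Set G)) := by
  intro h3
  haveI : Fact (Nat.Prime 3) := ⟨Nat.prime_three⟩
  have S := h.far_sys
  obtain ⟨T, hT, -, -⟩ := sylow_part h.zz (S.cent_props h.zz hx).2.1 h3
    fun v hv _ hv1 => S.cent_eq h.zz hx (mem_centralizer_singleton_iff.1 hv) hv1
  obtain ⟨u, hu⟩ := h.exists_u
  obtain ⟨e, heC, heo, -⟩ := hu.2.2.2
  have heY : YClass e :=
    ⟨heo, z, h.isI, mem_centralizer_singleton_iff.2 (mem_centralizer_singleton_iff.1 heC).symm⟩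
  obtain ⟨P, hP⟩ := (IsPGroup.of_card (p := 3) (n := 1) (G := zpowers e)
    (by rw [Nat.card_zpowers, heo, pow_one])).exists_le_sylow
  obtain ⟨g, hg⟩ := MulAction.exists_smul_eq G P T
  have hmem : g * e * g⁻¹ ∈ (T : Subgroup G) := by
    rw [← hg, Sylow.coe_subgroup_smul, Subgroup.mem_pointwise_smul_iff_inv_smul_mem]
    have := hP (mem_zpowers e)
    simpa [mul_assoc] using this
  exact h.free_no_yclass hx.1 (mem_centralizer_singleton_iff.1 (hT hmem)) (yclass_conj g heY)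

theorem far_coprime {x u : G} (hx : IsFree z x ∧ ¬ ∃ u, IsU z u ∧ u * x = x * u) (hu : IsU z u) {r : ℕ}
    (hr : r.Prime) (hrx : r ∣ Nat.card (centralizer ({x} : Set G)))
    (hru : r ∣ Nat.card (centralizer ({u} : Set G))) : False := by
  haveI : Fact r.Prime := ⟨hr⟩
  haveI : Fact (Nat.Prime 3) := ⟨Nat.prime_three⟩
  have S := h.far_sys
  obtain ⟨T, hT, -, -⟩ := sylow_part h.zz (S.cent_props h.zz hx).2.1 hrx
    fun v hv _ hv1 => S.cent_eq h.zz hx (mem_centralizer_singleton_iff.1 hv) hv1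
  obtain ⟨v, hv⟩ := exists_prime_orderOf_dvd_card' (G := centralizer ({u} : Set G)) r hru
  rw [← Subgroup.orderOf_coe] at hv
  obtain ⟨P, hP⟩ := (IsPGroup.of_card (p := r) (n := 1) (G := zpowers (v : G))
    (by rw [Nat.card_zpowers, hv, pow_one])).exists_le_sylow
  obtain ⟨g, hg⟩ := MulAction.exists_smul_eq G P T
  have hmem : g * v * g⁻¹ ∈ (T : Subgroup G) := by
    rw [← hg, Sylow.coe_subgroup_smul, Subgroup.mem_pointwise_smul_iff_inv_smul_mem]
    have := hP (mem_zpowers (v : G))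
    simpa [mul_assoc] using this
  have hv1 : g * (v : G) * g⁻¹ ≠ 1 := fun e => by
    rw [conj_eq_one_iff] at e
    rw [e, orderOf_one] at hv
    exact hr.one_lt.ne hv
  have hgu : g * u * g⁻¹ ∈ centralizer ({x} : Set G) := by
    rw [← S.cent_eq h.zz hx (mem_centralizer_singleton_iff.1 (hT hmem)) hv1]
    refine mem_centralizer_singleton_iff.2 ?_
    rw [show g * u * g⁻¹ * (g * (v : G) * g⁻¹) = g * (u * v) * g⁻¹ by group,
      show g * (v : G) * g⁻¹ * (g * u * g⁻¹) = g * (v * u) * g⁻¹ by group,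
      (mem_centralizer_singleton_iff.1 v.2)]
  refine h.far_no_three hx ?_
  have := orderOf_dvd_natCard _ hgu
  rwa [← MulAut.conj_apply, MulEquiv.orderOf_eq, isU_order hu] at this

/-- The order of the group. -/
theorem arith_data : ∃ (u : G) (r j s m0 : ℕ) (a k m : Fin r → ℕ), IsU z u ∧
    j = Nat.card {w : G // IsU z w ∧ w * u = u * w} ∧ Nat.card (centralizer ({u} : Set G)) = 3 * s ∧
    Arith.Data j s (Nat.card {t : G // IsI t}) a k m ∧ (j = 8 ∨ j = 2) ∧ s = 3 * j * m0 + 1 + j ∧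
    Nat.card {t : G // IsI t} = 16563 + 1920 * (m0 + ∑ i, m i) ∧ s ∣ Nat.card {t : G // IsI t} ∧
    (∀ i, a i ∣ Nat.card {t : G // IsI t}) ∧ 9 ∣ Nat.card {t : G // IsI t} ∧ ¬ 5 ∣ s := by
  classical
  obtain ⟨u, hu⟩ := h.exists_u
  obtain ⟨e, heC, heo, heu⟩ := hu.2.2.2
  set j := Nat.card {w : G // IsU z w ∧ w * u = u * w} with hjdef
  set s := Nat.card {a : G // a * u = u * a ∧ z * a * z = a⁻¹} with hsdef
  have hj : j = 8 ∨ j = 2 := h.card_uu hu heC heo heu
  have hK : Nat.card (centralizer ({u} : Set G)) = 3 * s := h.card_cent_u hu heC heo heu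
  have hs1 := h.card_near hu
  rw [← hsdef, ← hjdef] at hs1
  have hju : ∀ v, IsU z v → Nat.card {w : G // IsU z w ∧ w * v = v * w} = j := fun v hv =>
    (h.card_uu_conj hu hv).1.symm
  have hfu : ∀ v, IsU z v → Nat.card {x : G // IsFree z x ∧ x * v = v * x} =
      Nat.card {x : G // IsFree z x ∧ x * u = u * x} := fun v hv => by
    obtain ⟨e', he'C, he'o, he'v⟩ := hv.2.2.2
    have h1 := h.card_cent_u hv he'C he'o he'v
    have h2 := h.card_near hv
    rw [hju v hv] at h2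
    have h3 := (h.card_uu_conj hu hv).2
    omega
  obtain ⟨hF, hF'⟩ := h.near_count hju hfu
  obtain ⟨m0, hm0⟩ := hF'
  have hsj : s = 3 * j * m0 + 1 + j := by
    rw [hm0] at hF
    rcases hj with e0 | e0 <;> rw [e0] at hF hs1 ⊢ <;> omega
  obtain ⟨r, a, k, m, hfam, hco, hcong, hsum⟩ := h.far_sys.families h.zz h.z_ne
  rw [h.card_C] at hfam hsum
  set n := Nat.card {t : G // IsI t} with hndef
  have hG : Nat.card G = 1920 * n := h.card_group
  have hn : n = 16563 + 1920 * (m0 + ∑ i, m i) := by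
    rw [hndef, h.card_n, card_split (IsFree z) (fun x : G => ∃ u, IsU z u ∧ u * x = x * u), hm0, hsum]
    ring
  have hs5 : ¬ 5 ∣ s := fun h5 => by
    haveI : Fact (Nat.Prime 5) := ⟨Nat.prime_five⟩
    obtain ⟨v, hv⟩ := exists_prime_orderOf_dvd_card' (G := centralizer ({u} : Set G)) 5
      (by rw [hK]; exact h5.mul_left 3)
    rw [← Subgroup.orderOf_coe] at hv
    exact h.u_no_five hu (mem_centralizer_singleton_iff.1 v.2) (by rw [hv])
  have hs2 : ¬ 2 ∣ s := fun h2 => by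
    haveI : Fact (Nat.Prime 2) := ⟨Nat.prime_two⟩
    obtain ⟨v, hv⟩ := exists_prime_orderOf_dvd_card' (G := centralizer ({u} : Set G)) 2
      (by rw [hK]; exact h2.mul_left 3)
    rw [← Subgroup.orderOf_coe] at hv
    exact u_no_invol hu (isI_iff.2 hv) (mem_centralizer_singleton_iff.1 v.2)
  have hsn : s ∣ n := by
    have h1 : 3 * s ∣ 3 * (640 * n) := by
      rw [← hK, show 3 * (640 * n) = 1920 * n by ring, ← hG]
      exact Subgroup.card_subgroup_dvd_card _
    have h2 := Nat.dvd_of_mul_dvd_mul_left (by norm_num : 0 < 3) h1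
    exact (show Nat.Coprime s (2 ^ 7 * 5) from ((Nat.prime_two.coprime_iff_not_dvd.2 hs2).symm.pow_right 7).mul_right
      (Nat.prime_five.coprime_iff_not_dvd.2 hs5).symm).dvd_of_dvd_mul_left h2
  have h9 : 9 ∣ n := by
    have h1 : 1080 ∣ 1920 * n := by
      rw [← h.big e heC heo, ← hG]
      exact Subgroup.card_subgroup_dvd_card _
    omega
  have ha30 : ∀ i, Nat.Coprime (a i) 30 := fun i => by
    obtain ⟨-, -, -, -, -, x, hx, hxa, -⟩ := hfam i
    rw [← hxa, show (30 : ℕ) = 2 * (3 * 5) by norm_num]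
    refine Nat.Coprime.mul_right (Nat.coprime_two_right.2 (h.free_cent hx.1).1)
      (Nat.Coprime.mul_right (Nat.prime_three.coprime_iff_not_dvd.2 (h.far_no_three hx)).symm
        (Nat.prime_five.coprime_iff_not_dvd.2 fun h5 => ?_).symm)
    haveI : Fact (Nat.Prime 5) := ⟨Nat.prime_five⟩
    obtain ⟨v, hv⟩ := exists_prime_orderOf_dvd_card' (G := centralizer ({x} : Set G)) 5 h5
    rw [← Subgroup.orderOf_coe] at hv
    exact h.free_no_five hx.1 (mem_centralizer_singleton_iff.1 v.2) hv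
  have D : Arith.Data j s n a k m :=
    { fam := fun i => ⟨(hfam i).1, (hfam i).2.1, (hfam i).2.2.1, (hfam i).2.2.2.1⟩
      cop30 := ha30
      cops := fun i => by
        obtain ⟨-, -, -, -, -, x, hx, hxa, -⟩ := hfam i
        by_contra hh
        obtain ⟨q, hq, hqa, hqs⟩ := Nat.Prime.not_coprime_iff_dvd.1 hh
        exact h.far_coprime hx hu hq (hxa ▸ hqa) (by rw [hK]; exact hqs.mul_left 3)
      cop := hco
      odd := ⟨8281 + 960 * (m0 + ∑ i, m i), by omega⟩
      congs := fun q hq hqs hq3 => by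
        obtain ⟨w, hw, hw1⟩ := h.s_congr hu heC heo heu hq hq3 hqs
        exact ⟨w, hG ▸ hw, hw1⟩
      cong := fun i q hq hqa => by
        obtain ⟨w, hw, hw1⟩ := hcong i q hq hqa
        exact ⟨w, hG ▸ hw, hw1⟩ }
  have hdvd : ∀ i, a i ∣ n := fun i => by
    have h1 := (hfam i).2.2.2.2.1
    rw [hG] at h1
    exact (((ha30 i).pow_right 7).coprime_dvd_right (by norm_num)).dvd_of_dvd_mul_left h1
  exact ⟨u, r, j, s, m0, a, k, m, hu, hjdef, hK, D, hj, hsj, hn, hsn, hdvd, h9, hs5⟩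

/-- The number of involutions. -/
theorem card_invol_eq : Nat.card {t : G // IsI t} = 26163 := by
  obtain ⟨u, r, j, s, m0, a, k, m, -, -, -, D, hj, hsj, hn, hsn, hdvd, h9, hs5⟩ := h.arith_data
  exact D.main hj hsj hn hsn hdvd h9 hs5

/-- The order of the group. -/
theorem card_eq : Nat.card G = 50232960 := by
  have hG : Nat.card G = 1920 * Nat.card {t : G // IsI t} := h.card_group
  rw [hG, h.card_invol_eq]

end Big

end CfsgLib.Invol.JThreeType
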