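import Cfsg.Agent.Lib.Invol.JThreeType.Families
import Cfsg.Agent.Lib.Spor.UFourType.InvolFixed

/-!
# Groups with one class of involutions and a centralizer of order eight with five involutions
-/

set_option autoImplicit false
set_option synthInstance.maxSize 4096

namespace CfsgLib.Invol.JThreeType

open Subgroup

theorem card_partition {α : Type*} [Finite α] (p q : α → Prop) :
    Nat.card {t : α // p t} = Nat.card {t : α // p t ∧ q t} + Nat.card {t : α // p t ∧ ¬ q t} := by
  classical
  rw [← Nat.card_sum]
  refine Nat.card_congr ((Equiv.sumCompl fun t : {t : α // p t} => q t).symm.trans ?_)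
  exact Equiv.sumCongr (Equiv.subtypeSubtypeEquivSubtypeInter p q)
    (Equiv.subtypeSubtypeEquivSubtypeInter p fun t => ¬ q t)

/-- The inverted elements. -/
def IsOddInv {H : Type*} [Group H] (z x : H) : Prop := x ≠ 1 ∧ Odd (orderOf x) ∧ z * x * z = x⁻¹

/-- The hypothesis. -/
structure EightType {H : Type*} [Group H] (z : H) : Prop where
  ord : orderOf z = 2
  card : Nat.card (centralizer ({z} : Set H)) = 8
  five : Nat.card {d : H // d ∈ centralizer ({z} : Set H) ∧ orderOf d = 2} = 5
  one : ∀ t : H, orderOf t = 2 → IsConj z t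

theorem no_big_product {r : ℕ} (a : Fin r → ℕ) (h3 : ∀ i, 3 ≤ a i ∧ Odd (a i))
    (hne : ∀ i j, i ≠ j → a i ≠ a j) (hr : 3 ≤ r) : 13 + 4 * ∑ i, (a i - 1) < ∏ i, a i := by
  classical
  suffices key : ∀ s : Finset (Fin r), 3 ≤ s.card → 13 + 4 * ∑ i ∈ s, (a i - 1) < ∏ i ∈ s, a i by
    exact key Finset.univ (by simpa using hr)
  intro s
  induction hn : s.card using Nat.strong_induction_on generalizing s with
  | _ N ih =>
    intro hN
    obtain ⟨i, hi, hmax⟩ := Finset.exists_max_image s a (Finset.card_pos.1 (by omega))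
    rcases Nat.lt_or_ge 3 N with h4 | h4
    · have he : (s.erase i).card = N - 1 := by rw [Finset.card_erase_of_mem hi, hn]
      have := ih (N - 1) (by omega) (s.erase i) he (by omega)
      rw [← Finset.prod_erase_mul s a hi, ← Finset.sum_erase_add s _ hi]
      set P := ∏ x ∈ s.erase i, a x
      set S := ∑ x ∈ s.erase i, (a x - 1)
      obtain ⟨b, hb⟩ : ∃ b, a i = b + 1 := ⟨a i - 1, by have := (h3 i).1; omega⟩
      rw [hb, Nat.add_sub_cancel]
      nlinarith
    · have hc3 : (s.erase i).card = 2 := by rw [Finset.card_erase_of_mem hi]; omega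
      obtain ⟨j, l, hjl, he⟩ := Finset.card_eq_two.1 hc3
      rw [← Finset.prod_erase_mul s a hi, ← Finset.sum_erase_add s _ hi, he, Finset.prod_pair hjl,
        Finset.sum_pair hjl]
      have hj := hmax j (Finset.mem_of_mem_erase (he ▸ Finset.mem_insert_self j {l}))
      have hl := hmax l (Finset.mem_of_mem_erase (he ▸ Finset.mem_insert_of_mem (Finset.mem_singleton_self l)))
      have hji : a j ≠ a i := hne j i (Finset.ne_of_mem_erase (he ▸ Finset.mem_insert_self j {l}))
      have hli : a l ≠ a i :=
        hne l i (Finset.ne_of_mem_erase (he ▸ Finset.mem_insert_of_mem (Finset.mem_singleton_self l)))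
      have hne' := hne j l hjl
      obtain ⟨⟨j3, u, hu⟩, ⟨l3, v, hv⟩⟩ := (⟨h3 j, h3 l⟩ : (3 ≤ a j ∧ Odd (a j)) ∧ (3 ≤ a l ∧ Odd (a l)))
      have h15 : 15 ≤ a j * a l := by
        rcases Nat.lt_or_ge (a j) (a l) with hlt | hlt
        · have h5 : 5 ≤ a l := by omega
          calc 15 = 3 * 5 := rfl
            _ ≤ a j * a l := Nat.mul_le_mul j3 h5
        · have h5 : 5 ≤ a j := by omega
          calc 15 = 5 * 3 := rfl
            _ ≤ a j * a l := Nat.mul_le_mul h5 l3
      have h1 : 15 * a i ≤ a j * a l * a i := Nat.mul_le_mul_right _ h15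
      omega

theorem one_eight : ∀ k ∈ [2, 4], ∀ m < 23, 0 < m → (13 + 8 * m) % (k * m + 1) = 0 →
    (k = 2 ∧ m = 1) ∨ (k = 2 ∧ m = 4) := by
  decide +kernel

theorem two_eight : ∀ k ∈ [2, 4], ∀ m < 4, ∀ l ∈ [2, 4], ∀ n < 71, k * m + 1 < l * n + 1 → k * m + 1 ≤ 8 → 0 < m →
    Nat.gcd (k * m + 1) (l * n + 1) = 1 → (13 + 8 * (m + n)) % ((k * m + 1) * (l * n + 1)) = 0 →
    (k = 2 ∧ m = 2 ∧ l = 4 ∧ n = 2) ∨ (k = 2 ∧ m = 3 ∧ l = 2 ∧ n = 5) ∨ (k = 4 ∧ m = 1 ∧ l = 2 ∧ n = 8) := by
  decide +kernel

theorem nine_root : ∀ j < 9, (j * j + 1) % 9 ≠ 0 := by decide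

namespace EightType

variable {H : Type*} [Group H] [Finite H] {z : H} (h : EightType z)
include h

theorem zz : z * z = 1 := invol_mul_self h.ord

theorem two_group {w : H} (hw : orderOf w = 2) : Nat.card (centralizer ({w} : Set H)) = 8 := by
  obtain ⟨g, rfl⟩ := isConj_iff.1 (h.one w hw)
  rw [← h.card]
  exact (Nat.card_congr ((MulAut.conj g).toEquiv.subtypeEquiv fun x => by
    show _ ↔ g * x * g⁻¹ ∈ _
    rw [mem_centralizer_singleton_iff, mem_centralizer_singleton_iff,
      show g * x * g⁻¹ * (g * z * g⁻¹) = g * (x * z) * g⁻¹ by group,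
      show g * z * g⁻¹ * (g * x * g⁻¹) = g * (z * x) * g⁻¹ by group, mul_left_inj, mul_right_inj])).symm

theorem odd_commute {w x : H} (hw : orderOf w = 2) (hx : Odd (orderOf x)) (hc : x * w = w * x) : x = 1 := by
  have hd := orderOf_dvd_natCard (centralizer ({w} : Set H)) (mem_centralizer_singleton_iff.2 hc)
  rw [h.two_group hw] at hd
  exact orderOf_eq_one_iff.1 (Nat.eq_one_of_dvd_coprimes
    ((Nat.coprime_two_left.2 hx).pow_left 3) (show orderOf x ∣ 2 ^ 3 from hd) dvd_rfl)

theorem fix_invol {c : H} (hc : c ∈ centralizer ({z} : Set H)) (hc1 : c ≠ 1) :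
    ∃ w ∈ zpowers c, orderOf w = 2 := by
  obtain ⟨w, hw⟩ := exists_prime_orderOf_dvd_card' (G := zpowers c) (hp := ⟨Nat.prime_two⟩) 2 (by
    rw [Nat.card_zpowers]
    have hd := orderOf_dvd_natCard _ hc
    rw [h.card] at hd
    obtain ⟨j, -, hj⟩ := (Nat.dvd_prime_pow Nat.prime_two (m := 3)).1 hd
    rcases j with _ | j
    · exact absurd (orderOf_eq_one_iff.1 (hj.trans (pow_zero 2))) hc1
    · rw [hj]; exact dvd_pow_self 2 (Nat.succ_ne_zero j))
  exact ⟨w, w.2, by rw [Subgroup.orderOf_coe]; exact hw⟩

theorem free_sys : FreeSys z (IsOddInv z) := by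
  have hfix : ∀ x c, IsOddInv z x → c ∈ centralizer ({z} : Set H) → c * x = x * c → c = 1 := by
    intro x c hx hc hcx
    by_contra hc1
    obtain ⟨w, hw, hwo⟩ := h.fix_invol hc hc1
    obtain ⟨k, rfl⟩ := mem_zpowers_iff.1 hw
    exact hx.1 (h.odd_commute hwo hx.2.1 ((show Commute c x from hcx).zpow_left k).eq.symm)
  have hnorm : ∀ x, IsOddInv z x → ∀ a ∈ centralizer ({x} : Set H), z * a * z ∈ centralizer ({x} : Set H) := by
    intro x hx a ha
    refine mem_centralizer_singleton_iff.2 ?_
    have e : z * x⁻¹ * z = x := by rw [← hx.2.2, invol_conj_twice h.zz]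
    have ha' : a * x⁻¹ = x⁻¹ * a :=
      ((show Commute a x from mem_centralizer_singleton_iff.1 ha).inv_right).eq
    calc z * a * z * x = z * a * z * (z * x⁻¹ * z) := by rw [e]
      _ = z * (a * x⁻¹) * z := (invol_conj_mul_map h.zz a x⁻¹).symm
      _ = z * (x⁻¹ * a) * z := by rw [ha']
      _ = x * (z * a * z) := by rw [invol_conj_mul_map h.zz, e]
  have hodd : ∀ x, IsOddInv z x → Odd (Nat.card (centralizer ({x} : Set H))) := by
    intro x hx
    rw [← Nat.not_even_iff_odd, even_iff_two_dvd]
    intro h2
    obtain ⟨w, hw, hww, hw1, hwz⟩ :=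
      Spor.UFourType.exists_fixed_invol h.zz _ (hnorm x hx) h2
    exact hw1 (hfix x w hx (mem_centralizer_singleton_iff.2 hwz) (mem_centralizer_singleton_iff.1 hw))
  refine
    { ne_one := fun x hx => hx.1, fixfree := hfix, odd := hodd, inv := fun x hx => hx.2.2, conj := ?_, closed := ?_ }
  · intro x c hx hc
    refine ⟨fun e => hx.1 (conj_eq_one_iff.1 e), by rw [← MulAut.conj_apply, MulEquiv.orderOf_eq]; exact hx.2.1, ?_⟩
    have hcz := mem_centralizer_singleton_iff.1 hc
    calc z * (c * x * c⁻¹) * z = z * c * x * (c⁻¹ * z) := by group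
      _ = c * z * x * (z * c⁻¹) := by
          rw [← hcz, ((show Commute c z from hcz).inv_left).eq]
      _ = c * (z * x * z) * c⁻¹ := by group
      _ = (c * x * c⁻¹)⁻¹ := by rw [hx.2.2]; group
  · intro x y hx hy hy1
    have ho : ∀ a ∈ centralizer ({x} : Set H), Odd (orderOf a) := fun a ha =>
      (hodd x hx).of_dvd_nat (orderOf_dvd_natCard _ ha)
    have hi := (fixfree_inverts h.zz _ ho (hnorm x hx) fun a ha hc =>
      hfix x a hx (mem_centralizer_singleton_iff.2 hc.symm) (mem_centralizer_singleton_iff.1 ha)).1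
    have hyA : y ∈ centralizer ({x} : Set H) := mem_centralizer_singleton_iff.2 hy
    exact ⟨hy1, ho y hyA, hi y hyA⟩

theorem partners {w : H} (hw : w ∈ centralizer ({z} : Set H)) (hwo : orderOf w = 2) (hwz : w ≠ z) :
    Nat.card {d : H // orderOf d = 2 ∧ w * d ≠ d * w ∧ z ∈ zpowers (w * d)} = 2 := by
  classical
  haveI : Fintype H := Fintype.ofFinite H
  set C := centralizer ({z} : Set H) with hC
  have hww := invol_mul_self hwo
  have hwc := mem_centralizer_singleton_iff.1 hw
  have hzw : orderOf (z * w) = 2 := by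
    rw [invol_iff]
    refine ⟨?_, fun e => hwz ?_⟩
    · rw [mul_assoc, ← mul_assoc w, hwc, mul_assoc, hww, mul_one, h.zz]
    · rw [eq_inv_of_mul_eq_one_right e, inv_eq_of_mul_eq_one_right h.zz]
  have hsq : ∀ d, d ∈ C → orderOf d = 2 → w * d = d * w → d = z ∨ d = w ∨ d = z * w := by
    intro d hd hdo hdw
    by_contra hne
    push Not at hne
    obtain ⟨n1, n2, n3⟩ := hne
    -- eight commuting elements would give seven involutions
    have hdz : d * z = z * d := mem_centralizer_singleton_iff.1 hd
    let f : Bool × Bool × Bool → C := fun p =>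
      ⟨(if p.1 then z else 1) * (if p.2.1 then w else 1) * (if p.2.2 then d else 1),
        mul_mem (mul_mem (by split_ifs <;> [exact mem_centralizer_singleton_iff.2 rfl; exact one_mem _])
          (by split_ifs <;> [exact hw; exact one_mem _])) (by split_ifs <;> [exact hd; exact one_mem _])⟩
    have hdd := invol_mul_self hdo
    have hd1 := invol_ne_one hdo
    have hw1 := invol_ne_one hwo
    have hz1 := invol_ne_one h.ord
    have hzi : z⁻¹ = z := invol_inv h.ord
    have hwi : w⁻¹ = w := invol_inv hwo
    have hdi : d⁻¹ = d := invol_inv hdo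
    have hsmall : ∀ a b c : Bool, ((if a then z else 1) * (if b then w else 1) * (if c then d else 1) : H) = 1 →
        a = false ∧ b = false ∧ c = false := by
      intro a b c e
      cases a <;> cases b <;> cases c <;>
        simp only [if_true, if_false, Bool.false_eq_true, one_mul, mul_one] at e ⊢
      · trivial
      · exact absurd e hd1
      · exact absurd e hw1
      · exact absurd ((eq_inv_of_mul_eq_one_right e).trans hwi) n2
      · exact absurd e hz1
      · exact absurd ((eq_inv_of_mul_eq_one_right e).trans hzi) n1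
      · exact absurd ((eq_inv_of_mul_eq_one_right e).trans hzi) hwz
      · exact absurd ((eq_inv_of_mul_eq_one_right e).trans (invol_inv hzw)) n3
    have hz2 : ∀ a : Bool, ∀ u : H, u * z = z * u → Commute u (if a then z else 1) := fun a u e => by
      split_ifs
      · exact e
      · exact Commute.one_right u
    have hmul : ∀ a b c a' b' c' : Bool,
        ((if a then z else 1) * (if b then w else 1) * (if c then d else 1) : H) *
          ((if a' then z else 1) * (if b' then w else 1) * (if c' then d else 1)) =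
        (if (a ^^ a') then z else 1) * (if (b ^^ b') then w else 1) * (if (c ^^ c') then d else 1) := by
      intro a b c a' b' c'
      have sq : ∀ (v : H) (x y : Bool), v * v = 1 →
          (if x then v else 1) * (if y then v else 1) = if (x ^^ y) then v else 1 := by
        intro v x y hv
        cases x <;> cases y <;> simp [hv]
      have cwz : ∀ x y : Bool, Commute (if x then w else 1) (if y then z else 1) := fun x y => by
        split_ifs <;> first | exact Commute.one_left _ | exact Commute.one_right _ | exact hwc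
      have cdz : ∀ x y : Bool, Commute (if x then d else 1) (if y then z else 1) := fun x y => by
        split_ifs <;> first | exact Commute.one_left _ | exact Commute.one_right _ | exact hdz
      have cdw : ∀ x y : Bool, Commute (if x then d else 1) (if y then w else 1) := fun x y => by
        split_ifs <;> first | exact Commute.one_left _ | exact Commute.one_right _ | exact hdw.symm
      rw [← sq z a a' h.zz, ← sq w b b' hww, ← sq d c c' hdd]
      calc _ = (if a then z else 1) * ((if b then w else 1) * ((if c then d else 1) * (if a' then z else 1))) *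
              (if b' then w else 1) * (if c' then d else 1) := by group
        _ = (if a then z else 1) * ((if b then w else 1) * (if a' then z else 1)) *
              ((if c then d else 1) * (if b' then w else 1)) * (if c' then d else 1) := by
            rw [(cdz c a').eq]; group
        _ = _ := by rw [(cwz b a').eq, (cdw c b').eq]; group
    have hinj : Function.Injective f := by
      rintro ⟨a, b, c⟩ ⟨a', b', c'⟩ e
      have e' := congrArg Subtype.val e
      simp only [f] at e'
      have h1 := hmul a b c a' b' c'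
      rw [e', hmul] at h1
      simp only [Bool.xor_self, Bool.false_eq_true, if_false, one_mul] at h1
      obtain ⟨i, j, l⟩ := hsmall _ _ _ h1.symm
      revert i j l
      cases a <;> cases b <;> cases c <;> cases a' <;> cases b' <;> cases c' <;> simp
    have hsur := (Nat.bijective_iff_injective_and_card f).2 ⟨hinj, by rw [h.card]; simp⟩
    have h7 : 7 ≤ Nat.card {d : H // d ∈ C ∧ orderOf d = 2} := by
      have hmem : ∀ p : {p : Bool × Bool × Bool // p ≠ (false, false, false)},
          (f p.1).1 ∈ C ∧ orderOf (f p.1).1 = 2 := by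
        rintro ⟨⟨a, b, c⟩, hp⟩
        refine ⟨(f (a, b, c)).2, invol_iff.2 ⟨?_, fun e => hp ?_⟩⟩
        · show ((if a then z else 1) * (if b then w else 1) * (if c then d else 1) : H) *
            ((if a then z else 1) * (if b then w else 1) * (if c then d else 1)) = 1
          rw [hmul]; simp
        · obtain ⟨i, j, l⟩ := hsmall a b c e
          rw [i, j, l]
      refine le_trans (le_of_eq ?_) (Nat.card_le_card_of_injective (fun p => ⟨(f p.1).1, hmem p⟩)
        fun p q e => Subtype.ext (hinj (Subtype.ext (congrArg Subtype.val e :))))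
      rw [Nat.card_eq_fintype_card]; rfl
    rw [hC, h.five] at h7
    norm_num at h7
  have h3 : Nat.card {d : H // (d ∈ C ∧ orderOf d = 2) ∧ w * d = d * w} = 3 := by
    have e : ({z, w, z * w} : Set H).ncard = 3 := by
      have n3 : z * w ≠ w := fun e => invol_ne_one h.ord (mul_eq_right.1 e)
      rw [Set.ncard_insert_of_notMem, Set.ncard_pair n3.symm]
      simp only [Set.mem_insert_iff, Set.mem_singleton_iff, not_or]
      exact ⟨hwz.symm, fun e => invol_ne_one hwo (mul_eq_left.1 e.symm)⟩
    rw [← e, ← Nat.card_coe_set_eq]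
    refine Nat.card_congr (Equiv.subtypeEquivRight fun d => ?_)
    simp only [Set.mem_insert_iff, Set.mem_singleton_iff]
    constructor
    · rintro ⟨⟨hd, hdo⟩, hdw⟩
      exact hsq d hd hdo hdw
    · rintro (rfl | rfl | rfl)
      · exact ⟨⟨mem_centralizer_singleton_iff.2 rfl, h.ord⟩, hwc⟩
      · exact ⟨⟨hw, hwo⟩, rfl⟩
      · exact ⟨⟨mul_mem (mem_centralizer_singleton_iff.2 rfl) hw, hzw⟩, by rw [← mul_assoc, hwc]⟩
  have hs := card_partition (fun d => d ∈ C ∧ orderOf d = 2) fun d => w * d = d * w
  rw [h3, show Nat.card {d : H // d ∈ C ∧ orderOf d = 2} = 5 from h.five] at hs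
  refine Eq.trans (Nat.card_congr ?_) (show Nat.card {d : H // (d ∈ C ∧ orderOf d = 2) ∧ ¬ w * d = d * w} = 2 by omega)
  refine Equiv.subtypeEquivRight fun d => ⟨?_, ?_⟩
  · rintro ⟨hdo, hn, hm⟩
    have hdz : d * z = z * d := by
      obtain ⟨k, hk⟩ := mem_zpowers_iff.1 hm
      have hi : d * (w * d) * d⁻¹ = (w * d)⁻¹ := invol_conj_mul' hwo hdo
      have := conj_zpow_of_inverts hi k
      rw [zpow_neg, hk, invol_inv h.ord] at this
      exact mul_inv_eq_iff_eq_mul.1 this
    exact ⟨⟨mem_centralizer_singleton_iff.2 hdz, hdo⟩, hn⟩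
  · rintro ⟨⟨hd, hdo⟩, hn⟩
    refine ⟨hdo, hn, ?_⟩
    set x := w * d with hx
    have hxC : x ∈ C := mul_mem hw hd
    have hdvd := orderOf_dvd_natCard _ hxC
    rw [h.card] at hdvd
    obtain ⟨j, hj3, hj⟩ := (Nat.dvd_prime_pow Nat.prime_two (m := 3)).1 hdvd
    have hx2 : x * x ≠ 1 := fun e => hn (by
      calc w * d = x⁻¹ := (inv_eq_of_mul_eq_one_right e).symm
        _ = d * w := by rw [hx, _root_.mul_inv_rev, invol_inv hwo, invol_inv hdo])
    have heven : 2 ∣ orderOf x := by
      rcases j with _ | j
      · rw [pow_zero, orderOf_eq_one_iff] at hj; exact absurd (by rw [hj, mul_one]) hx2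
      · rw [hj]; exact dvd_pow_self 2 (Nat.succ_ne_zero j)
    obtain ⟨c, hc⟩ := exists_prime_orderOf_dvd_card' (G := zpowers x) (hp := ⟨Nat.prime_two⟩) 2
      (by rw [Nat.card_zpowers]; exact heven)
    rw [← Subgroup.orderOf_coe] at hc
    obtain ⟨k, hk⟩ := mem_zpowers_iff.1 c.2
    have hinv : w * x * w⁻¹ = x⁻¹ := invol_conj_mul hwo hdo
    have hcw : w * (c : H) = c * w := by
      have e := conj_zpow_of_inverts hinv k
      rw [zpow_neg, hk, invol_inv hc] at e
      exact mul_inv_eq_iff_eq_mul.1 e
    set cH : H := (c : H) with hcH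
    have hcd : cH * d = d * cH := by
      have e1 : Commute cH x := hk ▸ (Commute.refl x).zpow_left k
      have e2 : Commute cH (w * x) := Commute.mul_right hcw.symm e1
      rwa [show w * x = d by rw [hx, ← mul_assoc, hww, one_mul]] at e2
    rcases hsq cH (zpowers_le.2 hxC c.2) hc hcw with e | e | e
    · rw [← e]; exact c.2
    · exact absurd (show w * d = d * w by rw [e] at hcd; exact hcd) hn
    · refine absurd ?_ hn
      rw [e] at hcd
      calc w * d = z * (z * w * d) := by rw [← mul_assoc, ← mul_assoc, h.zz, one_mul]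
        _ = z * d * z * w := by rw [hcd]; group
        _ = d * w := by rw [← mem_centralizer_singleton_iff.1 hd, mul_assoc d z z, h.zz, mul_one]

theorem card_group : Nat.card H = 8 * Nat.card {t : H // orderOf t = 2} := by
  haveI : Fintype H := Fintype.ofFinite H
  have e : Nat.card {t : H // orderOf t = 2} = Nat.card {t : H // IsConj z t} :=
    Nat.card_congr (Equiv.subtypeEquivRight fun t => ⟨h.one t, fun hc => by
      obtain ⟨g, rfl⟩ := isConj_iff.1 hc
      exact invol_conj h.ord g⟩)
  rw [e, ← h.card, Nat.card_congr (Equiv.subtypeEquivRight (q := fun t => ∃ g, g * z * g⁻¹ = t)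
    fun t => isConj_iff),
    ← (centralizer ({z} : Set H)).card_mul_index]
  congr 1
  rw [index_eq_card]
  refine Nat.card_congr (Equiv.ofBijective (Quotient.lift (fun g : H => (⟨g * z * g⁻¹, g, rfl⟩ :
    {t : H // ∃ g, g * z * g⁻¹ = t})) fun a b hab => Subtype.ext ?_) ⟨?_, ?_⟩)
  · have h' := mem_centralizer_singleton_iff.1 (QuotientGroup.leftRel_apply.1 hab)
    calc a * z * a⁻¹ = a * (z * (a⁻¹ * b)) * b⁻¹ := by group
      _ = a * (a⁻¹ * b * z) * b⁻¹ := by rw [h']
      _ = b * z * b⁻¹ := by group
  · intro p q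
    induction p using Quotient.inductionOn with
    | h a =>
      induction q using Quotient.inductionOn with
      | h b =>
        intro he
        have he' : a * z * a⁻¹ = b * z * b⁻¹ := congrArg Subtype.val he
        refine Quotient.sound (QuotientGroup.leftRel_apply.2 (mem_centralizer_singleton_iff.2 ?_))
        calc a⁻¹ * b * z = a⁻¹ * (b * z * b⁻¹) * b := by group
          _ = a⁻¹ * (a * z * a⁻¹) * b := by rw [he']
          _ = z * (a⁻¹ * b) := by group
  · rintro ⟨t, g, rfl⟩
    exact ⟨Quotient.mk _ g, rfl⟩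

theorem card_invol : Nat.card {t : H // orderOf t = 2} = 13 + Nat.card {x : H // IsOddInv z x} := by
  classical
  haveI : Fintype H := Fintype.ofFinite H
  set C := centralizer ({z} : Set H) with hC
  rw [card_partition _ fun t => t ∈ C,
    card_partition (fun t => orderOf t = 2 ∧ ¬ t ∈ C) fun t => Even (orderOf (z * t))]
  have hCc : Nat.card {t : H // orderOf t = 2 ∧ t ∈ C} = 5 := by
    rw [← h.five]
    exact Nat.card_congr (Equiv.subtypeEquivRight fun t => ⟨And.symm, And.symm⟩)
  let L := {c : H // c ∈ C ∧ orderOf c = 2 ∧ c ≠ z}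
  have hE : Nat.card {t : H // (orderOf t = 2 ∧ ¬ t ∈ C) ∧ Even (orderOf (z * t))} = 8 := by
    let S := Σ c : L, {t : H // orderOf t = 2 ∧ ¬ t ∈ C ∧ c.1 ∈ zpowers (z * t)}
    have hhalf : ∀ {x c : H}, c ∈ zpowers x → orderOf c = 2 → Even (orderOf x) := fun {x c} hc hco =>
      even_iff_two_dvd.2 (hco ▸ orderOf_dvd_of_mem_zpowers hc)
    have huniq : ∀ {x c c' : H}, c ∈ zpowers x → orderOf c = 2 → c' ∈ zpowers x → orderOf c' = 2 → c = c' :=
      fun hc hco hc' hco' => invol_zpowers_unique hco hco' hc hc'
    have e : Nat.card {t : H // (orderOf t = 2 ∧ ¬ t ∈ C) ∧ Even (orderOf (z * t))} = Nat.card S := by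
      refine (Nat.card_eq_of_bijective
        (fun s : S => (⟨s.2.1, ⟨s.2.2.1, s.2.2.2.1⟩, hhalf s.2.2.2.2 s.1.2.2.1⟩ :
          {t : H // (orderOf t = 2 ∧ ¬ t ∈ C) ∧ Even (orderOf (z * t))})) ⟨?_, ?_⟩).symm
      · rintro ⟨c, t, ht, htz, hj⟩ ⟨c', t', ht', htz', hj'⟩ he
        obtain rfl : t = t' := congrArg Subtype.val he
        obtain rfl : c = c' := Subtype.ext (huniq hj c.2.2.1 hj' c'.2.2.1)
        rfl
      · rintro ⟨t, ⟨ht, htC⟩, he⟩
        obtain ⟨c, hc⟩ := exists_prime_orderOf_dvd_card' (G := zpowers (z * t)) (hp := ⟨Nat.prime_two⟩) 2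
          (by rw [Nat.card_zpowers]; exact even_iff_two_dvd.1 he)
        rw [← Subgroup.orderOf_coe] at hc
        obtain ⟨k, hk⟩ := mem_zpowers_iff.1 c.2
        have hcz : (c : H) * z = z * c := by
          have e := conj_zpow_of_inverts (invol_conj_mul h.ord ht) k
          rw [zpow_neg, hk, invol_inv hc] at e
          exact (mul_inv_eq_iff_eq_mul.1 e).symm
        have hct : (c : H) * t = t * c := by
          have e := conj_zpow_of_inverts (invol_conj_mul' h.ord ht) k
          rw [zpow_neg, hk, invol_inv hc] at e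
          exact (mul_inv_eq_iff_eq_mul.1 e).symm
        refine ⟨⟨⟨c, mem_centralizer_singleton_iff.2 hcz, hc, fun e => htC ?_⟩, ⟨t, ht, htC, c.2⟩⟩, rfl⟩
        rw [e] at hct
        exact mem_centralizer_singleton_iff.2 hct.symm
    have h4 : Nat.card L = 4 := by
      have hs := card_partition (fun c => c ∈ C ∧ orderOf c = 2) fun c => c = z
      rw [show Nat.card {c : H // c ∈ C ∧ orderOf c = 2} = 5 from h.five,
        show Nat.card {c : H // (c ∈ C ∧ orderOf c = 2) ∧ c = z} = 1 from
        Nat.card_eq_one_iff_unique.2 ⟨⟨fun a b => Subtype.ext (a.2.2.trans b.2.2.symm)⟩,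
          ⟨⟨z, ⟨mem_centralizer_singleton_iff.2 rfl, h.ord⟩, rfl⟩⟩⟩] at hs
      rw [show 4 = Nat.card {c : H // (c ∈ C ∧ orderOf c = 2) ∧ ¬ c = z} by omega]
      exact Nat.card_congr (Equiv.subtypeEquivRight fun c => ⟨fun a => ⟨⟨a.1, a.2.1⟩, a.2.2⟩,
        fun a => ⟨a.1.1, a.1.2, a.2⟩⟩)
    rw [e, Nat.card_sigma, Finset.sum_congr rfl fun c _ => show _ = 2 from ?_, Finset.sum_const, Finset.card_univ,
      ← Nat.card_eq_fintype_card, h4]
    · rfl
    · obtain ⟨g, hg⟩ := isConj_iff.1 (h.one _ c.2.2.1)
      have hw : g⁻¹ * z * g ∈ C := mem_centralizer_singleton_iff.2 (by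
        have e := mem_centralizer_singleton_iff.1 c.2.1
        rw [← hg] at e
        calc g⁻¹ * z * g * z = g⁻¹ * (z * (g * z * g⁻¹)) * g := by group
          _ = g⁻¹ * (g * z * g⁻¹ * z) * g := by rw [e]
          _ = z * (g⁻¹ * z * g) := by group)
      have hwo : orderOf (g⁻¹ * z * g) = 2 := by
        have := invol_conj h.ord g⁻¹; rwa [inv_inv] at this
      have hwz : g⁻¹ * z * g ≠ z := fun e => c.2.2.2 (by
        rw [← hg]
        calc g * z * g⁻¹ = g * (g⁻¹ * z * g) * g⁻¹ := by rw [e]
          _ = z := by group)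
      refine Eq.trans ?_ (h.partners hw hwo hwz)
      refine Nat.card_congr ((MulAut.conj g⁻¹).toEquiv.subtypeEquiv fun t => ?_)
      show _ ↔ orderOf (g⁻¹ * t * g⁻¹⁻¹) = 2 ∧ g⁻¹ * z * g * (g⁻¹ * t * g⁻¹⁻¹) ≠ g⁻¹ * t * g⁻¹⁻¹ * (g⁻¹ * z * g) ∧
        z ∈ zpowers (g⁻¹ * z * g * (g⁻¹ * t * g⁻¹⁻¹))
      have e1 : g⁻¹ * z * g * (g⁻¹ * t * g⁻¹⁻¹) = g⁻¹ * (z * t) * g⁻¹⁻¹ := by group
      have e2 : g⁻¹ * t * g⁻¹⁻¹ * (g⁻¹ * z * g) = g⁻¹ * (t * z) * g⁻¹⁻¹ := by group
      have e3 : z ∈ zpowers (g⁻¹ * (z * t) * g⁻¹⁻¹) ↔ c.1 ∈ zpowers (z * t) := by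
        rw [mem_zpowers_iff, mem_zpowers_iff]
        refine exists_congr fun k => ?_
        rw [conj_zpow, ← hg]
        constructor
        · intro e
          calc (z * t) ^ k = g * (g⁻¹ * (z * t) ^ k * g⁻¹⁻¹) * g⁻¹ := by group
            _ = g * z * g⁻¹ := by rw [e]
        · intro e
          rw [e]; group
      rw [e1, e2, e3, ← MulAut.conj_apply, MulEquiv.orderOf_eq, ne_eq, mul_left_inj,
        mul_right_inj]
      exact and_congr_right fun _ => and_congr_left fun _ => not_congr
        (mem_centralizer_singleton_iff.trans ⟨Eq.symm, Eq.symm⟩)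
  have hI : Nat.card {t : H // (orderOf t = 2 ∧ ¬ t ∈ C) ∧ ¬ Even (orderOf (z * t))} =
      Nat.card {x : H // IsOddInv z x} := by
    refine Nat.card_congr ((Equiv.mulLeft z).subtypeEquiv fun t => ?_)
    show _ ↔ IsOddInv z (z * t)
    have hzi : z⁻¹ = z := invol_inv h.ord
    constructor
    · rintro ⟨⟨ht, htC⟩, ho⟩
      refine ⟨fun e => htC ?_, Nat.not_even_iff_odd.1 ho, ?_⟩
      · rw [show t = z by rw [← inv_eq_of_mul_eq_one_right e, hzi]]
        exact mem_centralizer_singleton_iff.2 rfl
      · rw [_root_.mul_inv_rev, hzi, invol_inv ht, ← mul_assoc z z t, h.zz, one_mul]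
    · rintro ⟨h1, ho, hi⟩
      rw [_root_.mul_inv_rev, hzi, ← mul_assoc z z t, h.zz, one_mul] at hi
      have ht : t⁻¹ = t := (mul_right_cancel hi).symm
      have htt : t * t = 1 := by nth_rw 1 [← ht]; exact inv_mul_cancel t
      refine ⟨⟨invol_iff.2 ⟨htt, ?_⟩, fun e => h1 ?_⟩, Nat.not_even_iff_odd.2 ho⟩
      · rintro rfl
        rw [mul_one, h.ord] at ho
        exact absurd ho (by decide)
      · refine eq_one_of_odd_of_mul_self ho ?_
        rw [mul_assoc, ← mul_assoc t, mem_centralizer_singleton_iff.1 e, mul_assoc z t t, htt, mul_one, h.zz]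
  rw [hCc, hE, hI]
  omega

theorem exists_inverted : ∃ x, IsOddInv z x := by
  by_contra hno
  push Not at hno
  haveI : Fact (Nat.Prime 2) := ⟨Nat.prime_two⟩
  haveI : IsEmpty {x : H // IsOddInv z x} := ⟨fun x => hno x.1 x.2⟩
  have h13 := h.card_invol
  rw [Nat.card_of_isEmpty (α := {x : H // IsOddInv z x}), add_zero] at h13
  have hzO : z ∈ Cfsg.pCore 2 H := by
    by_contra hO
    obtain ⟨x, hx1, hxo, hxi⟩ := exists_odd_inverted_of_notMem_pCore h.ord hO
    rw [invol_inv h.ord] at hxi
    exact hno x ⟨hx1, hxo, hxi⟩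
  haveI := Coprime.pCore_characteristic (G := H) 2
  have hall : ∀ t, orderOf t = 2 → t ∈ Cfsg.pCore 2 H := fun t ht => by
    obtain ⟨g, rfl⟩ := isConj_iff.1 (h.one t ht)
    exact (inferInstance : (Cfsg.pCore 2 H).Normal).conj_mem z hzO g
  have hle : Nat.card {t : H // orderOf t = 2} ≤ Nat.card (Cfsg.pCore 2 H) :=
    Nat.card_le_card_of_injective (fun t => (⟨t.1, hall t.1 t.2⟩ : Cfsg.pCore 2 H))
      fun a b e => Subtype.ext (congrArg Subtype.val e :)
  obtain ⟨j, hj⟩ := (Coprime.pCore_isPGroup (G := H) 2).exists_card_eq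
  have hd := card_subgroup_dvd_card (Cfsg.pCore 2 H)
  rw [h.card_group, h13, hj] at hd
  have hj3 : j ≤ 3 := by
    by_contra hh
    exact absurd ((pow_dvd_pow 2 (show 4 ≤ j by omega)).trans hd) (by norm_num)
  rw [h13, hj] at hle
  have := Nat.pow_le_pow_right (show 0 < 2 by norm_num) hj3
  omega

/-- The two possibilities. -/
theorem cases : (Nat.card H = 168 ∧ Nat.card {x : H // IsOddInv z x} = 8 ∧
      ∀ x, IsOddInv z x → x ^ 3 = 1 ∧ Nat.card (centralizer ({x} : Set H)) = 3) ∨
    (Nat.card H = 360 ∧ Nat.card {x : H // IsOddInv z x} = 32 ∧ Nat.card {x : H // IsOddInv z x ∧ x ^ 5 = 1} = 16 ∧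
      ∀ x, IsOddInv z x → (x ^ 5 = 1 ∧ Nat.card (centralizer ({x} : Set H)) = 5 ∧
        Nat.card (stab z (centralizer ({x} : Set H))) = 2) ∨
        (x ^ 3 = 1 ∧ Nat.card (centralizer ({x} : Set H)) = 9)) := by
  classical
  obtain ⟨r, a, k, m, hfam, hco, hcon, hsum⟩ := h.free_sys.families h.zz (invol_ne_one h.ord)
  have hn := h.card_invol
  have hG := h.card_group
  set n := Nat.card {t : H // orderOf t = 2}
  rw [hsum, h.card] at hn
  -- the data of a family
  have hdata : ∀ i, (k i = 2 ∨ k i = 4) ∧ Odd (a i) ∧ a i ∣ n := by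
    intro i
    obtain ⟨h1, h2, h3, h4, hd, x, hx, hxa, hxk⟩ := hfam i
    rw [h.card] at h3
    have hodd : Odd (a i) := hxa ▸ h.free_sys.odd x hx
    refine ⟨?_, hodd, ?_⟩
    · obtain ⟨j, hj, hjk⟩ := (Nat.dvd_prime_pow Nat.prime_two (m := 3)).1 h3
      have hN8 : k i ≠ 8 := by
        intro h8
        rw [← hxk] at h8
        have hle : stab z (centralizer ({x} : Set H)) = centralizer ({z} : Set H) :=
          eq_of_le_of_card_ge inf_le_left (by rw [h8, h.card])
        obtain ⟨w, hw, hwz⟩ : ∃ w : H, (w ∈ centralizer ({z} : Set H) ∧ orderOf w = 2) ∧ w ≠ z := by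
          by_contra hall
          push Not at hall
          have h1 : Nat.card {d : H // d ∈ centralizer ({z} : Set H) ∧ orderOf d = 2} ≤ 1 :=
            Finite.card_le_one_iff_subsingleton.2 ⟨fun a b => Subtype.ext ((hall a.1 a.2).trans (hall b.1 b.2).symm)⟩
          rw [h.five] at h1
          norm_num at h1
        obtain ⟨hoddA, hinvA, -⟩ := h.free_sys.cent_props h.zz hx
        have hwN : w ∈ stab z (centralizer ({x} : Set H)) := hle.ge hw.1
        have hwi : w⁻¹ = w := invol_inv hw.2
        have hww := invol_mul_self hw.2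
        obtain ⟨hwinv, -⟩ := fixfree_inverts hww (centralizer ({x} : Set H)) hoddA (fun a ha => by
            have := (mem_normalizer_iff.1 hwN.2 a).1 ha
            rwa [hwi] at this) (fun a ha hc => h.odd_commute hw.2 (hoddA a ha) hc.symm)
        have hxA : x ∈ centralizer ({x} : Set H) := mem_centralizer_singleton_iff.2 rfl
        have e1 := hwinv x hxA
        have e2 := h.free_sys.inv x hx
        have hc : z * w * x = x * (z * w) := by
          calc z * w * x = z * (w * x * w) * w := by simp only [mul_assoc]; rw [hww, mul_one]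
            _ = z * x⁻¹ * (z * z) * w := by rw [e1, h.zz, mul_one]
            _ = (z * x * z)⁻¹ * (z * w) := by
                rw [_root_.mul_inv_rev, _root_.mul_inv_rev, inv_eq_of_mul_eq_one_right h.zz]; group
            _ = x * (z * w) := by rw [e2, inv_inv]
        have := h.free_sys.fixfree x (z * w) hx (mul_mem (mem_centralizer_singleton_iff.2 rfl) hw.1) hc
        exact hwz (by rw [eq_inv_of_mul_eq_one_right this, invol_inv h.ord])
      rw [hjk] at h2 hN8 ⊢
      interval_cases j <;> simp_all
    · rw [hG] at hd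
      exact (Nat.Coprime.dvd_of_dvd_mul_left (Nat.Coprime.pow_right 3 (Nat.coprime_two_right.2 hodd)) hd)
  have hm : ∀ i, 2 * m i + 1 ≤ a i ∧ 3 ≤ a i := fun i => by
    obtain ⟨h1, -, -, h4, -⟩ := hfam i
    rcases (hdata i).1 with e | e <;> rw [h1, e] <;> omega
  have hne : ∀ i j, i ≠ j → a i ≠ a j := fun i j hij e => by
    have := hco i j hij
    rw [e, Nat.coprime_self] at this
    have := (hm j).2
    omega
  have hprod : ∏ i, a i ∣ n := by
    have : ∀ s : Finset (Fin r), ∏ i ∈ s, a i ∣ n := fun s => by
      induction s using Finset.induction_on with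
      | empty => simp
      | insert i s hi ih =>
        rw [Finset.prod_insert hi]
        exact (Nat.Coprime.prod_right fun j hj => hco i j fun e => hi (e ▸ hj)).mul_dvd_of_dvd_of_dvd
          (hdata i).2.2 ih
    exact this Finset.univ
  have hr : r ≤ 2 := by
    by_contra hr
    have hb := no_big_product a (fun i => ⟨(hm i).2, (hdata i).2.1⟩) hne (by omega)
    have hle : 8 * ∑ i, m i ≤ 4 * ∑ i, (a i - 1) := by
      rw [Finset.mul_sum, Finset.mul_sum]
      exact Finset.sum_le_sum fun i _ => by have := (hm i).1; omega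
    have := Nat.le_of_dvd (by omega) hprod
    omega
  -- bounds
  have hbound : ∀ i, a i ∣ k i * (13 + 8 * (∑ j, m j - m i)) - 8 := by
    intro i
    obtain ⟨h1, -⟩ := hfam i
    have hs : m i ≤ ∑ j, m j := Finset.single_le_sum (fun j _ => Nat.zero_le (m j)) (Finset.mem_univ i)
    obtain ⟨d, hd⟩ := hs.dest
    rw [← hd, Nat.add_sub_cancel_left]
    have e : k i * n + 8 = k i * (13 + 8 * d) + 8 * a i := by rw [hn, ← hd, h1]; ring
    have e' : k i * (13 + 8 * d) - 8 + 8 * a i = k i * n := by
      have : 8 ≤ k i * (13 + 8 * d) := by rcases (hdata i).1 with e2 | e2 <;> rw [e2] <;> omega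
      omega
    have hdd : a i ∣ k i * n := dvd_mul_of_dvd_right (hdata i).2.2 _
    rw [← e'] at hdd
    exact (Nat.dvd_add_left (dvd_mul_left (a i) 8)).1 hdd
  have hkmem : ∀ i, k i ∈ [2, 4] := fun i => by rcases (hdata i).1 with e | e <;> simp [e]
  obtain ⟨x₀, hx₀⟩ := h.exists_inverted
  have htot : 0 < Nat.card {x : H // IsOddInv z x} := by
    haveI : Nonempty {x : H // IsOddInv z x} := ⟨⟨x₀, hx₀⟩⟩
    exact Nat.card_pos
  rw [hsum, h.card] at htot
  have cov : ∀ x, IsOddInv z x → ∃ i, Nat.card (centralizer ({x} : Set H)) = a i ∧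
      Nat.card (stab z (centralizer ({x} : Set H))) = k i := by
    intro x hx
    obtain ⟨mx, h1, -, -, -, -⟩ := h.free_sys.family_count h.zz (invol_ne_one h.ord) hx
    by_contra hno
    push Not at hno
    -- the centralizer is a family
    have key : ∀ i, ∀ y, IsOddInv z y → Nat.card (centralizer ({y} : Set H)) = a i →
        ¬ SameFam z x y := by
      rintro i y hy hya ⟨c, hc, hce⟩
      have hcard : Nat.card (centralizer ({x} : Set H)) = Nat.card (centralizer ({y} : Set H)) :=
        Nat.card_congr ((MulAut.conj c).toEquiv.subtypeEquiv fun g => hce g)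
      have hst : Nat.card (stab z (centralizer ({x} : Set H))) = Nat.card (stab z (centralizer ({y} : Set H))) := by
        refine Nat.card_congr ((MulAut.conj c).toEquiv.subtypeEquiv fun g => ?_)
        show (g ∈ centralizer ({z} : Set H) ∧ g ∈ normalizer _) ↔
          (c * g * c⁻¹ ∈ centralizer ({z} : Set H) ∧ c * g * c⁻¹ ∈ normalizer _)
        rw [Subgroup.mul_mem_cancel_right _ (inv_mem hc), Subgroup.mul_mem_cancel_left _ hc]
        refine and_congr_right fun _ => ?_
        simp only [mem_normalizer_iff]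
        constructor
        · intro hg v
          have hv := hg (c⁻¹ * v * c)
          rw [hce, hce, show c * (c⁻¹ * v * c) * c⁻¹ = v by group,
            show c * (g * (c⁻¹ * v * c) * g⁻¹) * c⁻¹ = c * g * c⁻¹ * v * (c * g * c⁻¹)⁻¹ by group] at hv
          exact hv
        · intro hg v
          rw [hce, hce, hg (c * v * c⁻¹)]
          rw [show c * g * c⁻¹ * (c * v * c⁻¹) * (c * g * c⁻¹)⁻¹ = c * (g * v * g⁻¹) * c⁻¹ by group]
      obtain ⟨y', hy', hy'a, hy'k⟩ := (hfam i).2.2.2.2.2
      have hsame : SameFam z y y' := by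
        by_contra hn'
        have := h.free_sys.family_coprime h.zz hy hy'
        by_cases hcop : Nat.Coprime (Nat.card (centralizer ({y} : Set H))) (Nat.card (centralizer ({y'} : Set H)))
        · rw [hya, hy'a, Nat.coprime_self] at hcop
          have := (hm i).2
          omega
        · exact hn' (this hcop)
      obtain ⟨c', hc', hce'⟩ := hsame
      refine hno i (hcard.trans hya) ?_
      rw [hst, ← hy'k]
      refine Nat.card_congr ((MulAut.conj c').toEquiv.subtypeEquiv fun g => ?_)
      show (g ∈ centralizer ({z} : Set H) ∧ g ∈ normalizer _) ↔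
        (c' * g * c'⁻¹ ∈ centralizer ({z} : Set H) ∧ c' * g * c'⁻¹ ∈ normalizer _)
      rw [Subgroup.mul_mem_cancel_right _ (inv_mem hc'), Subgroup.mul_mem_cancel_left _ hc']
      refine and_congr_right fun _ => ?_
      simp only [mem_normalizer_iff]
      constructor
      · intro hg v
        have hv := hg (c'⁻¹ * v * c')
        rw [hce', hce', show c' * (c'⁻¹ * v * c') * c'⁻¹ = v by group,
          show c' * (g * (c'⁻¹ * v * c') * g⁻¹) * c'⁻¹ = c' * g * c'⁻¹ * v * (c' * g * c'⁻¹)⁻¹ by group] at hv
        exact hv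
      · intro hg v
        rw [hce', hce', hg (c' * v * c'⁻¹)]
        rw [show c' * g * c'⁻¹ * (c' * v * c'⁻¹) * (c' * g * c'⁻¹)⁻¹ = c' * (g * v * g⁻¹) * c'⁻¹ by group]
    -- a coprime order would be one more family
    have hnot : ∀ i, Nat.Coprime (Nat.card (centralizer ({x} : Set H))) (a i) := fun i => by
      obtain ⟨y, hy, hya, -⟩ := (hfam i).2.2.2.2.2
      by_contra hc
      rw [← hya] at hc
      exact key i y hy hya (h.free_sys.family_coprime h.zz hx hy hc)
    -- the families exhaust the inverted elements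
    have hsub : Nat.card {y : H // IsOddInv z y} = Nat.card {y : H // IsOddInv z y ∧ ∃ i,
        Nat.card (centralizer ({y} : Set H)) = a i} := by
      refine le_antisymm ?_ (Nat.card_le_card_of_injective (fun y => ⟨y.1, y.2.1⟩)
        fun a b e => Subtype.ext (congrArg Subtype.val e :))
      rw [hsum, h.card, Finset.mul_sum]
      have hinj : ∀ i, 8 * m i = Nat.card {y : H // IsOddInv z y ∧
          Nat.card (centralizer ({y} : Set H)) = a i} := by
        intro i
        obtain ⟨y, hy, hya, hyk⟩ := (hfam i).2.2.2.2.2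
        obtain ⟨my, hy1, -, -, -, hy5⟩ := h.free_sys.family_count h.zz (invol_ne_one h.ord) hy
        have : m i = my := by
          have e1 := (hfam i).1
          rw [hya, hyk, e1] at hy1
          rcases (hdata i).1 with e | e <;> rw [e] at hy1 <;> omega
        rw [this, ← h.card, ← hy5]
        refine Nat.card_congr (Equiv.subtypeEquivRight fun w => ⟨?_, ?_⟩)
        · rintro ⟨hw, c, hc, hce⟩
          refine ⟨hw, ?_⟩
          rw [← hya]
          exact (Nat.card_congr ((MulAut.conj c).toEquiv.subtypeEquiv fun g => hce g)).symm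
        · rintro ⟨hw, hwa⟩
          refine ⟨hw, h.free_sys.family_coprime h.zz hy hw ?_⟩
          rw [hya, hwa, Nat.coprime_self]
          have := (hm i).2
          omega
      rw [Finset.sum_congr rfl fun i _ => hinj i, ← Nat.card_sigma]
      refine Nat.card_le_card_of_injective (fun p => ⟨p.2.1, p.2.2.1, p.1, p.2.2.2⟩) ?_
      rintro ⟨i, y, hy, hya⟩ ⟨j, y', hy', hya'⟩ e
      obtain rfl : y = y' := congrArg Subtype.val e
      obtain rfl : i = j := by_contra fun hij => hne i j hij (hya.symm.trans hya')
      rfl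
    have hsurj := (Nat.bijective_iff_injective_and_card
      (fun y : {y : H // IsOddInv z y ∧ ∃ i, Nat.card (centralizer ({y} : Set H)) = a i} =>
        (⟨y.1, y.2.1⟩ : {y : H // IsOddInv z y}))).2
      ⟨fun a b e => Subtype.ext (congrArg Subtype.val e :), hsub.symm⟩
    obtain ⟨⟨y, hy, i, hyi⟩, hye⟩ := hsurj.2 ⟨x, hx⟩
    obtain rfl : y = x := congrArg Subtype.val hye
    have := hnot i
    rw [hyi, Nat.coprime_self] at this
    have := (hm i).2
    omega
  have hpowA : ∀ x, x ^ Nat.card (centralizer ({x} : Set H)) = 1 := fun x =>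
    orderOf_dvd_iff_pow_eq_one.1 (orderOf_dvd_natCard _ (mem_centralizer_singleton_iff.2 rfl))
  rcases r with _ | _ | r
  · simp at htot
  · -- one family
    obtain ⟨h1, -, -, h4, -⟩ := hfam 0
    rw [Fin.sum_univ_one] at hn
    have hb := hbound 0
    rw [Fin.sum_univ_one, Nat.sub_self, mul_zero, add_zero] at hb
    have hlt : m 0 < 23 := by
      have hpos : 0 < k 0 * 13 - 8 := by rcases (hdata 0).1 with e | e <;> rw [e] <;> norm_num
      have hle' := Nat.le_of_dvd hpos hb
      rw [h1] at hle'
      rcases (hdata 0).1 with e | e <;> rw [e] at hle' <;> omega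
    rcases one_eight _ (hkmem 0) _ hlt h4 (by rw [← h1, ← hn]; exact Nat.mod_eq_zero_of_dvd (hdata 0).2.2) with
      ⟨e1, e2⟩ | ⟨e1, e2⟩
    · refine Or.inl ⟨by rw [hG, hn, e2], by rw [hsum, h.card, Fin.sum_univ_one, e2], fun x hx => ?_⟩
      obtain ⟨i, hi, -⟩ := cov x hx
      rw [Fin.fin_one_eq_zero i, h1, e1, e2] at hi
      exact ⟨by rw [← show Nat.card (centralizer ({x} : Set H)) = 3 from hi]; exact hpowA x, hi⟩
    · exfalso
      obtain ⟨q, hq, hq1⟩ := hcon 0 3 Nat.prime_three (by rw [h1, e1, e2]; norm_num)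
      rw [hG, hn, h1, e1, e2] at hq
      omega
  · obtain rfl : r = 0 := by omega
    have h21 : ∀ i j : Fin 2, a i < a j → (Nat.card H = 360 ∧ Nat.card {x : H // IsOddInv z x} = 32 ∧
        Nat.card {x : H // IsOddInv z x ∧ x ^ 5 = 1} = 16 ∧
        ∀ x, IsOddInv z x → (x ^ 5 = 1 ∧ Nat.card (centralizer ({x} : Set H)) = 5 ∧
          Nat.card (stab z (centralizer ({x} : Set H))) = 2) ∨
          (x ^ 3 = 1 ∧ Nat.card (centralizer ({x} : Set H)) = 9)) := by
      intro i j hij
      have hij' : i ≠ j := fun e => by rw [e] at hij; omega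
      have hu : (Finset.univ : Finset (Fin 2)) = {i, j} := by
        refine (Finset.eq_univ_of_card _ ?_).symm
        rw [Finset.card_pair hij', Fintype.card_fin]
      obtain ⟨h1, -, -, h4, -⟩ := hfam i
      obtain ⟨g1, -, -, g4, -⟩ := hfam j
      rw [hu, Finset.prod_pair hij'] at hprod
      rw [hu, Finset.sum_pair hij'] at hn
      have hle := Nat.le_of_dvd (by omega) hprod
      have hai : a i ≤ 8 := by
        by_contra hh
        have : 9 * a j ≤ a i * a j := Nat.mul_le_mul_right _ (by omega)
        have := (hm i).1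
        have := (hm j).1
        omega
      have hmi : m i < 4 := by have := (hm i).1; omega
      have hbj := hbound j
      rw [hu, Finset.sum_pair hij', Nat.add_sub_cancel] at hbj
      have hpos : 0 < k j * (13 + 8 * m i) - 8 := by rcases (hdata j).1 with e | e <;> rw [e] <;> omega
      have hle' := Nat.le_of_dvd hpos hbj
      have hmj : m j < 71 := by
        rcases (hdata j).1 with e | e <;> rw [g1, e] at hle' <;> omega
      rcases two_eight _ (hkmem i) _ hmi _ (hkmem j) _ hmj (h1 ▸ g1 ▸ hij) (h1 ▸ hai) h4 (h1 ▸ g1 ▸ hco i j hij')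
        (by rw [← h1, ← g1, ← hn]; exact Nat.mod_eq_zero_of_dvd hprod) with
        ⟨a1, a2, b1, b2⟩ | ⟨a1, a2, b1, b2⟩ | ⟨a1, a2, b1, b2⟩
      · have hai5 : a i = 5 := by rw [h1, a1, a2]
        have haj9 : a j = 9 := by rw [g1, b1, b2]
        have hx5 : ∀ x, IsOddInv z x → (x ^ 5 = 1 ∧ Nat.card (centralizer ({x} : Set H)) = 5 ∧
            Nat.card (stab z (centralizer ({x} : Set H))) = 2) ∨
            (x ^ 3 = 1 ∧ Nat.card (centralizer ({x} : Set H)) = 9 ∧ x ^ 5 ≠ 1) := by
          intro x hx
          obtain ⟨l, hl, hlk⟩ := cov x hx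
          have hl' : l = i ∨ l = j := by
            have := Finset.mem_univ l
            rw [hu] at this
            simpa using this
          rcases hl' with rfl | rfl
          · rw [hai5] at hl; rw [a1] at hlk
            exact Or.inl ⟨hl ▸ hpowA x, hl, hlk⟩
          · rw [haj9] at hl; rw [b1] at hlk
            have h9 : x ^ 9 = 1 := hl ▸ hpowA x
            have h5 : x ^ 5 ≠ 1 := fun e => hx.1 (orderOf_eq_one_iff.1 (Nat.eq_one_of_dvd_coprimes
              (by norm_num : Nat.Coprime 5 9) (orderOf_dvd_of_pow_eq_one e) (orderOf_dvd_of_pow_eq_one h9)))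
            refine Or.inr ⟨?_, hl, h5⟩
            -- a group of order nine admitting an automorphism of order four squaring to inversion
            by_contra h3
            set A := centralizer ({x} : Set H) with hA
            set N := stab z A with hN
            have hox : orderOf x = 9 := by
              have := (Nat.dvd_prime_pow Nat.prime_three (m := 2)).1 (orderOf_dvd_of_pow_eq_one h9)
              obtain ⟨e, he, hex⟩ := this
              interval_cases e
              · exact absurd (orderOf_eq_one_iff.1 (hex.trans (pow_zero 3))) hx.1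
              · exact absurd (by rw [← hex.trans (pow_one 3), pow_orderOf_eq_one]) h3
              · exact hex
            have hAx : A = zpowers x := (eq_of_le_of_card_ge (zpowers_le.2
              (mem_centralizer_singleton_iff.2 rfl)) (by rw [Nat.card_zpowers, hox, hl])).symm
            obtain ⟨s, hs⟩ : ∃ s : N, orderOf s = 4 := by
              by_contra hno
              push Not at hno
              have hinj : ∀ s : N, s.1 = 1 ∨ s.1 = z := by
                intro s
                have hd := orderOf_dvd_natCard _ s.2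
                rw [show Nat.card N = 4 from hlk] at hd
                obtain ⟨e, he, hes⟩ := (Nat.dvd_prime_pow Nat.prime_two (m := 2)).1 hd
                interval_cases e
                · exact Or.inl (orderOf_eq_one_iff.1 (hes.trans (pow_zero 2)))
                · by_contra hne
                  push Not at hne
                  have hso : orderOf s.1 = 2 := hes.trans (pow_one 2)
                  obtain ⟨hoddA, -, -⟩ := h.free_sys.cent_props h.zz hx
                  have hwi : (s.1)⁻¹ = s.1 := invol_inv hso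
                  obtain ⟨hwinv, -⟩ := fixfree_inverts (invol_mul_self hso) A hoddA (fun a ha => by
                      have := (mem_normalizer_iff.1 s.2.2 a).1 ha
                      rwa [hwi] at this) (fun a ha hc => h.odd_commute hso (hoddA a ha) hc.symm)
                  have hc : z * s.1 * x = x * (z * s.1) := by
                    calc z * s.1 * x = z * (s.1 * x * s.1) * s.1 := by
                          simp only [mul_assoc]; rw [invol_mul_self hso, mul_one]
                      _ = z * x⁻¹ * (z * z) * s.1 := by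
                          rw [hwinv x (mem_centralizer_singleton_iff.2 rfl), h.zz, mul_one]
                      _ = (z * x * z)⁻¹ * (z * s.1) := by
                          rw [_root_.mul_inv_rev, _root_.mul_inv_rev, inv_eq_of_mul_eq_one_right h.zz]; group
                      _ = x * (z * s.1) := by rw [hx.2.2, inv_inv]
                  have := h.free_sys.fixfree x (z * s.1) hx (mul_mem (mem_centralizer_singleton_iff.2 rfl) s.2.1) hc
                  exact hne.2 (by rw [eq_inv_of_mul_eq_one_right this, invol_inv h.ord])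
                · exact absurd (by rw [← Subgroup.orderOf_coe]; exact hes) (hno s)
              have : Nat.card N ≤ 2 := by
                refine (Nat.card_le_card_of_injective (fun s : N => decide (s.1 = 1)) fun s t e => ?_).trans
                  (by simp)
                have e' := decide_eq_decide.1 e
                refine Subtype.ext ?_
                rcases hinj s with p | p <;> rcases hinj t with q | q
                · rw [p, q]
                · exact absurd (q.symm.trans (e'.1 p)) (invol_ne_one h.ord)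
                · exact absurd (p.symm.trans (e'.2 q)) (invol_ne_one h.ord)
                · rw [p, q]
              rw [show Nat.card N = 4 from hlk] at this
              norm_num at this
            rw [← Subgroup.orderOf_coe] at hs
            have hconj : (s : H) * x * (s : H)⁻¹ ∈ zpowers x :=
              hAx.le ((mem_normalizer_iff.1 s.2.2 x).1 (mem_centralizer_singleton_iff.2 rfl))
            obtain ⟨e, he⟩ := (isOfFinOrder_of_finite x).mem_powers_iff_mem_zpowers.2 hconj
            dsimp only at he
            have hs2 : (s : H) * s = z := by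
              have ho : orderOf ((s : H) * s) = 2 := by
                rw [← pow_two, orderOf_pow, hs]; rfl
              by_contra hne2
              have hm2 : (s : H) * s ∈ N := mul_mem s.2 s.2
              obtain ⟨hoddA, -, -⟩ := h.free_sys.cent_props h.zz hx
              have hwi := invol_inv ho
              obtain ⟨hwinv, -⟩ := fixfree_inverts (invol_mul_self ho) A hoddA (fun a ha => by
                  have := (mem_normalizer_iff.1 hm2.2 a).1 ha
                  rwa [hwi] at this) (fun a ha hc => h.odd_commute ho (hoddA a ha) hc.symm)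
              set v := (s : H) * s
              have hc : z * v * x = x * (z * v) := by
                calc z * v * x = z * (v * x * v) * v := by simp only [mul_assoc]; rw [invol_mul_self ho, mul_one]
                  _ = z * x⁻¹ * (z * z) * v := by
                      rw [hwinv x (mem_centralizer_singleton_iff.2 rfl), h.zz, mul_one]
                  _ = (z * x * z)⁻¹ * (z * v) := by
                      rw [_root_.mul_inv_rev, _root_.mul_inv_rev, inv_eq_of_mul_eq_one_right h.zz]; group
                  _ = x * (z * v) := by rw [hx.2.2, inv_inv]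
              have := h.free_sys.fixfree x (z * v) hx (mul_mem (mem_centralizer_singleton_iff.2 rfl) hm2.1) hc
              exact hne2 (by rw [eq_inv_of_mul_eq_one_right this, invol_inv h.ord])
            have e2 : x ^ (e * e) = x⁻¹ := by
              calc x ^ (e * e) = ((s : H) * x * (s : H)⁻¹) ^ e := by rw [pow_mul, he]
                _ = (s : H) * ((s : H) * x * (s : H)⁻¹) * (s : H)⁻¹ := by rw [conj_pow, he]
                _ = (s : H) * s * x * ((s : H) * s)⁻¹ := by group
                _ = x⁻¹ := by rw [hs2, inv_eq_of_mul_eq_one_right h.zz]; exact hx.2.2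
            have e3 : 9 ∣ e * e + 1 := hox ▸ orderOf_dvd_of_pow_eq_one (by rw [pow_succ, e2, inv_mul_cancel])
            refine nine_root (e % 9) (Nat.mod_lt _ (by norm_num)) ?_
            rw [Nat.add_mod, Nat.mul_mod, Nat.mod_mod, ← Nat.mul_mod, ← Nat.add_mod]
            exact Nat.mod_eq_zero_of_dvd e3
        refine ⟨by rw [hG, hn, a2, b2]; norm_num, by rw [hsum, h.card, hu, Finset.sum_pair hij', a2, b2]; norm_num, ?_,
          fun x hx => (hx5 x hx).imp id fun e => ⟨e.1, e.2.1⟩⟩
        obtain ⟨y, hy, hya, hyk⟩ := (hfam i).2.2.2.2.2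
        obtain ⟨my, hy1, -, -, -, hy5⟩ := h.free_sys.family_count h.zz (invol_ne_one h.ord) hy
        rw [hya, hyk, hai5, a1] at hy1
        rw [show (16 : ℕ) = Nat.card (centralizer ({z} : Set H)) * my by rw [h.card]; omega, ← hy5]
        refine Nat.card_congr (Equiv.subtypeEquivRight fun w => ⟨?_, ?_⟩)
        · rintro ⟨hw, hw5⟩
          refine ⟨hw, h.free_sys.family_coprime h.zz hy hw ?_⟩
          rcases hx5 w hw with ⟨-, e, -⟩ | ⟨-, -, e⟩
          · rw [hya, e, hai5]; norm_num
          · exact absurd hw5 e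
        · rintro ⟨hw, c, hc, hce⟩
          refine ⟨hw, ?_⟩
          have : Nat.card (centralizer ({y} : Set H)) = Nat.card (centralizer ({w} : Set H)) :=
            Nat.card_congr ((MulAut.conj c).toEquiv.subtypeEquiv fun g => hce g)
          rw [hya, hai5] at this
          exact this ▸ hpowA w
      · exfalso
        obtain ⟨q, hq, hq1⟩ := hcon i 7 (by norm_num) (by rw [h1, a1, a2])
        rw [hG, hn, h1, a1, a2, b2] at hq
        omega
      · exfalso
        obtain ⟨q, hq, hq1⟩ := hcon i 5 (by norm_num) (by rw [h1, a1, a2])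
        rw [hG, hn, h1, a1, a2, b2] at hq
        omega
    rcases Nat.lt_or_gt_of_ne (hne 0 1 (by decide)) with hh | hh
    · exact Or.inr (h21 0 1 hh)
    · exact Or.inr (h21 1 0 hh)

end EightType

end CfsgLib.Invol.JThreeType
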