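import Cfsg.Agent.Lib.Invol.JThreeType.Out

/-!
# Elements of order three and five of the centralizer and the involutions inverting them
-/

set_option autoImplicit false
set_option synthInstance.maxSize 4096

namespace CfsgLib.Invol.JThreeType

open Subgroup
open CfsgLib.Invol.JTwo (PreHyp Frame Out cj mem_cj mem_centralizer_conj nc_eq_false card_orbit_mul)

local notation "A" => alternatingGroup (Fin 5)

theorem prod_invol : ∀ g : {g : A // (g ^ 3 = 1 ∨ g ^ 5 = 1) ∧ g ≠ 1},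
    ∃ a : A, a * a = 1 ∧ a ≠ 1 ∧ a * g.1 * (a * g.1) = 1 ∧ a * g.1 ≠ 1 := by
  decide +kernel

theorem fix_both_card : ∀ a : {a : A // a * a = 1 ∧ a ≠ 1}, ∀ g : {g : A // g * g * g = 1 ∧ g ≠ 1},
    a.1 * g.1 * a.1 = g.1⁻¹ → Fintype.card {v : Fin 5 → Bool // JTwo.AltFive.Even5 v ∧
      (JTwo.AltFive.Fix g.1 v ∧ JTwo.AltFive.Fix a.1 v)} = 2 := by
  decide +kernel

theorem five_powers : ∀ g : {g : A // g ^ 5 = 1 ∧ g ≠ 1}, ∀ x : A, x * g.1 * x⁻¹ ≠ g.1 ^ 2 := by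
  decide +kernel

namespace Hyp

variable {G : Type*} [Group G] [Finite G] {z : G} {Q : Subgroup G} (h : Hyp z Q)
include h

theorem exists_out_over (F : Frame z Q) {a : A} (ha : a * a = 1) (ha1 : a ≠ 1) :
    ∃ x, ∃ hx : Out z Q x, F.π ⟨x, hx.1⟩ = a := by
  obtain ⟨x, hx⟩ := h.exists_out
  obtain ⟨hg, hg1⟩ := h.pi_invol F hx
  obtain ⟨k, hk⟩ := JTwo.AltFive.invol_conj _ a hg hg1 ha ha1
  obtain ⟨c, rfl⟩ := F.surj k
  have hxI := isI_conj (c : G) (h.out_isI hx)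
  refine ⟨(c : G) * x * (c : G)⁻¹, ⟨mul_mem (mul_mem c.2 hx.1) (inv_mem c.2), fun hm => hx.2.1 ?_, hxI.1⟩, ?_⟩
  · have := h.nrm _ (inv_mem c.2) _ hm; simpa [mul_assoc] using this
  · rw [← hk, ← map_inv, ← map_mul, ← map_mul]; rfl

/-- An element of odd prime order of the centralizer is moved to a power of any other. -/
theorem exists_conj_odd {p : ℕ} [Fact p.Prime] (hp : p = 3 ∨ p = 5) {v w : G}
    (hvC : v ∈ centralizer ({z} : Set G)) (hv : orderOf v = p)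
    (hwC : w ∈ centralizer ({z} : Set G)) (hw : orderOf w = p) :
    ∃ c ∈ centralizer ({z} : Set G), zpowers (c * v * c⁻¹) = zpowers w := by
  classical
  set C := centralizer ({z} : Set G) with hCdef
  have hp2 : ¬ p ^ 2 ∣ 1920 := by rcases hp with rfl | rfl <;> norm_num
  have hS : ∀ x : C, orderOf x = p → ∃ S : Sylow p C, (S : Subgroup C) = zpowers x := by
    intro x hx
    obtain ⟨S, hS⟩ := (IsPGroup.of_card (p := p) (n := 1) (G := zpowers x)
      (by rw [Nat.card_zpowers, hx, pow_one])).exists_le_sylow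
    refine ⟨S, (eq_of_le_of_card_ge hS ?_).symm⟩
    obtain ⟨k, hk⟩ := IsPGroup.iff_card.1 S.isPGroup'
    have hd := card_subgroup_dvd_card (S : Subgroup C)
    rw [hk, hCdef, h.card_C] at hd
    have hk1 : k ≤ 1 := by
      by_contra hk1
      exact hp2 ((pow_dvd_pow p (show 2 ≤ k by omega)).trans hd)
    rw [hk, Nat.card_zpowers, hx]
    exact (Nat.pow_le_pow_right (Fact.out : p.Prime).pos hk1).trans (by rw [pow_one])
  obtain ⟨S, hS1⟩ := hS ⟨v, hvC⟩ (by rw [orderOf_mk]; exact hv)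
  obtain ⟨S', hS'⟩ := hS ⟨w, hwC⟩ (by rw [orderOf_mk]; exact hw)
  obtain ⟨c, hc⟩ := MulAction.exists_smul_eq C S S'
  refine ⟨c, c.2, ?_⟩
  have hm : c * ⟨v, hvC⟩ * c⁻¹ ∈ (S' : Subgroup C) := by
    rw [← hc, Sylow.coe_subgroup_smul, hS1]; exact ⟨_, mem_zpowers _, rfl⟩
  rw [hS', mem_zpowers_iff] at hm
  obtain ⟨k, hk⟩ := hm
  have hk' : w ^ k = (c : G) * v * (c : G)⁻¹ := congrArg Subtype.val hk
  refine eq_of_le_of_card_ge (zpowers_le.2 (mem_zpowers_iff.2 ⟨k, hk'⟩)) ?_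
  rw [Nat.card_zpowers, Nat.card_zpowers, hw, ← MulAut.conj_apply, MulEquiv.orderOf_eq, hv]

/-- An element of order three or five is inverted by an involution outside `Q`. -/
theorem exists_inverter {p : ℕ} (hp : p = 3 ∨ p = 5) {w : G} (hwC : w ∈ centralizer ({z} : Set G))
    (hw : orderOf w = p) : ∃ t, Out z Q t ∧ t * w * t = w⁻¹ := by
  classical
  haveI : Fact p.Prime := ⟨by rcases hp with rfl | rfl <;> norm_num⟩
  obtain ⟨F⟩ := h.exists_frame
  set C := centralizer ({z} : Set G) with hC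
  set g := F.π ⟨w, hwC⟩ with hg
  have hgp : g ^ p = 1 := by
    rw [hg, ← map_pow, show (⟨w, hwC⟩ : C) ^ p = 1 from Subtype.ext (by
      show w ^ p = 1
      rw [← hw, pow_orderOf_eq_one]), map_one]
  have hg1 : g ≠ 1 := fun e => by
    have := orderOf_dvd_natCard Q ((F.ker _).1 e)
    rw [hw, h.card] at this
    rcases hp with rfl | rfl <;> norm_num at this
  obtain ⟨a, ha, ha1, hb, hb1⟩ := prod_invol ⟨g, by rcases hp with rfl | rfl <;> simp [hgp], hg1⟩
  obtain ⟨u, hu, hua⟩ := h.exists_out_over F ha ha1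
  obtain ⟨d, hd, hdb⟩ := h.exists_out_over F hb hb1
  set x : C := ⟨u, hu.1⟩ * ⟨d, hd.1⟩ with hx
  have hπx : F.π x = g := by
    rw [hx, map_mul, hua, hdb, ← mul_assoc, ha, one_mul]
  have hxp : ((x ^ p : C) : G) ∈ Q := (F.ker _).1 (by rw [map_pow, hπx, hgp])
  have hxQ4 : (x : G) ^ (p * 4) = 1 := by
    rw [pow_mul]
    have e : ((x : G) ^ p) ∈ Q := by rw [← Subgroup.coe_pow]; exact hxp
    rcases h.sq _ e with e' | e'
    · rw [show 4 = 2 * 2 from rfl, pow_mul, pow_two ((x : G) ^ p), e', one_pow]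
    · rw [show 4 = 2 * 2 from rfl, pow_mul, pow_two ((x : G) ^ p), e', pow_two, h.zz]
  set y := (x : G) ^ 4 with hy
  have hyC : y ∈ C := pow_mem x.2 4
  have hyp : orderOf y = p := by
    refine orderOf_eq_prime (by rw [hy, ← pow_mul, mul_comm, hxQ4]) fun e => hg1 ?_
    have e4 : g ^ 4 = 1 := by rw [← hπx, ← map_pow, show x ^ 4 = 1 from Subtype.ext e, map_one]
    rcases hp with rfl | rfl
    · rwa [show (4 : ℕ) = 3 + 1 from rfl, pow_succ, hgp, one_mul] at e4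
    · calc g = g ^ 4 * g := by rw [e4, one_mul]
        _ = g ^ (4 + 1) := (pow_succ g 4).symm
        _ = 1 := hgp
  have hui : u⁻¹ = u := inv_eq_of_mul_eq_one_right hu.2.2
  have hinv : u * y * u = y⁻¹ := by
    have e : u * (x : G) * u⁻¹ = (x : G)⁻¹ := by
      show u * (u * d) * u⁻¹ = (u * d)⁻¹
      exact invol_conj_mul hu.order hd.order
    rw [hy, ← inv_pow, ← e, conj_pow, hui]
  obtain ⟨c, hc, hce⟩ := h.exists_conj_odd hp hyC hyp hwC hw
  obtain ⟨k, hk⟩ := mem_zpowers_iff.1 (hce.ge (mem_zpowers w))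
  refine ⟨c * u * c⁻¹, ⟨mul_mem (mul_mem hc hu.1) (inv_mem hc), fun hm => hu.2.1 ?_,
    (isI_conj c (h.out_isI hu)).1⟩, ?_⟩
  · have := h.nrm _ (inv_mem hc) _ hm; simpa [mul_assoc] using this
  · rw [← hk]
    have e : c * u * c⁻¹ * (c * y * c⁻¹) * (c * u * c⁻¹)⁻¹ = (c * y * c⁻¹)⁻¹ := by
      rw [show c * u * c⁻¹ * (c * y * c⁻¹) * (c * u * c⁻¹)⁻¹ = c * (u * y * u⁻¹) * c⁻¹ by group, hui, hinv]
      group
    have e' := conj_zpow_of_inverts e k
    rwa [show (c * u * c⁻¹)⁻¹ = c * u * c⁻¹ by rw [_root_.mul_inv_rev, _root_.mul_inv_rev, inv_inv, hui, mul_assoc],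
      zpow_neg] at e'

/-- Commuting with an element of odd prime order, in coordinates. -/
theorem commute_iff_fix (F : Frame z Q) {w : G} (hwC : w ∈ centralizer ({z} : Set G)) (hw : Odd (orderOf w))
    {q : G} (hq : q ∈ Q) : q * w = w * q ↔ JTwo.AltFive.Fix (F.π ⟨w, hwC⟩) (F.chi q) := by
  rw [← h.fix_mod_iff F ⟨w, hwC⟩ hq]
  show _ ↔ w * q * w⁻¹ = q ∨ w * q * w⁻¹ = q * z
  constructor
  · intro e
    left
    rw [← e, mul_inv_cancel_right]
  · rintro (e | e)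
    · exact (mul_inv_eq_iff_eq_mul.1 e).symm
    · exfalso
      have hwz : w * z * w⁻¹ = z := by rw [mem_centralizer_singleton_iff.1 hwC, mul_inv_cancel_right]
      have h2 : w ^ 2 * q * (w ^ 2)⁻¹ = q := by
        rw [show w ^ 2 * q * (w ^ 2)⁻¹ = w * (w * q * w⁻¹) * w⁻¹ by rw [pow_two]; group, e,
          show w * (q * z) * w⁻¹ = w * q * w⁻¹ * (w * z * w⁻¹) by group, e, hwz, mul_assoc, h.zz, mul_one]
      have hc : Commute (w ^ 2) q := mul_inv_eq_iff_eq_mul.1 h2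
      obtain ⟨k, hk⟩ := hw
      have hcw : Commute ((w ^ 2) ^ (k + 1)) q := hc.pow_left (k + 1)
      rw [← pow_mul, show 2 * (k + 1) = (2 * k + 1) + 1 by ring, ← hk, pow_succ, pow_orderOf_eq_one, one_mul] at hcw
      rw [hcw.eq, mul_inv_cancel_right] at e
      exact h.z_ne (mul_eq_left.1 e.symm)

theorem inverted_iff_fix (F : Frame z Q) {t : G} (ht : Out z Q t) {q : G} (hq : q ∈ Q) :
    t * q * t = q⁻¹ ↔ JTwo.AltFive.Fix (F.π ⟨t, ht.1⟩) (F.chi q) := by
  refine ⟨fun e => (h.fix_mod_iff F ⟨t, ht.1⟩ hq).1 ?_, h.inverts F ht hq⟩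
  show t * q * t⁻¹ = q ∨ t * q * t⁻¹ = q * z
  rw [inv_eq_of_mul_eq_one_right ht.2.2, e]
  rcases h.sq q hq with e' | e'
  · exact Or.inl (inv_eq_of_mul_eq_one_right e')
  · exact Or.inr (inv_eq_of_mul_eq_one_right (by rw [← mul_assoc, e', h.zz]))

/-- The involutions inverting an element correspond to the inverted elements of its centralizer. -/
theorem card_inverters_eq {w t : G} (hwC : w ∈ centralizer ({z} : Set G)) (hw1 : w ≠ 1) (hwo : Odd (orderOf w))
    (ht : Out z Q t) (htw : t * w * t = w⁻¹) :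
    Nat.card {u : G // Out z Q u ∧ u * w * u = w⁻¹} =
      Nat.card {s : G // (s ∈ centralizer ({w} : Set G) ∧ s ∈ centralizer ({z} : Set G)) ∧ t * s * t = s⁻¹} := by
  have hti : t⁻¹ = t := inv_eq_of_mul_eq_one_right ht.2.2
  refine Nat.card_congr ((Equiv.mulLeft t).subtypeEquiv fun u => ?_)
  show _ ↔ (t * u ∈ _ ∧ t * u ∈ _) ∧ t * (t * u) * t = (t * u)⁻¹
  have hcomm : ∀ v, t * u * w = w * (t * u) → v = u → u * w = w⁻¹ * u := by
    intro v e _
    calc u * w = t * (t * u * w) := by rw [← mul_assoc t, ← mul_assoc, ht.2.2, one_mul]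
      _ = t * w * t * u := by rw [e]; group
      _ = w⁻¹ * u := by rw [htw]
  constructor
  · rintro ⟨hu, huw⟩
    have hui : u⁻¹ = u := inv_eq_of_mul_eq_one_right hu.2.2
    have e1 : u * w = w⁻¹ * u := by
      rw [← huw, mul_assoc (u * w), hu.2.2, mul_one]
    refine ⟨⟨mem_centralizer_singleton_iff.2 ?_, mul_mem ht.1 hu.1⟩, ?_⟩
    · have e2 : t * w⁻¹ * t = w := by rw [← htw, invol_conj_twice ht.2.2]
      calc t * u * w = t * (w⁻¹ * u) := by rw [mul_assoc, e1]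
        _ = t * w⁻¹ * (t * t) * u := by rw [ht.2.2, mul_one, mul_assoc]
        _ = t * w⁻¹ * t * (t * u) := by group
        _ = w * (t * u) := by rw [e2]
    · rw [← mul_assoc t t u, ht.2.2, one_mul, _root_.mul_inv_rev, hui, hti]
  · rintro ⟨⟨hc, hC⟩, hi⟩
    have e1 := hcomm u (mem_centralizer_singleton_iff.1 hc) rfl
    have huu : u * u = 1 := by
      rw [← mul_assoc t t u, ht.2.2, one_mul, _root_.mul_inv_rev, hti] at hi
      have : u = u⁻¹ := mul_right_cancel hi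
      nth_rw 1 [this]
      exact inv_mul_cancel u
    have huC : u ∈ centralizer ({z} : Set G) := by
      have := mul_mem ht.1 hC
      rwa [← mul_assoc, ht.2.2, one_mul] at this
    have huw : u * w * u = w⁻¹ := by rw [e1, mul_assoc, huu, mul_one]
    refine ⟨⟨huC, fun hq => ?_, huu⟩, huw⟩
    -- an element of `Q` inverting `w` would put `w ^ 2` into `Q`
    have h2 : w * w ∈ Q := by
      have hw' : u * w * u⁻¹ * w⁻¹ ∈ Q := by
        rw [show u * w * u⁻¹ * w⁻¹ = u * (w * u⁻¹ * w⁻¹) by group]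
        exact mul_mem hq (h.nrm w hwC _ (inv_mem hq))
      rw [inv_eq_of_mul_eq_one_right huu, huw, ← _root_.mul_inv_rev] at hw'
      exact (inv_mem_iff).1 hw'
    obtain ⟨k, hk⟩ := hwo
    have hwQ : w ∈ Q := by
      have e : w = (w * w) ^ (k + 1) := by
        rw [← pow_two, ← pow_mul, show 2 * (k + 1) = (2 * k + 1) + 1 by ring, ← hk, pow_succ, pow_orderOf_eq_one,
          one_mul]
      rw [e]; exact pow_mem h2 _
    have hd := orderOf_dvd_natCard Q hwQ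
    rw [h.card] at hd
    exact hw1 (orderOf_eq_one_iff.1 (Nat.eq_one_of_dvd_coprimes
      ((Nat.coprime_two_left.2 (⟨k, hk⟩ : Odd (orderOf w))).pow_left 5) hd dvd_rfl))

/-- The elements of `Q` commuting with an element of order three and inverted by an inverter. -/
theorem card_quad {y t : G} (hyC : y ∈ centralizer ({z} : Set G)) (hy : orderOf y = 3) (ht : Out z Q t)
    (hty : t * y * t = y⁻¹) :
    Nat.card {q : G // q ∈ Q ∧ q * y = y * q ∧ t * q * t = q⁻¹} = 4 := by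
  classical
  obtain ⟨F⟩ := h.exists_frame
  have hπ3 : F.π ⟨y, hyC⟩ * F.π ⟨y, hyC⟩ * F.π ⟨y, hyC⟩ = 1 := by
    rw [← map_mul, ← map_mul, show (⟨y, hyC⟩ : ↥(centralizer ({z} : Set G))) * ⟨y, hyC⟩ * ⟨y, hyC⟩ = 1 from
      Subtype.ext (by
        show y * y * y = 1
        have := pow_orderOf_eq_one y
        rwa [hy, pow_succ, pow_two] at this), map_one]
  have hπ1 : F.π ⟨y, hyC⟩ ≠ 1 := fun e => by
    have := orderOf_dvd_natCard Q ((F.ker _).1 e)
    rw [hy, h.card] at this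
    norm_num at this
  have hc := h.count F (fun v => JTwo.AltFive.Fix (F.π ⟨y, hyC⟩) v ∧ JTwo.AltFive.Fix (F.π ⟨t, ht.1⟩) v)
  rw [fix_both_card ⟨_, h.pi_invol F ht⟩ ⟨_, hπ3, hπ1⟩ (by
    show F.π ⟨t, ht.1⟩ * F.π ⟨y, hyC⟩ * F.π ⟨t, ht.1⟩ = (F.π ⟨y, hyC⟩)⁻¹
    rw [← map_mul, ← map_mul, ← map_inv]
    exact congrArg F.π (Subtype.ext hty))] at hc
  rw [← show Nat.card {q : G // q ∈ Q ∧ _} = 4 from hc]
  refine Nat.card_congr (Equiv.subtypeEquivRight fun q => and_congr_right fun hq => ?_)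
  rw [h.commute_iff_fix F hyC (by rw [hy]; decide) hq, h.inverted_iff_fix F ht hq]

/-- The centralizer in `C` of an element of order three is the product with its part in `Q`. -/
theorem three_prod {y : G} (hyC : y ∈ centralizer ({z} : Set G)) (hy : orderOf y = 3) {s : G}
    (hs : s ∈ centralizer ({y} : Set G)) (hsC : s ∈ centralizer ({z} : Set G)) :
    ∃ i : Fin 3, ∃ q ∈ Q, q * y = y * q ∧ s = y ^ (i : ℕ) * q := by
  classical
  obtain ⟨F⟩ := h.exists_frame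
  have hπ3 : F.π ⟨y, hyC⟩ * F.π ⟨y, hyC⟩ * F.π ⟨y, hyC⟩ = 1 := by
    rw [← map_mul, ← map_mul, show (⟨y, hyC⟩ : ↥(centralizer ({z} : Set G))) * ⟨y, hyC⟩ * ⟨y, hyC⟩ = 1 from
      Subtype.ext (by
        show y * y * y = 1
        have := pow_orderOf_eq_one y
        rwa [hy, pow_succ, pow_two] at this), map_one]
  have hπ1 : F.π ⟨y, hyC⟩ ≠ 1 := fun e => by
    have := orderOf_dvd_natCard Q ((F.ker _).1 e)
    rw [hy, h.card] at this
    norm_num at this
  obtain ⟨j, hj⟩ := JTwo.AltFive.centralizer_pow ⟨F.π ⟨y, hyC⟩, Or.inl hπ3, hπ1⟩ (F.π ⟨s, hsC⟩) (by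
    rw [← map_mul, ← map_mul]
    exact congrArg F.π (Subtype.ext (mem_centralizer_singleton_iff.1 hs)))
  refine ⟨⟨(j : ℕ) % 3, Nat.mod_lt _ (by norm_num)⟩, (y ^ ((j : ℕ) % 3))⁻¹ * s, ?_, ?_, by group⟩
  · refine (F.ker ((⟨y, hyC⟩ ^ ((j : ℕ) % 3))⁻¹ * ⟨s, hsC⟩)).1 ?_
    rw [map_mul, map_inv, map_pow, hj, inv_mul_eq_one,
      ← pow_mod_orderOf (F.π ⟨y, hyC⟩) (j : ℕ),
      orderOf_eq_prime (p := 3) (by rw [pow_succ, pow_two]; exact hπ3) hπ1]
  · exact (((Commute.pow_self y _).inv_left).mul_left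
      (show Commute s y from mem_centralizer_singleton_iff.1 hs)).eq

theorem card_inverters_three {y t : G} (hyC : y ∈ centralizer ({z} : Set G)) (hy : orderOf y = 3)
    (ht : Out z Q t) (hty : t * y * t = y⁻¹) :
    Nat.card {u : G // Out z Q u ∧ u * y * u = y⁻¹} = 12 := by
  classical
  have hy1 : y ≠ 1 := fun e => by rw [e, orderOf_one] at hy; norm_num at hy
  rw [h.card_inverters_eq hyC hy1 (by rw [hy]; decide) ht hty, show (12 : ℕ) = 3 * 4 from rfl,
    ← h.card_quad hyC hy ht hty, ← Nat.card_fin 3, ← Nat.card_prod]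
  have hyt : ∀ i : ℕ, t * y ^ i * t = (y ^ i)⁻¹ := fun i => by
    have hti : t⁻¹ = t := inv_eq_of_mul_eq_one_right ht.2.2
    have e : t * y * t⁻¹ = y⁻¹ := by rw [hti, hty]
    have := conj_zpow_of_inverts e (i : ℤ)
    rwa [hti, zpow_neg, zpow_natCast] at this
  refine (Nat.card_eq_of_bijective (fun p : Fin 3 × {q : G // q ∈ Q ∧ q * y = y * q ∧ t * q * t = q⁻¹} =>
    (⟨y ^ (p.1 : ℕ) * p.2.1, ⟨mem_centralizer_singleton_iff.2 ?_, mul_mem (pow_mem hyC _) (h.le p.2.2.1)⟩, ?_⟩ :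
      {s : G // (s ∈ centralizer ({y} : Set G) ∧ s ∈ centralizer ({z} : Set G)) ∧ t * s * t = s⁻¹}))
    ⟨?_, ?_⟩).symm
  · exact ((Commute.pow_self y _).mul_left (show Commute p.2.1 y from p.2.2.2.1)).eq
  · rw [invol_conj_mul_map ht.2.2, hyt, p.2.2.2.2, _root_.mul_inv_rev,
      ((show Commute p.2.1 y from p.2.2.2.1).pow_right _).inv_inv.eq]
  · rintro ⟨i, q⟩ ⟨j, q'⟩ e
    replace e : y ^ (i : ℕ) * q.1 = y ^ (j : ℕ) * q'.1 := congrArg Subtype.val e
    have hm : (y ^ (j : ℕ))⁻¹ * y ^ (i : ℕ) ∈ Q := by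
      rw [show (y ^ (j : ℕ))⁻¹ * y ^ (i : ℕ) = (y ^ (j : ℕ))⁻¹ * (y ^ (i : ℕ) * q.1) * (q.1)⁻¹ by group, e,
        inv_mul_cancel_left]
      exact mul_mem q'.2.1 (inv_mem q.2.1)
    have hd := orderOf_dvd_natCard Q hm
    rw [h.card] at hd
    have h3 : orderOf ((y ^ (j : ℕ))⁻¹ * y ^ (i : ℕ)) ∣ 3 := by
      refine Nat.dvd_trans (orderOf_dvd_of_mem_zpowers (x := y) ?_) hy.dvd
      refine (mul_mem (inv_mem ?_) ?_) <;> exact npow_mem_zpowers _ _
    have h1 : (y ^ (j : ℕ))⁻¹ * y ^ (i : ℕ) = 1 :=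
      orderOf_eq_one_iff.1 (Nat.eq_one_of_dvd_coprimes (by norm_num : Nat.Coprime 32 3) hd h3)
    have hij : i = j := by
      refine Fin.ext (pow_injOn_Iio_orderOf (x := y) ?_ ?_ (inv_mul_eq_one.1 h1).symm) <;>
        simp only [Set.mem_Iio, hy] <;> omega
    subst hij
    exact Prod.ext rfl (Subtype.ext (mul_left_cancel e))
  · rintro ⟨s, ⟨hs, hsC⟩, hi⟩
    obtain ⟨i, q, hq, hqy, rfl⟩ := h.three_prod hyC hy hs hsC
    refine ⟨(i, ⟨q, hq, hqy, ?_⟩), rfl⟩
    rw [invol_conj_mul_map ht.2.2, hyt, _root_.mul_inv_rev,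
      ((show Commute q y from hqy).pow_right _).inv_inv.eq] at hi
    exact mul_left_cancel hi

theorem card_inverters_five {f t : G} (hfC : f ∈ centralizer ({z} : Set G)) (hf : orderOf f = 5)
    (ht : Out z Q t) (htf : t * f * t = f⁻¹) :
    Nat.card {u : G // Out z Q u ∧ u * f * u = f⁻¹} = 10 := by
  classical
  have hf1 : f ≠ 1 := fun e => by rw [e, orderOf_one] at hf; norm_num at hf
  rw [h.card_inverters_eq hfC hf1 (by rw [hf]; decide) ht htf]
  refine (Nat.card_congr (Equiv.subtypeEquivRight fun s => ?_)).trans (h.card_five hfC hf)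
  refine ⟨fun e => e.1, fun e => ⟨e, ?_⟩⟩
  -- every element of the centralizer is inverted
  set D := centralizer ({f} : Set G) ⊓ centralizer ({z} : Set G) with hD
  have hti : t⁻¹ = t := inv_eq_of_mul_eq_one_right ht.2.2
  have hcomm : ∀ a ∈ zpowers f, ∀ b ∈ zpowers z, a * b = b * a := by
    intro a ha b hb
    obtain ⟨i, rfl⟩ := mem_zpowers_iff.1 ha
    obtain ⟨j, rfl⟩ := mem_zpowers_iff.1 hb
    exact ((show Commute f z from mem_centralizer_singleton_iff.1 hfC).zpow_zpow i j).eq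
  let m : zpowers f × zpowers z → D := fun p => ⟨p.1 * p.2,
    mul_mem ((zpowers_le.2 (show f ∈ D from ⟨mem_centralizer_singleton_iff.2 rfl, hfC⟩)) p.1.2)
      ((zpowers_le.2 (show z ∈ D from ⟨mem_centralizer_singleton_iff.2
        (mem_centralizer_singleton_iff.1 hfC).symm, h.z_mem_C⟩)) p.2.2)⟩
  have hinj : Function.Injective m := by
    rintro ⟨a, b⟩ ⟨a', b'⟩ e
    replace e : (a : G) * b = a' * b' := congrArg Subtype.val e
    have h1 : (a' : G)⁻¹ * a = (b' : G) * (b : G)⁻¹ := by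
      rw [eq_mul_inv_iff_mul_eq, mul_assoc, e, inv_mul_cancel_left]
    have hd2 : orderOf ((a' : G)⁻¹ * a) ∣ 5 := hf ▸ orderOf_dvd_of_mem_zpowers (mul_mem (inv_mem a'.2) a.2)
    have hd3 : orderOf ((a' : G)⁻¹ * a) ∣ 2 := h.inv ▸ orderOf_dvd_of_mem_zpowers
      (h1 ▸ mul_mem b'.2 (inv_mem b.2))
    have h2 := orderOf_eq_one_iff.1 (Nat.eq_one_of_dvd_coprimes (by norm_num : Nat.Coprime 5 2) hd2 hd3)
    have ha : a = a' := Subtype.ext (inv_mul_eq_one.1 h2).symm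
    subst ha
    exact Prod.ext rfl (Subtype.ext (mul_left_cancel e))
  obtain ⟨⟨a, b⟩, hab⟩ := ((Nat.bijective_iff_injective_and_card m).2 ⟨hinj, by
    rw [Nat.card_prod, Nat.card_zpowers, Nat.card_zpowers, hf, h.inv, h.card_five hfC hf]⟩).2 ⟨s, e⟩
  replace hab : (a : G) * b = s := congrArg Subtype.val hab
  obtain ⟨i, hi⟩ := mem_zpowers_iff.1 a.2
  obtain ⟨j, hj⟩ := mem_zpowers_iff.1 b.2
  have e1 := conj_zpow_of_inverts (show t * f * t⁻¹ = f⁻¹ by rw [hti, htf]) i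
  rw [hti, zpow_neg] at e1
  have e2 : t * (b : G) * t = (b : G)⁻¹ := by
    rw [← hj, ← zpow_neg, ← ((show Commute z t from (mem_centralizer_singleton_iff.1 ht.1).symm).zpow_left j).eq,
      mul_assoc, ht.2.2, mul_one, zpow_neg]
    rw [← inv_zpow, inv_eq_of_mul_eq_one_right h.zz]
  rw [← hab, invol_conj_mul_map ht.2.2, e2, ← hi, e1, _root_.mul_inv_rev, hi]
  exact hcomm _ (inv_mem a.2) _ (inv_mem b.2)

/-- Eighty elements of order three. -/
theorem card_order_three :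
    Nat.card {y : G // y ∈ centralizer ({z} : Set G) ∧ orderOf y = 3} = 80 := by
  classical
  haveI : Fact (Nat.Prime 3) := ⟨Nat.prime_three⟩
  obtain ⟨y₀, hy₀⟩ := exists_prime_orderOf_dvd_card' (G := ↥(centralizer ({z} : Set G))) 3
    (by rw [h.card_C]; norm_num)
  rw [← Subgroup.orderOf_coe] at hy₀
  set y := (y₀ : G)
  have hyC : y ∈ centralizer ({z} : Set G) := y₀.2
  obtain ⟨t, ht, hty⟩ := h.exists_inverter (Or.inl rfl) hyC hy₀
  have e := card_orbit_mul (centralizer ({z} : Set G)) y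
  rw [inf_comm, h.card_three hyC hy₀, h.card_C] at e
  have h80 : Nat.card {w : G // ∃ c ∈ centralizer ({z} : Set G), c * y * c⁻¹ = w} = 80 := by omega
  rw [← h80]
  refine Nat.card_congr (Equiv.subtypeEquivRight fun w => ⟨?_, ?_⟩)
  · rintro ⟨hwC, hw⟩
    obtain ⟨c, hc, hce⟩ := h.exists_conj_three hyC hy₀ hwC hw
    have hco : orderOf (c * y * c⁻¹) = 3 := by rw [← MulAut.conj_apply, MulEquiv.orderOf_eq, hy₀]
    rcases JTwo.pow_cases_three hco (hce.ge (mem_zpowers w)) with e' | e' | e'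
    · rw [e', orderOf_one] at hw; norm_num at hw
    · exact ⟨c, hc, e'.symm⟩
    · refine ⟨c * t, mul_mem hc ht.1, ?_⟩
      rw [e', _root_.mul_inv_rev, inv_eq_of_mul_eq_one_right ht.2.2,
        show c * t * y * (t * c⁻¹) = c * (t * y * t) * c⁻¹ by group, hty]
      group
  · rintro ⟨c, hc, rfl⟩
    exact ⟨mul_mem (mul_mem hc hyC) (inv_mem hc), by rw [← MulAut.conj_apply, MulEquiv.orderOf_eq, hy₀]⟩

/-- The elements of order five. -/
theorem card_order_five :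
    Nat.card {f : G // f ∈ centralizer ({z} : Set G) ∧ orderOf f = 5} = 384 := by
  classical
  haveI : Fact (Nat.Prime 5) := ⟨Nat.prime_five⟩
  obtain ⟨F⟩ := h.exists_frame
  set C := centralizer ({z} : Set G) with hC
  obtain ⟨f₀, hf₀⟩ := exists_prime_orderOf_dvd_card' (G := ↥C) 5 (by rw [hC, h.card_C]; norm_num)
  rw [← Subgroup.orderOf_coe] at hf₀
  set f := (f₀ : G)
  have hfC : f ∈ C := f₀.2
  have hf2o : orderOf (f ^ 2) = 5 := by rw [Nat.Coprime.orderOf_pow (by rw [hf₀]; norm_num), hf₀]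
  obtain ⟨t, ht, htf⟩ := h.exists_inverter (Or.inr rfl) hfC hf₀
  have horb : ∀ {a : G}, a ∈ C → orderOf a = 5 → Nat.card {w : G // ∃ c ∈ C, c * a * c⁻¹ = w} = 192 := by
    intro a haC ha
    have e := card_orbit_mul C a
    rw [inf_comm, h.card_five haC ha, hC, h.card_C] at e
    rw [hC]
    omega
  have hg5 : F.π f₀ ^ 5 = 1 := by
    rw [← map_pow, show f₀ ^ 5 = 1 from Subtype.ext (by
      rw [Subgroup.coe_pow]; show f ^ 5 = 1; rw [← hf₀, pow_orderOf_eq_one]), map_one]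
  have hg1 : F.π f₀ ≠ 1 := fun e => by
    have := orderOf_dvd_natCard Q ((F.ker _).1 e)
    rw [hf₀, h.card] at this
    norm_num at this
  have e384 : (384 : ℕ) = Nat.card {w : G // ∃ c ∈ C, c * f * c⁻¹ = w} +
      Nat.card {w : G // ∃ c ∈ C, c * f ^ 2 * c⁻¹ = w} := by
    rw [horb hfC hf₀, horb (pow_mem hfC 2) hf2o]
  rw [e384, ← Nat.card_sum]
  have hmem : ∀ a : G, a ∈ C → orderOf a = 5 → ∀ w, (∃ c ∈ C, c * a * c⁻¹ = w) → w ∈ C ∧ orderOf w = 5 := by
    rintro a haC ha w ⟨c, hc, rfl⟩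
    exact ⟨mul_mem (mul_mem hc haC) (inv_mem hc), by rw [← MulAut.conj_apply, MulEquiv.orderOf_eq, ha]⟩
  symm
  refine Nat.card_eq_of_bijective (Sum.elim (fun w => (⟨w.1, hmem f hfC hf₀ _ w.2⟩ : {f : G // f ∈ C ∧ orderOf f = 5}))
    fun w => ⟨w.1, hmem _ (pow_mem hfC 2) hf2o _ w.2⟩) ⟨?_, ?_⟩
  · have hne : ∀ c d, c ∈ C → d ∈ C → c * f * c⁻¹ ≠ d * f ^ 2 * d⁻¹ := by
      intro c d hc hd e
      refine five_powers ⟨_, hg5, hg1⟩ (F.π ⟨d⁻¹ * c, mul_mem (inv_mem hd) hc⟩) ?_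
      show _ * F.π f₀ * _ = F.π f₀ ^ 2
      rw [← map_inv, ← map_mul, ← map_mul, ← map_pow]
      refine congrArg F.π (Subtype.ext ?_)
      show d⁻¹ * c * f * (d⁻¹ * c)⁻¹ = f ^ 2
      rw [show d⁻¹ * c * f * (d⁻¹ * c)⁻¹ = d⁻¹ * (c * f * c⁻¹) * d by group, e]
      group
    rintro (⟨a, c, hc, hca⟩ | ⟨a, c, hc, hca⟩) (⟨b, d, hd, hdb⟩ | ⟨b, d, hd, hdb⟩) e <;>
      simp only [Sum.elim_inl, Sum.elim_inr, Subtype.mk.injEq] at e
    · exact congrArg Sum.inl (Subtype.ext e)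
    · exact absurd (hca.trans (e.trans hdb.symm)) (hne c d hc hd)
    · exact absurd (hdb.trans (e.symm.trans hca.symm)) (hne d c hd hc)
    · exact congrArg Sum.inr (Subtype.ext e)
  · rintro ⟨w, hwC, hw⟩
    obtain ⟨c, hc, hce⟩ := h.exists_conj_odd (Or.inr rfl) hfC hf₀ hwC hw
    have hco : orderOf (c * f * c⁻¹) = 5 := by rw [← MulAut.conj_apply, MulEquiv.orderOf_eq, hf₀]
    have hneg : ∀ a : G, t * a * t = a⁻¹ → c * t * a * (c * t)⁻¹ = c * a⁻¹ * c⁻¹ := fun a ha => by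
      rw [_root_.mul_inv_rev, inv_eq_of_mul_eq_one_right ht.2.2, ← ha]; group
    rcases JTwo.pow_cases_five hco (hce.ge (mem_zpowers w)) with e | e | e | e | e
    · rw [e, orderOf_one] at hw; norm_num at hw
    · exact ⟨Sum.inl ⟨w, c, hc, e.symm⟩, rfl⟩
    · refine ⟨Sum.inr ⟨w, c, hc, ?_⟩, rfl⟩
      rw [e, ← pow_two, conj_pow]
    · refine ⟨Sum.inr ⟨w, c * t, mul_mem hc ht.1, ?_⟩, rfl⟩
      have h2 : t * f ^ 2 * t = (f ^ 2)⁻¹ := by
        rw [pow_two, invol_conj_mul_map ht.2.2, htf, _root_.mul_inv_rev]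
      rw [hneg _ h2, e, ← pow_two, ← pow_succ, conj_pow]
      congr 2
      refine inv_eq_of_mul_eq_one_right ?_
      rw [← pow_add, show 2 + (2 + 1) = orderOf f by rw [hf₀], pow_orderOf_eq_one]
    · refine ⟨Sum.inl ⟨w, c * t, mul_mem hc ht.1, ?_⟩, rfl⟩
      rw [hneg _ htf, e]
      group

/-- The number of inverted elements of a given order under an involution outside `Q`. -/
theorem card_inverted_of {p N K : ℕ} (hN : Nat.card {y : G // y ∈ centralizer ({z} : Set G) ∧ orderOf y = p} = N)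
    (hK : ∀ y, y ∈ centralizer ({z} : Set G) → orderOf y = p → Nat.card {u : G // Out z Q u ∧ u * y * u = y⁻¹} = K)
    {u : G} (hu : Out z Q u) :
    Nat.card {y : G // (y ∈ centralizer ({z} : Set G) ∧ orderOf y = p) ∧ u * y * u = y⁻¹} * 120 = N * K := by
  classical
  set C := centralizer ({z} : Set G) with hC
  haveI : Fintype G := Fintype.ofFinite G
  let P := {x : G × G // (x.1 ∈ C ∧ orderOf x.1 = p) ∧ Out z Q x.2 ∧ x.2 * x.1 * x.2 = x.1⁻¹}
  have hleft : Nat.card P = N * K := by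
    let e : P ≃ Σ y : {y : G // y ∈ C ∧ orderOf y = p}, {u : G // Out z Q u ∧ u * y.1 * u = y.1⁻¹} :=
      { toFun := fun x => ⟨⟨x.1.1, x.2.1⟩, ⟨x.1.2, x.2.2⟩⟩
        invFun := fun x => ⟨(x.1.1, x.2.1), x.1.2, x.2.2⟩
        left_inv := fun x => rfl
        right_inv := fun x => rfl }
    rw [Nat.card_congr e, Nat.card_sigma, Finset.sum_congr rfl fun y _ => hK y.1 y.2.1 y.2.2, Finset.sum_const,
      Finset.card_univ, smul_eq_mul, ← Nat.card_eq_fintype_card, hN]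
  have hright : Nat.card P = 120 * Nat.card {y : G // (y ∈ C ∧ orderOf y = p) ∧ u * y * u = y⁻¹} := by
    let e : P ≃ Σ v : {v : G // Out z Q v}, {y : G // (y ∈ C ∧ orderOf y = p) ∧ v.1 * y * v.1 = y⁻¹} :=
      { toFun := fun x => ⟨⟨x.1.2, x.2.2.1⟩, ⟨x.1.1, x.2.1, x.2.2.2⟩⟩
        invFun := fun x => ⟨(x.2.1, x.1.1), x.2.2.1, x.1.2, x.2.2.2⟩
        left_inv := fun x => rfl
        right_inv := fun x => rfl }
    rw [Nat.card_congr e, Nat.card_sigma, Finset.sum_congr rfl fun v _ => ?_, Finset.sum_const,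
      Finset.card_univ, smul_eq_mul, ← Nat.card_eq_fintype_card, h.card_out hu]
    obtain ⟨c, hc, hcv⟩ := (h.outer_class hu).2 v.1 v.2
    refine (Nat.card_congr ((MulAut.conj c).toEquiv.subtypeEquiv fun y => ?_)).symm
    show _ ↔ (c * y * c⁻¹ ∈ C ∧ orderOf (c * y * c⁻¹) = p) ∧ v.1 * (c * y * c⁻¹) * v.1 = (c * y * c⁻¹)⁻¹
    rw [show orderOf (c * y * c⁻¹) = orderOf y by rw [← MulAut.conj_apply, MulEquiv.orderOf_eq],
      Subgroup.mul_mem_cancel_right _ (inv_mem hc), Subgroup.mul_mem_cancel_left _ hc, ← hcv,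
      show c * u * c⁻¹ * (c * y * c⁻¹) * (c * u * c⁻¹) = c * (u * y * u) * c⁻¹ by group,
      show (c * y * c⁻¹)⁻¹ = c * y⁻¹ * c⁻¹ by group, mul_left_inj, mul_right_inj]
  rw [mul_comm, ← hright, hleft]

theorem card_inverted_three {u : G} (hu : Out z Q u) :
    Nat.card {y : G // (y ∈ centralizer ({z} : Set G) ∧ orderOf y = 3) ∧ u * y * u = y⁻¹} = 8 := by
  have e := h.card_inverted_of h.card_order_three (fun y hy ho => by
    obtain ⟨t, ht, hty⟩ := h.exists_inverter (Or.inl rfl) hy ho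
    exact h.card_inverters_three hy ho ht hty) hu
  omega

theorem card_inverted_five {u : G} (hu : Out z Q u) :
    Nat.card {y : G // (y ∈ centralizer ({z} : Set G) ∧ orderOf y = 5) ∧ u * y * u = y⁻¹} = 32 := by
  have e := h.card_inverted_of h.card_order_five (fun y hy ho => by
    obtain ⟨t, ht, hty⟩ := h.exists_inverter (Or.inr rfl) hy ho
    exact h.card_inverters_five hy ho ht hty) hu
  omega

end Hyp

end CfsgLib.Invol.JThreeType
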