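import Cfsg.Agent.Lib.Invol.JThreeType.Inverters

/-!
# Elements of order five when the centralizer of an element of order three is large
-/

set_option autoImplicit false
set_option synthInstance.maxSize 4096

namespace CfsgLib.Invol.JThreeType

open Subgroup
open CfsgLib.Invol.JTwo (PreHyp Frame Out cj mem_cj mem_centralizer_conj nc_eq_false card_orbit_mul
  centralizer_of_zpowers_eq)

local notation "A" => alternatingGroup (Fin 5)

theorem odd_exp : ∀ g : A, g ^ 15 = 1 → g ^ 3 = 1 ∨ g ^ 5 = 1 := by decide +kernel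

/-- A subgroup of order less than the square of a prime has one subgroup of that order. -/
theorem prime_unique {G : Type*} [Group G] [Finite G] {K : Subgroup G} {p : ℕ} [hp : Fact p.Prime]
    (hK : Nat.card K < p * p) {f a : G} (hf : f ∈ K) (hfo : orderOf f = p) (ha : a ∈ K) (hap : a ^ p = 1) :
    a ∈ zpowers f := by
  by_contra hn
  have ha1 : a ≠ 1 := fun e => hn (e ▸ one_mem _)
  have hao : orderOf a = p := orderOf_eq_prime hap ha1
  have hbot : ∀ w, w ∈ zpowers f → w ∈ zpowers a → w = 1 := by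
    intro w hwf hwa
    by_contra hw1
    have hw : orderOf w = p := (hp.out.eq_one_or_self_of_dvd _
      (hao ▸ orderOf_dvd_of_mem_zpowers hwa)).resolve_left (fun e => hw1 (orderOf_eq_one_iff.1 e))
    have e := eq_of_le_of_card_ge (zpowers_le.2 hwf) (by rw [Nat.card_zpowers, Nat.card_zpowers, hfo, hw])
    exact hn (e ▸ eq_of_le_of_card_ge (zpowers_le.2 hwa) (by rw [Nat.card_zpowers, Nat.card_zpowers, hao, hw])
      ▸ mem_zpowers a)
  have hle : Nat.card (zpowers f × zpowers a) ≤ Nat.card K := by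
    refine Nat.card_le_card_of_injective
      (fun w => (⟨w.1.1 * w.2.1, mul_mem (zpowers_le.2 hf w.1.2) (zpowers_le.2 ha w.2.2)⟩ : K)) ?_
    rintro ⟨⟨u, hu⟩, ⟨v, hv⟩⟩ ⟨⟨u', hu'⟩, ⟨v', hv'⟩⟩ e
    replace e : u * v = u' * v' := congrArg Subtype.val e
    have e1 : u'⁻¹ * u = v' * v⁻¹ := by rw [eq_mul_inv_iff_mul_eq, mul_assoc, e, inv_mul_cancel_left]
    have := hbot _ (mul_mem (inv_mem hu') hu) (e1 ▸ mul_mem hv' (inv_mem hv))
    obtain rfl : u' = u := inv_mul_eq_one.1 this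
    obtain rfl : v = v' := mul_left_cancel e
    rfl
  rw [Nat.card_prod, Nat.card_zpowers, Nat.card_zpowers, hfo, hao] at hle
  omega

/-- The hypothesis with large centralizers of elements of order three. -/
structure Big {G : Type*} [Group G] (z : G) (Q : Subgroup G) : Prop extends Hyp z Q where
  big : ∀ y, y ∈ centralizer ({z} : Set G) → orderOf y = 3 → Nat.card (centralizer ({y} : Set G)) = 1080

/-- The data at an element of order five. -/
structure FiveData {G : Type*} [Group G] (x u b : G) : Prop where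
  isI : IsI u
  comm : u * x = x * u
  yclass : YClass b
  inv : u * b * u = b⁻¹
  commb : b * x = x * b
  card : Nat.card (centralizer ({x} : Set G)) = 30
  odd : ∀ a ∈ centralizer ({x} : Set G), Odd (orderOf a) → ∃ i j : ℕ, a = x ^ i * b ^ j
  invol : ∀ a ∈ centralizer ({x} : Set G), IsI a → ∃ j : ℕ, a = u * b ^ j

namespace Hyp

variable {G : Type*} [Group G] [Finite G] {z : G} {Q : Subgroup G} (h : Hyp z Q)
include h

theorem odd_order_cases {c : G} (hc : c ∈ centralizer ({z} : Set G)) (ho : Odd (orderOf c)) :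
    c ^ 3 = 1 ∨ c ^ 5 = 1 := by
  obtain ⟨F⟩ := h.exists_frame
  have hd := orderOf_dvd_natCard _ hc
  rw [h.card_C] at hd
  have h15 : orderOf c ∣ 15 :=
    ((Nat.coprime_two_right.2 ho).pow_right 7).dvd_of_dvd_mul_left (show orderOf c ∣ 2 ^ 7 * 15 from hd)
  have hc15 : c ^ 15 = 1 := orderOf_dvd_iff_pow_eq_one.1 h15
  have hker : ∀ k, F.π (⟨c, hc⟩ ^ k) = 1 → c ^ k = 1 := fun k e => by
    have hq := (F.ker (⟨c, hc⟩ ^ k)).1 e
    rw [Subgroup.coe_pow] at hq
    have h32 := orderOf_dvd_natCard Q hq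
    rw [h.card] at h32
    exact orderOf_eq_one_iff.1 (Nat.eq_one_of_dvd_coprimes (by norm_num : Nat.Coprime 32 15) h32
      ((orderOf_pow_dvd k).trans h15))
  have hπ : F.π ⟨c, hc⟩ ^ 15 = 1 := by
    rw [← map_pow, show (⟨c, hc⟩ : ↥(centralizer ({z} : Set G))) ^ 15 = 1 from Subtype.ext hc15, map_one]
  exact (odd_exp _ hπ).imp (fun e => hker 3 (by rw [map_pow]; exact e)) fun e => hker 5 (by rw [map_pow]; exact e)

end Hyp

namespace Big

variable {G : Type*} [Group G] [Finite G] {z : G} {Q : Subgroup G} (h : Big z Q)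
include h

section three

variable {y : G} (hyC : y ∈ centralizer ({z} : Set G)) (hy : orderOf y = 3)
include hyC hy

theorem X_big :
    Nat.card {x : G // x ∈ centralizer ({y} : Set G) ∧ IsInv z x} = 32 ∧
      Nat.card {x : G // (x ∈ centralizer ({y} : Set G) ∧ IsInv z x) ∧ x ^ 5 = 1} = 16 ∧
      ∀ x, x ∈ centralizer ({y} : Set G) → IsInv z x →
        (x ^ 5 = 1 ∧ Nat.card (centralizer ({x} : Set G) ⊓ centralizer ({y} : Set G) : Subgroup G) = 15 ∧
          ∀ d ∈ centralizer ({y} : Set G), d ∈ centralizer ({z} : Set G) → d * x * d⁻¹ ∈ zpowers x →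
            d ∈ zpowers y ∨ d * z ∈ zpowers y) ∨
        (x ^ 3 = 1 ∧ Nat.card (centralizer ({x} : Set G) ⊓ centralizer ({y} : Set G) : Subgroup G) ∣ 27) := by
  rcases h.X_cases hyC hy with ⟨e, -⟩ | ⟨-, e⟩
  · rw [h.big y hyC hy] at e
    norm_num at e
  · exact e

theorem five_in_X {x : G} (hx : x ∈ centralizer ({y} : Set G)) (hi : IsInv z x) (h5 : x ^ 5 = 1) :
    Nat.card (centralizer ({x} : Set G) ⊓ centralizer ({y} : Set G) : Subgroup G) = 15 ∧
      ∀ d ∈ centralizer ({y} : Set G), d ∈ centralizer ({z} : Set G) → d * x * d⁻¹ ∈ zpowers x →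
        d ∈ zpowers y ∨ d * z ∈ zpowers y := by
  rcases (h.X_big hyC hy).2.2 x hx hi with ⟨-, e⟩ | ⟨h3, -⟩
  · exact e
  · refine absurd (orderOf_eq_one_iff.1 ?_) hi.1
    exact Nat.eq_one_of_dvd_coprimes (by norm_num : Nat.Coprime 5 3) (orderOf_dvd_of_pow_eq_one h5)
      (orderOf_dvd_of_pow_eq_one h3)

/-- An inverter centralising an inverted element of order five. -/
theorem exists_fix_pair : ∃ t, Out z Q t ∧ t * y * t = y⁻¹ ∧
    ∃ f, f ∈ centralizer ({y} : Set G) ∧ IsInv z f ∧ f ^ 5 = 1 ∧ t * f = f * t := by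
  classical
  haveI : Fintype G := Fintype.ofFinite G
  obtain ⟨F⟩ := h.exists_frame
  obtain ⟨t, ht, hty⟩ := h.exists_inverter (Or.inl rfl) hyC hy
  obtain ⟨-, h16, -⟩ := h.X_big hyC hy
  let S := {x : G // (x ∈ centralizer ({y} : Set G) ∧ IsInv z x) ∧ x ^ 5 = 1}
  obtain ⟨⟨f, ⟨hfy, hfi⟩, hf5⟩⟩ : Nonempty S := by
    refine (Nat.card_pos_iff.1 (show 0 < Nat.card S from ?_)).1
    rw [show Nat.card S = 16 from h16]; norm_num
  haveI : Fact (Nat.Prime 5) := ⟨Nat.prime_five⟩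
  have hfo : orderOf f = 5 := orderOf_eq_prime hf5 hfi.1
  let D := {q : G // q ∈ Q ∧ q * y = y * q}
  have hD : Nat.card D = 8 := h.card_fixed_part hyC hy
  have hzf : ∀ k : ℕ, z * f ^ k * z = (f ^ k)⁻¹ := fun k => by
    have e := conj_zpow_of_inverts (show z * f * z⁻¹ = f⁻¹ by
      rw [inv_eq_of_mul_eq_one_right h.zz]; exact hfi.2.2) (k : ℤ)
    rwa [zpow_neg, zpow_natCast, inv_eq_of_mul_eq_one_right h.zz] at e
  have hmem : ∀ (d : D) (k : Fin 4), (d.1 * f ^ ((k : ℕ) + 1) * (d.1)⁻¹ ∈ centralizer ({y} : Set G) ∧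
      IsInv z (d.1 * f ^ ((k : ℕ) + 1) * (d.1)⁻¹)) ∧ (d.1 * f ^ ((k : ℕ) + 1) * (d.1)⁻¹) ^ 5 = 1 := by
    intro d k
    have hd : d.1 ∈ centralizer ({y} : Set G) := mem_centralizer_singleton_iff.2 d.2.2
    have h5' : (f ^ ((k : ℕ) + 1)) ^ 5 = 1 := by rw [← pow_mul, mul_comm, pow_mul, hf5, one_pow]
    refine ⟨⟨mul_mem (mul_mem hd (pow_mem hfy _)) (inv_mem hd), fun e => ?_, ?_, ?_⟩, ?_⟩
    · rw [conj_eq_one_iff] at e
      have := orderOf_dvd_of_pow_eq_one e
      rw [hfo] at this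
      have := Nat.le_of_dvd (Nat.succ_pos _) this
      omega
    · rw [← MulAut.conj_apply, MulEquiv.orderOf_eq]
      exact (show Odd 5 by decide).of_dvd_nat (orderOf_dvd_of_pow_eq_one h5')
    · have hdz := h.z_comm d.2.1
      calc z * (d.1 * f ^ ((k : ℕ) + 1) * (d.1)⁻¹) * z = z * d.1 * f ^ ((k : ℕ) + 1) * ((d.1)⁻¹ * z) := by group
        _ = d.1 * z * f ^ ((k : ℕ) + 1) * (z * (d.1)⁻¹) := by
          rw [← hdz, (show Commute d.1 z from hdz).inv_left.eq]
        _ = d.1 * (z * f ^ ((k : ℕ) + 1) * z) * (d.1)⁻¹ := by group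
        _ = _ := by rw [hzf]; group
    · rw [conj_pow, h5']; group
  let φ : D × Fin 4 → S := fun p => ⟨_, hmem p.1 p.2⟩
  have hstab : ∀ e : G, e ∈ Q → e * y = y * e → e * f * e⁻¹ ∈ zpowers f → e = 1 ∨ e = z := by
    intro e heQ hey hef
    have hpow : ∀ w ∈ Q, w ∈ zpowers y → w = 1 := fun w hw hwy => by
      have h1 := orderOf_dvd_natCard Q hw
      rw [h.card] at h1
      exact orderOf_eq_one_iff.1 (Nat.eq_one_of_dvd_coprimes (by norm_num : Nat.Coprime 32 3) h1
        (hy ▸ orderOf_dvd_of_mem_zpowers hwy))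
    rcases (h.five_in_X hyC hy hfy hfi hf5).2 e (mem_centralizer_singleton_iff.2 hey) (h.le heQ) hef with e' | e'
    · exact Or.inl (hpow e heQ e')
    · refine Or.inr ?_
      rw [eq_inv_of_mul_eq_one_left (hpow _ (mul_mem heQ h.zmem) e'), inv_eq_of_mul_eq_one_right h.zz]
  have hgen : ∀ k : Fin 4, zpowers (f ^ ((k : ℕ) + 1)) = zpowers f := fun k => by
    refine eq_of_le_of_card_ge (zpowers_le.2 (npow_mem_zpowers f _)) ?_
    rw [Nat.card_zpowers, Nat.card_zpowers, Nat.Coprime.orderOf_pow (by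
      rw [hfo]; exact (Nat.prime_five.coprime_iff_not_dvd).2 fun hd => by
        have := Nat.le_of_dvd (Nat.succ_pos _) hd
        omega)]
  have hfib : ∀ p p' : D × Fin 4, φ p = φ p' → p.1.1 = p'.1.1 → p = p' := by
    rintro ⟨d, k⟩ ⟨d', k'⟩ e e'
    obtain rfl : d = d' := Subtype.ext e'
    have e2 : f ^ ((k : ℕ) + 1) = f ^ ((k' : ℕ) + 1) := by
      have e3 : d.1 * f ^ ((k : ℕ) + 1) * (d.1)⁻¹ = d.1 * f ^ ((k' : ℕ) + 1) * (d.1)⁻¹ := congrArg Subtype.val e
      exact mul_left_cancel (mul_right_cancel e3)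
    have := pow_injOn_Iio_orderOf (x := f) (by simp only [Set.mem_Iio, hfo]; omega)
      (by simp only [Set.mem_Iio, hfo]; omega) e2
    exact Prod.ext rfl (Fin.ext (Nat.succ_injective this))
  have hsurj : Function.Surjective φ := by
    have hle : (Finset.univ : Finset (D × Fin 4)).card ≤ 2 * (Finset.univ.image φ).card := by
      refine Finset.card_le_mul_card_image _ 2 fun s _ => ?_
      rcases (Finset.univ.filter fun a => φ a = s).eq_empty_or_nonempty with he | ⟨p₀, hp₀⟩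
      · rw [he]; simp
      · have hinj : Set.InjOn (fun p : D × Fin 4 => p.1.1)
            ((Finset.univ.filter fun a => φ a = s : Finset (D × Fin 4)) : Set (D × Fin 4)) := fun p hp p' hp' e =>
          hfib p p' ((Finset.mem_filter.1 hp).2.trans (Finset.mem_filter.1 hp').2.symm) e
        rw [← Finset.card_image_of_injOn hinj]
        refine (Finset.card_le_card ?_).trans (Finset.card_le_two (a := p₀.1.1) (b := p₀.1.1 * z))
        intro w hw
        obtain ⟨⟨d', k'⟩, hp, rfl⟩ := Finset.mem_image.1 hw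
        obtain ⟨d, k⟩ := p₀
        have e : d'.1 * f ^ ((k' : ℕ) + 1) * (d'.1)⁻¹ = d.1 * f ^ ((k : ℕ) + 1) * (d.1)⁻¹ :=
          congrArg Subtype.val ((Finset.mem_filter.1 hp).2.trans (Finset.mem_filter.1 hp₀).2.symm)
        set e0 := (d.1)⁻¹ * d'.1 with he0def
        have he0 : e0 * f ^ ((k' : ℕ) + 1) * e0⁻¹ = f ^ ((k : ℕ) + 1) := by
          rw [show e0 * f ^ ((k' : ℕ) + 1) * e0⁻¹ = (d.1)⁻¹ * (d'.1 * f ^ ((k' : ℕ) + 1) * (d'.1)⁻¹) * d.1 by
            rw [he0def]; group, e]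
          group
        have hef : e0 * f * e0⁻¹ ∈ zpowers f := by
          obtain ⟨n, hn⟩ := mem_zpowers_iff.1 ((hgen k').ge (mem_zpowers f))
          rw [← hn, ← conj_zpow, he0, hn]
          exact zpow_mem (npow_mem_zpowers f _) n
        have hcm : e0 * y = y * e0 :=
          ((show Commute d.1 y from d.2.2).inv_left.mul_left (show Commute d'.1 y from d'.2.2)).eq
        simp only [Finset.mem_insert, Finset.mem_singleton]
        rcases hstab e0 (mul_mem (inv_mem d.2.1) d'.2.1) hcm hef with e1 | e1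
        · exact Or.inl (inv_mul_eq_one.1 e1).symm
        · exact Or.inr (by rw [← e1, mul_inv_cancel_left])
    rw [Finset.card_univ, ← Nat.card_eq_fintype_card, Nat.card_prod, hD, Nat.card_fin] at hle
    intro s
    have hS : Fintype.card S = 16 := by rw [← Nat.card_eq_fintype_card]; exact h16
    have := Finset.eq_univ_of_card (Finset.univ.image φ) (le_antisymm (Finset.card_le_univ _) (by omega))
    obtain ⟨p, -, hp⟩ := Finset.mem_image.1 (this ▸ Finset.mem_univ s)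
    exact ⟨p, hp⟩
  have hti : t⁻¹ = t := inv_eq_of_mul_eq_one_right ht.2.2
  have hys : t * y⁻¹ * t = y := by rw [← hty, invol_conj_twice ht.2.2]
  have htz : t * z = z * t := mem_centralizer_singleton_iff.1 ht.1
  have htS : (t * f * t ∈ centralizer ({y} : Set G) ∧ IsInv z (t * f * t)) ∧ (t * f * t) ^ 5 = 1 := by
    refine ⟨⟨mem_centralizer_singleton_iff.2 ?_, fun e => hfi.1 ?_, ?_, ?_⟩, ?_⟩
    · rw [← hys, ← invol_conj_mul_map ht.2.2, ← invol_conj_mul_map ht.2.2,
        ((show Commute f y from mem_centralizer_singleton_iff.1 hfy).inv_right).eq]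
    · rw [← invol_conj_twice ht.2.2 f, e, mul_one, ht.2.2]
    · rw [show t * f * t = MulAut.conj t f by rw [MulAut.conj_apply, hti], MulEquiv.orderOf_eq]
      exact hfi.2.1
    · calc z * (t * f * t) * z = (z * t) * f * (t * z) := by group
        _ = (t * z) * f * (z * t) := by rw [htz]
        _ = t * (z * f * z) * t := by group
        _ = (t * f * t)⁻¹ := by rw [hfi.2.2, invol_conj_inv_map ht.2.2]
    · rw [show t * f * t = t * f * t⁻¹ by rw [hti], conj_pow, hf5]; group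
  obtain ⟨⟨d, k⟩, hp⟩ := hsurj ⟨_, htS⟩
  have hp' : d.1 * f ^ ((k : ℕ) + 1) * (d.1)⁻¹ = t * f * t := congrArg Subtype.val hp
  set t1 := (d.1)⁻¹ * t with ht1
  have hdC : d.1 ∈ centralizer ({z} : Set G) := h.le d.2.1
  have hC1 : t1 ∈ centralizer ({z} : Set G) := mul_mem (inv_mem hdC) ht.1
  have h1Q : t1 ∉ Q := fun hq => ht.2.1 (by
    have := mul_mem d.2.1 hq
    rwa [ht1, mul_inv_cancel_left] at this)
  have hf1 : t1 * f * t1⁻¹ = f ^ ((k : ℕ) + 1) := by
    rw [ht1, _root_.mul_inv_rev, inv_inv, hti,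
      show (d.1)⁻¹ * t * f * (t * d.1) = (d.1)⁻¹ * (t * f * t) * d.1 by group, ← hp']
    group
  have hy1 : t1 * y * t1⁻¹ = y⁻¹ := by
    rw [ht1, _root_.mul_inv_rev, inv_inv, hti,
      show (d.1)⁻¹ * t * y * (t * d.1) = (d.1)⁻¹ * (t * y * t) * d.1 by group, hty, mul_assoc,
      ← ((show Commute d.1 y from d.2.2).inv_right).eq, inv_mul_cancel_left]
  -- the square of the new inverter
  have hsq : t1 * t1 = 1 := by
    have hπ : F.π ⟨t1, hC1⟩ = F.π ⟨t, ht.1⟩ := by
      rw [show (⟨t1, hC1⟩ : ↥(centralizer ({z} : Set G))) = ⟨(d.1)⁻¹, inv_mem hdC⟩ * ⟨t, ht.1⟩ from rfl, map_mul,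
        (F.ker _).2 (inv_mem d.2.1), one_mul]
    have hπ2 := h.pi_invol F ht
    rw [← hπ] at hπ2
    have hq2 : t1 * t1 ∈ Q := (F.ker (⟨t1, hC1⟩ * ⟨t1, hC1⟩)).1 (by rw [map_mul]; exact hπ2.1)
    have hc2 : t1 * t1 * y = y * (t1 * t1) := by
      refine mul_inv_eq_iff_eq_mul.1 ?_
      rw [show t1 * t1 * y * (t1 * t1)⁻¹ = t1 * (t1 * y * t1⁻¹) * t1⁻¹ by group, hy1,
        show t1 * y⁻¹ * t1⁻¹ = (t1 * y * t1⁻¹)⁻¹ by group, hy1, inv_inv]
    rcases hstab _ hq2 hc2 (by
      rw [show t1 * t1 * f * (t1 * t1)⁻¹ = t1 * (t1 * f * t1⁻¹) * t1⁻¹ by group, hf1, ← conj_pow, hf1, ← pow_mul]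
      exact npow_mem_zpowers f _) with e | e
    · exact e
    · exact absurd e (h.sq_ne_z F hC1 hπ2.1 hπ2.2)
  have hti1 : t1⁻¹ = t1 := inv_eq_of_mul_eq_one_right hsq
  rw [hti1] at hf1 hy1
  have hk : f ^ (((k : ℕ) + 1) * ((k : ℕ) + 1)) = f := by
    rw [pow_mul]
    nth_rw 1 [← hf1]
    rw [show (t1 * f * t1) ^ ((k : ℕ) + 1) = t1 * f ^ ((k : ℕ) + 1) * t1 by
      nth_rw 2 [← hti1]
      rw [conj_pow, hti1], ← hf1, invol_conj_twice hsq]
  have hk' : ((k : ℕ) + 1) * ((k : ℕ) + 1) % 5 = 1 := by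
    have e : f ^ (((k : ℕ) + 1) * ((k : ℕ) + 1)) = f ^ 1 := by rw [hk, pow_one]
    rw [pow_inj_mod, hfo] at e
    exact e
  have hOut : Out z Q t1 := ⟨hC1, h1Q, hsq⟩
  rcases (show (k : ℕ) = 0 ∨ (k : ℕ) = 3 by
    obtain ⟨k, hk4⟩ := k
    simp only at hk' ⊢
    interval_cases k <;> omega) with e | e
  · refine ⟨t1, hOut, hy1, f, hfy, hfi, hf5, ?_⟩
    rw [e, zero_add, pow_one] at hf1
    exact (invol_fix_iff hsq f).1 hf1
  · rw [e] at hf1
    have hf4 : t1 * f * t1 = f⁻¹ := by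
      rw [hf1]
      exact eq_inv_of_mul_eq_one_left (by rw [← pow_succ]; exact hf5)
    have hzt : z * t1 = t1 * z := (mem_centralizer_singleton_iff.1 hC1).symm
    have hsq' : t1 * z * (t1 * z) = 1 := by rw [mul_assoc, ← mul_assoc z, hzt, mul_assoc t1 z, h.zz, mul_one, hsq]
    refine ⟨t1 * z, ⟨mul_mem hC1 h.z_mem_C, fun hq => h1Q ?_, hsq'⟩, ?_, f, hfy, hfi, hf5, ?_⟩
    · have := mul_mem hq h.zmem
      rwa [mul_assoc, h.zz, mul_one] at this
    · calc t1 * z * y * (t1 * z) = t1 * (z * y * z) * t1 := by rw [show t1 * z = z * t1 from hzt.symm]; nth_rw 1 [hzt]; group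
        _ = y⁻¹ := by rw [(invol_fix_iff h.zz y).2 (mem_centralizer_singleton_iff.1 hyC).symm, hy1]
    · refine (invol_fix_iff hsq' f).1 ?_
      calc t1 * z * f * (t1 * z) = t1 * (z * f * z) * t1 := by nth_rw 2 [← hzt]; group
        _ = f := by rw [hfi.2.2, invol_conj_inv_map hsq, hf4, inv_inv]

/-- The centralizer of `y` and an inverter meet in a dihedral group of order ten. -/
theorem card_K {t : G} (ht : Out z Q t) (hty : t * y * t = y⁻¹) :
    Nat.card (centralizer ({y} : Set G) ⊓ centralizer ({t} : Set G) : Subgroup G) = 10 ∧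
      ∃ f, f ∈ centralizer ({y} : Set G) ∧ IsInv z f ∧ f ^ 5 = 1 ∧ t * f = f * t := by
  classical
  haveI : Fintype G := Fintype.ofFinite G
  have hex : ∃ f, f ∈ centralizer ({y} : Set G) ∧ IsInv z f ∧ f ^ 5 = 1 ∧ t * f = f * t := by
    obtain ⟨t0, ht0, hty0, f, hfy, hfi, hf5, htf⟩ := h.exists_fix_pair hyC hy
    obtain ⟨s, hs, hsC, hst⟩ := h.inverters_orbit hyC hy ht0 hty0 ht hty
    have hsz : s * z = z * s := mem_centralizer_singleton_iff.1 hsC
    refine ⟨s * f * s⁻¹, mul_mem (mul_mem hs hfy) (inv_mem hs), ⟨fun e => hfi.1 (conj_eq_one_iff.1 e), ?_, ?_⟩,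
      by rw [conj_pow, hf5]; group, ?_⟩
    · rw [← MulAut.conj_apply, MulEquiv.orderOf_eq]; exact hfi.2.1
    · calc z * (s * f * s⁻¹) * z = z * s * f * (s⁻¹ * z) := by group
        _ = s * z * f * (z * s⁻¹) := by rw [← hsz, (show Commute s z from hsz).inv_left.eq]
        _ = s * (z * f * z) * s⁻¹ := by group
        _ = (s * f * s⁻¹)⁻¹ := by rw [hfi.2.2]; group
    · rw [← hst, show s * t0 * s⁻¹ * (s * f * s⁻¹) = s * (t0 * f) * s⁻¹ by group, htf]; group
  refine ⟨?_, hex⟩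
  obtain ⟨f, hfy, hfi, hf5, htf⟩ := hex
  haveI : Fact (Nat.Prime 5) := ⟨Nat.prime_five⟩
  have hfo : orderOf f = 5 := orderOf_eq_prime hf5 hfi.1
  set K := centralizer ({y} : Set G) ⊓ centralizer ({t} : Set G) with hK
  have htz : t * z = z * t := mem_centralizer_singleton_iff.1 ht.1
  have hzK : z ∈ K := ⟨h.z_mem_X hyC hy, mem_centralizer_singleton_iff.2 htz.symm⟩
  have hfK : f ∈ K := ⟨hfy, mem_centralizer_singleton_iff.2 htf.symm⟩
  have hKz : ∀ k ∈ K, k ∈ centralizer ({z} : Set G) → k = 1 ∨ k = z := fun k hk hkz =>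
    h.out_fixed_X hyC hy ht hty hk.1 hkz (mem_centralizer_singleton_iff.1 hk.2).symm
  obtain ⟨a, ha⟩ := h.exists_conj (h.out_isI ht)
  have h' : Hyp t (cj a Q) := ha ▸ h.toHyp.conj a
  obtain ⟨F⟩ := h'.exists_frame
  have hzQ : z ∉ cj a Q := fun hq => by
    have hzfQ := h'.nrm f (mem_centralizer_singleton_iff.2 htf.symm) z hq
    have hm := mul_mem hq hzfQ
    rw [show z * (f * z * f⁻¹) = z * f * z * f⁻¹ by group, hfi.2.2, ← _root_.mul_inv_rev] at hm
    have hd := orderOf_dvd_natCard (cj a Q) (inv_mem_iff.1 hm)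
    rw [h'.card, ← pow_two, Nat.Coprime.orderOf_pow (by rw [hfo]; norm_num), hfo] at hd
    norm_num at hd
  have htK : t ∉ K := fun hm => by
    have e := mem_centralizer_singleton_iff.1 hm.1
    rw [e, mul_assoc, ht.2.2, mul_one] at hty
    have h2 := eq_one_of_odd_of_mul_self (show Odd (orderOf y) by rw [hy]; decide)
      (by nth_rw 2 [hty]; exact mul_inv_cancel y)
    rw [h2, orderOf_one] at hy
    norm_num at hy
  have hker : ∀ q ∈ K, q ∈ cj a Q → q = 1 := by
    intro q hqK hqQ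
    have hq'K : z * q * z ∈ K := mul_mem (mul_mem hzK hqK) hzK
    have hq'Q : z * q * z ∈ cj a Q := by
      have := h'.nrm z (mem_centralizer_singleton_iff.2 htz.symm) q hqQ
      rwa [inv_eq_of_mul_eq_one_right h.zz] at this
    have hcm : q * (z * q * z) = z * q * z * q := (h'.comm q hqQ _ hq'Q).resolve_right fun e => htK (by
      rw [show t = q * (z * q * z) * (z * q * z * q)⁻¹ by rw [e]; group]
      exact mul_mem (mul_mem hqK hq'K) (inv_mem (mul_mem hq'K hqK)))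
    have hqq : q * q = 1 := (h'.sq q hqQ).resolve_right fun e => htK (e ▸ mul_mem hqK hqK)
    have hfix : z * (q * (z * q * z)) * z = q * (z * q * z) := by
      rw [invol_conj_mul_map h.zz, invol_conj_twice h.zz, hcm]
    rcases hKz _ (mul_mem hqK hq'K) (mem_centralizer_singleton_iff.2 ((invol_fix_iff h.zz _).1 hfix).symm) with e | e
    · have e2 : z * q * z = q := by rw [eq_inv_of_mul_eq_one_right e, inv_eq_of_mul_eq_one_right hqq]
      rcases hKz q hqK (mem_centralizer_singleton_iff.2 ((invol_fix_iff h.zz _).1 e2).symm) with e3 | e3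
      · exact e3
      · exact absurd (e3 ▸ hqQ) hzQ
    · exact absurd (e ▸ mul_mem hqQ hq'Q) hzQ
  let φ : K →* A := F.π.comp (inclusion (inf_le_right : K ≤ centralizer ({t} : Set G)))
  have hφ : Function.Injective φ := (injective_iff_map_eq_one φ).2 fun k hk =>
    Subtype.ext (hker k k.2 ((F.ker _).1 hk))
  have hrange : Nat.card φ.range = Nat.card K := (Nat.card_congr (MonoidHom.ofInjective hφ).toEquiv).symm
  have hA : Nat.card A = 60 := JTwo.AltFive.card_A
  have h60 : Nat.card K ∣ 60 := hA ▸ hrange ▸ card_subgroup_dvd_card φ.range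
  have h5 : 5 ∣ Nat.card K := hfo ▸ orderOf_dvd_natCard K hfK
  have hC2 : ¬ 4 ∣ Nat.card (K ⊓ centralizer ({z} : Set G) : Subgroup G) := by
    intro h4
    have : Nat.card (K ⊓ centralizer ({z} : Set G) : Subgroup G) ≤ 2 := by
      refine (Nat.card_le_card_of_injective (fun s : (K ⊓ centralizer ({z} : Set G) : Subgroup G) =>
        decide ((s : G) = 1)) fun a b e => ?_).trans (by simp)
      have e' := decide_eq_decide.1 e
      refine Subtype.ext ?_
      rcases hKz _ a.2.1 a.2.2 with p | p <;> rcases hKz _ b.2.1 b.2.2 with q | q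
      · rw [p, q]
      · exact absurd (q.symm.trans (e'.1 p)) h.z_ne
      · exact absurd (p.symm.trans (e'.2 q)) h.z_ne
      · rw [p, q]
    have := Nat.le_of_dvd Nat.card_pos h4
    omega
  obtain ⟨O, -, hOm, hKO, -⟩ := exists_odd_half hzK h.inv hC2
  have hOodd : ¬ 2 ∣ Nat.card O := fun h2 => by
    haveI : Fact (Nat.Prime 2) := ⟨Nat.prime_two⟩
    obtain ⟨w, hw⟩ := exists_prime_orderOf_dvd_card' (G := O) 2 h2
    have := ((hOm _).1 w.2).2
    rw [Subgroup.orderOf_coe, hw] at this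
    exact absurd this (by decide)
  have hcases : Nat.card K = 10 ∨ Nat.card K = 30 := by
    have hb : Nat.card O ≤ 30 := by
      have := Nat.le_of_dvd (by norm_num) h60
      omega
    rw [hKO] at h60 h5 ⊢
    interval_cases hn : Nat.card O <;> omega
  refine hcases.resolve_right fun e => ?_
  have hi : φ.range.index = 2 := by
    have := φ.range.card_mul_index
    rw [hrange, e, hA] at this
    omega
  haveI := normal_of_index_eq_two hi
  rcases (inferInstance : IsSimpleGroup A).eq_bot_or_eq_top_of_normal φ.range inferInstance with e' | e'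
  · rw [e', card_bot] at hrange; omega
  · rw [e', card_top, hA] at hrange; omega

end three

theorem five_conj {t y f : G} (hyC : y ∈ centralizer ({z} : Set G)) (hy : orderOf y = 3)
    (ht : Out z Q t) (hty : t * y * t = y⁻¹) (hf : f ∈ centralizer ({y} : Set G))
    (hft : t * f = f * t) (hfo : orderOf f = 5) :
    Nat.card (centralizer ({f} : Set G) ⊓ centralizer ({y} : Set G) : Subgroup G) = 15 := by
  haveI : Fact (Nat.Prime 5) := ⟨Nat.prime_five⟩
  obtain ⟨hK, f₀, hf₀y, hf₀i, hf₀5, hf₀t⟩ := h.card_K hyC hy ht hty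
  have hm : f ∈ zpowers f₀ := prime_unique
    (K := centralizer ({y} : Set G) ⊓ centralizer ({t} : Set G)) (by rw [hK]; norm_num)
    ⟨hf₀y, mem_centralizer_singleton_iff.2 hf₀t.symm⟩ (orderOf_eq_prime hf₀5 hf₀i.1)
    ⟨hf, mem_centralizer_singleton_iff.2 hft.symm⟩ (hfo ▸ pow_orderOf_eq_one f)
  have e : zpowers f = zpowers f₀ := eq_of_le_of_card_ge (zpowers_le.2 hm) (by
    rw [Nat.card_zpowers, Nat.card_zpowers, hfo, orderOf_eq_prime hf₀5 hf₀i.1])
  rw [centralizer_of_zpowers_eq e]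
  exact (h.five_in_X hyC hy hf₀y hf₀i hf₀5).1

/-- An element of order five of the centralizer has an inverted companion of order three. -/
theorem exists_pair {f : G} (hfC : f ∈ centralizer ({z} : Set G)) (hf : orderOf f = 5) :
    ∃ b, YClass b ∧ z * b * z = b⁻¹ ∧ b * f = f * b := by
  haveI : Fact (Nat.Prime 5) := ⟨Nat.prime_five⟩
  haveI : Fact (Nat.Prime 3) := ⟨Nat.prime_three⟩
  obtain ⟨y₀, hy₀⟩ := exists_prime_orderOf_dvd_card' (G := ↥(centralizer ({z} : Set G))) 3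
    (by rw [h.card_C]; norm_num)
  rw [← Subgroup.orderOf_coe] at hy₀
  obtain ⟨y, hyC⟩ := y₀
  replace hy₀ : orderOf y = 3 := hy₀
  obtain ⟨t, ht, hty, f₀, hf₀y, hf₀i, hf₀5, hf₀t⟩ := h.exists_fix_pair hyC hy₀
  obtain ⟨a, ha⟩ := h.exists_conj (h.out_isI ht)
  have hf1C : a⁻¹ * f₀ * a ∈ centralizer ({z} : Set G) := mem_centralizer_singleton_iff.2 (by
    calc a⁻¹ * f₀ * a * z = a⁻¹ * (f₀ * (a * z * a⁻¹)) * a := by group
      _ = a⁻¹ * (a * z * a⁻¹ * f₀) * a := by rw [ha, hf₀t]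
      _ = z * (a⁻¹ * f₀ * a) := by group)
  have hf1 : orderOf (a⁻¹ * f₀ * a) = 5 := by
    rw [show a⁻¹ * f₀ * a = a⁻¹ * f₀ * a⁻¹⁻¹ by group, ← MulAut.conj_apply, MulEquiv.orderOf_eq]
    exact orderOf_eq_prime hf₀5 hf₀i.1
  obtain ⟨c, hc, hce⟩ := h.exists_conj_odd (Or.inr rfl) hf1C hf1 hfC hf
  set b := c * a⁻¹ * y * (c * a⁻¹)⁻¹ with hb
  obtain ⟨n, hn⟩ := mem_zpowers_iff.1 (hce.ge (mem_zpowers f))
  refine ⟨b, ⟨?_, (c * a⁻¹) * z * (c * a⁻¹)⁻¹, isI_conj _ h.isI, ?_⟩, ?_, ?_⟩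
  · rw [hb, ← MulAut.conj_apply, MulEquiv.orderOf_eq, hy₀]
  · refine mem_centralizer_singleton_iff.2 ?_
    rw [hb, show c * a⁻¹ * z * (c * a⁻¹)⁻¹ * (c * a⁻¹ * y * (c * a⁻¹)⁻¹) = c * a⁻¹ * (z * y) * (c * a⁻¹)⁻¹ by group,
      ← mem_centralizer_singleton_iff.1 hyC]
    group
  · have e := inverts_conj (c * a⁻¹) hty
    rwa [show c * a⁻¹ * t * (c * a⁻¹)⁻¹ = c * (a⁻¹ * t * a) * c⁻¹ by group,
      show a⁻¹ * t * a = z by rw [← ha]; group, mem_centralizer_singleton_iff.1 hc, mul_inv_cancel_right] at e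
  · rw [← hn]
    refine (Commute.zpow_right ?_ n).eq
    show b * (c * (a⁻¹ * f₀ * a) * c⁻¹) = c * (a⁻¹ * f₀ * a) * c⁻¹ * b
    rw [hb, show c * a⁻¹ * y * (c * a⁻¹)⁻¹ * (c * (a⁻¹ * f₀ * a) * c⁻¹) = c * a⁻¹ * (y * f₀) * (c * a⁻¹)⁻¹ by group,
      ← mem_centralizer_singleton_iff.1 hf₀y]
    group

theorem five_centralizer {f : G} (hfC : f ∈ centralizer ({z} : Set G)) (hf : orderOf f = 5) :
    ∃ b, FiveData f z b := by
  classical
  haveI : Fact (Nat.Prime 5) := ⟨Nat.prime_five⟩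
  obtain ⟨b, hb, hbi, hbf⟩ := h.exists_pair hfC hf
  have hzf : z * f = f * z := (mem_centralizer_singleton_iff.1 hfC).symm
  set L := centralizer ({f} : Set G) with hL
  have h10 : Nat.card (L ⊓ centralizer ({z} : Set G) : Subgroup G) = 10 := h.card_five hfC hf
  obtain ⟨O, hOL, hOm, hLO, hOn⟩ := exists_odd_half (K := L) (mem_centralizer_singleton_iff.2 hzf) h.inv
    (by rw [h10]; norm_num)
  have hfL : f ∈ L := mem_centralizer_singleton_iff.2 rfl
  have hOC : ∀ p ∈ O, p * z = z * p → p ∈ zpowers f := fun p hp hpz => by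
    have ho := ((hOm p).1 hp).2
    have hd := orderOf_dvd_natCard (L ⊓ centralizer ({z} : Set G) : Subgroup G)
      ⟨hOL hp, mem_centralizer_singleton_iff.2 hpz⟩
    rw [h10] at hd
    exact prime_unique (K := L ⊓ centralizer ({z} : Set G)) (by rw [h10]; norm_num) ⟨hfL, hfC⟩ hf
      ⟨hOL hp, mem_centralizer_singleton_iff.2 hpz⟩
      (orderOf_dvd_iff_pow_eq_one.1 ((Nat.coprime_two_right.2 ho).dvd_of_dvd_mul_left (show _ ∣ 2 * 5 from hd)))
  have hbO : b ∈ O := (hOm b).2 ⟨mem_centralizer_singleton_iff.2 hbf, by rw [hb.1]; decide⟩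
  have hzi : z⁻¹ = z := inv_eq_of_mul_eq_one_right h.zz
  have hzO : ∀ o ∈ O, z * o * z ∈ O := fun o ho => by
    have := hOn z (mem_centralizer_singleton_iff.2 hzf) o ho
    rwa [hzi] at this
  have hodd : ∀ o ∈ O, Odd (orderOf o) := fun o ho => ((hOm o).1 ho).2
  -- an inverted element commutes with `b`
  have hcomm : ∀ d ∈ O, z * d * z = d⁻¹ → d * b = b * d := by
    intro d hd hdi
    obtain ⟨p, hp, e, -, hpe, hpz, hei⟩ :=
      fixed_times_inverted h.zz O hodd (mul_mem hbO hd) (hzO _ (mul_mem hbO hd))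
    obtain ⟨n, hn⟩ := mem_zpowers_iff.1 (hOC p hp hpz.symm)
    have hpc : ∀ a ∈ L, Commute p a := fun a ha => by
      rw [← hn]
      exact (show Commute f a from (mem_centralizer_singleton_iff.1 ha).symm).zpow_left n
    have e1 : b⁻¹ * d⁻¹ = p * e⁻¹ := by
      rw [← hbi, ← hdi, ← invol_conj_mul_map h.zz, hpe, invol_conj_mul_map h.zz,
        (invol_fix_iff h.zz p).2 hpz, hei]
    have e2 : b⁻¹ * d⁻¹ = d⁻¹ * b⁻¹ * (p * p) := by
      have e' : e⁻¹ = d⁻¹ * b⁻¹ * p := by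
        rw [← _root_.mul_inv_rev, hpe, _root_.mul_inv_rev, inv_mul_cancel_right]
      rw [e1, e', (hpc _ (mul_mem (mul_mem (inv_mem (hOL hd)) (inv_mem (hOL hbO))) (hOL hp))).eq, mul_assoc]
    have hp5 : p ^ 5 = 1 := by
      rw [← hn, ← zpow_natCast, ← zpow_mul, mul_comm, zpow_mul, zpow_natCast, ← hf, pow_orderOf_eq_one, one_zpow]
    have hp3 : (p * p) ^ 3 = 1 := by
      have e3 : d * b⁻¹ * d⁻¹ = b⁻¹ * (p * p) := by rw [mul_assoc, e2]; group
      have e4 := congrArg (· ^ 3) e3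
      simp only [conj_pow, ((hpc _ (inv_mem (hOL hbO))).symm.mul_right (hpc _ (inv_mem (hOL hbO))).symm).mul_pow,
        inv_pow, show b ^ 3 = 1 from orderOf_dvd_iff_pow_eq_one.1 hb.1.dvd, inv_one, one_mul, mul_one,
        mul_inv_cancel] at e4
      exact e4.symm
    have hpp : p * p = 1 := orderOf_eq_one_iff.1 (Nat.eq_one_of_dvd_coprimes (by norm_num : Nat.Coprime 5 3)
      (orderOf_dvd_of_pow_eq_one (by rw [(Commute.refl p).mul_pow, hp5, one_mul])) (orderOf_dvd_of_pow_eq_one hp3))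
    rw [hpp, mul_one] at e2
    exact inv_injective (by rw [_root_.mul_inv_rev, _root_.mul_inv_rev, e2])
  have hOb : O ≤ L ⊓ centralizer ({b} : Set G) := fun o ho => by
    refine ⟨hOL ho, mem_centralizer_singleton_iff.2 ?_⟩
    obtain ⟨p, hp, d, hd, rfl, hpz, hdi⟩ := fixed_times_inverted h.zz O hodd ho (hzO o ho)
    obtain ⟨n, hn⟩ := mem_zpowers_iff.1 (hOC p hp hpz.symm)
    have hpb : Commute p b := by rw [← hn]; exact (show Commute f b from hbf.symm).zpow_left n
    exact (hpb.mul_left (show Commute d b from hcomm d hd hdi)).eq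
  -- that group has order fifteen
  have h15 : Nat.card (L ⊓ centralizer ({b} : Set G) : Subgroup G) = 15 := by
    haveI : Fact (Nat.Prime 3) := ⟨Nat.prime_three⟩
    obtain ⟨y₀, hy₀⟩ := exists_prime_orderOf_dvd_card' (G := ↥(centralizer ({z} : Set G))) 3
      (by rw [h.card_C]; norm_num)
    rw [← Subgroup.orderOf_coe] at hy₀
    set y := (y₀ : G)
    obtain ⟨t, ht, hty⟩ := h.exists_inverter (Or.inl rfl) y₀.2 hy₀
    obtain ⟨g, hgb, hgz⟩ := h.yclass_data y₀.2 hy₀ ht hty hb h.isI hbi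
    rw [← h.five_conj y₀.2 hy₀ ht hty (f := g * f * g⁻¹) ?_ ?_ ?_]
    · refine Nat.card_congr ((MulAut.conj g).toEquiv.subtypeEquiv fun a => ?_)
      show _ ↔ g * a * g⁻¹ ∈ _
      rw [hL, mem_inf, mem_inf, ← hgb]
      simp only [mem_centralizer_singleton_iff]
      have key : ∀ w : G, a * w = w * a ↔ g * a * g⁻¹ * (g * w * g⁻¹) = g * w * g⁻¹ * (g * a * g⁻¹) := fun w => by
        rw [show g * a * g⁻¹ * (g * w * g⁻¹) = g * (a * w) * g⁻¹ by group,
          show g * w * g⁻¹ * (g * a * g⁻¹) = g * (w * a) * g⁻¹ by group, mul_left_inj, mul_right_inj]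
      exact and_congr (key f) (key b)
    · refine mem_centralizer_singleton_iff.2 ?_
      rw [← hgb, show g * f * g⁻¹ * (g * b * g⁻¹) = g * (f * b) * g⁻¹ by group, ← hbf]; group
    · rw [← hgz, show g * z * g⁻¹ * (g * f * g⁻¹) = g * (z * f) * g⁻¹ by group, hzf]; group
    · rw [← MulAut.conj_apply, MulEquiv.orderOf_eq, hf]
  have hfO : f ∈ O := (hOm f).2 ⟨hfL, by rw [hf]; decide⟩
  have hfb : orderOf (f * b) = 15 := by
    rw [(show Commute f b from hbf.symm).orderOf_mul_eq_mul_orderOf_of_coprime (by rw [hf, hb.1]; norm_num),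
      hf, hb.1]
  have hOeq : O = zpowers (f * b) := by
    refine (eq_of_le_of_card_ge (zpowers_le.2 (mul_mem hfO hbO)) ?_).symm
    rw [Nat.card_zpowers, hfb, ← h15]
    exact card_le_of_le hOb
  have hrep : ∀ a ∈ O, ∃ i j : ℕ, a = f ^ i * b ^ j := fun a ha => by
    rw [hOeq] at ha
    obtain ⟨n, rfl⟩ := (isOfFinOrder_of_finite _).mem_powers_iff_mem_zpowers.2 ha
    exact ⟨n, n, (show Commute f b from hbf.symm).mul_pow n⟩
  refine ⟨b, ⟨h.isI, hzf, hb, hbi, hbf, ?_, fun a ha ho => hrep a ((hOm a).2 ⟨ha, ho⟩), fun a ha haI => ?_⟩⟩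
  · rw [← hL, hLO, hOeq, Nat.card_zpowers, hfb]
  · have hi : (O.subgroupOf L).index = 2 := by
      have e := (O.subgroupOf L).card_mul_index
      rw [Nat.card_congr (subgroupOfEquivOfLe hOL).toEquiv, hLO, mul_comm 2] at e
      exact Nat.eq_of_mul_eq_mul_left Nat.card_pos e
    have hnot : ∀ w, IsI w → w ∉ O := fun w hw hm => by
      have := hodd w hm
      rw [isI_iff.1 hw] at this
      exact absurd this (by decide)
    have hm : z * a ∈ O := by
      have := (mul_mem_iff_of_index_two hi (a := (⟨z, mem_centralizer_singleton_iff.2 hzf⟩ : L))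
        (b := ⟨a, ha⟩))
      rw [mem_subgroupOf, mem_subgroupOf, mem_subgroupOf] at this
      exact this.2 (iff_of_false (hnot z h.isI) (hnot a haI))
    obtain ⟨i, j, hij⟩ := hrep _ hm
    have hai : a⁻¹ = a := inv_eq_of_mul_eq_one_right haI.1
    have e1 : z * (f ^ i * b ^ j) * z = (f ^ i * b ^ j)⁻¹ := by
      rw [← hij, _root_.mul_inv_rev, hai, hzi, ← mul_assoc, h.zz, one_mul]
    rw [invol_conj_mul_map h.zz, (invol_fix_iff h.zz _).2 ((show Commute z f from hzf).pow_right i).eq,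
      show z * b ^ j * z = (b ^ j)⁻¹ by
        have e := conj_zpow_of_inverts (show z * b * z⁻¹ = b⁻¹ by rw [hzi]; exact hbi) (j : ℤ)
        rwa [hzi, zpow_neg, zpow_natCast] at e,
      _root_.mul_inv_rev, ((show Commute b f from hbf).pow_pow j i).inv_inv.eq] at e1
    have e2 := mul_right_cancel e1
    have hf1 : f ^ i = 1 := eq_one_of_odd_of_mul_self
      ((show Odd (orderOf f) by rw [hf]; decide).of_dvd_nat (orderOf_pow_dvd i))
      (by nth_rw 2 [e2]; exact mul_inv_cancel _)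
    refine ⟨j, ?_⟩
    rw [show a = z * (z * a) by rw [← mul_assoc, h.zz, one_mul], hij, hf1, one_mul]

/-- An element of order five centralises an involution. -/
theorem five_conj_C {x : G} (hx : orderOf x = 5) : ∃ g : G, g * x * g⁻¹ ∈ centralizer ({z} : Set G) := by
  haveI : Fact (Nat.Prime 5) := ⟨Nat.prime_five⟩
  obtain ⟨f₀, hf₀⟩ := exists_prime_orderOf_dvd_card' (G := ↥(centralizer ({z} : Set G))) 5
    (by rw [h.card_C]; norm_num)
  rw [← Subgroup.orderOf_coe] at hf₀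
  set f := (f₀ : G)
  obtain ⟨b, D⟩ := h.five_centralizer f₀.2 hf₀
  obtain ⟨P, hP⟩ := (IsPGroup.of_card (p := 5) (n := 1) (G := zpowers f)
    (by rw [Nat.card_zpowers, hf₀, pow_one])).exists_le_sylow
  obtain ⟨Px, hPx⟩ := (IsPGroup.of_card (p := 5) (n := 1) (G := zpowers x)
    (by rw [Nat.card_zpowers, hx, pow_one])).exists_le_sylow
  have hfP : f ∈ (P : Subgroup G) := hP (mem_zpowers f)
  haveI : Nontrivial (P : Subgroup G) :=
    ⟨⟨⟨f, hfP⟩, 1, fun e => by
      have : f = 1 := congrArg Subtype.val e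
      rw [this, orderOf_one] at hf₀; norm_num at hf₀⟩⟩
  haveI := P.2.center_nontrivial
  obtain ⟨c, hc⟩ : ∃ c : center (P : Subgroup G), orderOf c = 5 := by
    refine exists_prime_orderOf_dvd_card' 5 ?_
    obtain ⟨j, hj⟩ := (P.isPGroup'.to_subgroup (center (P : Subgroup G))).exists_card_eq
    rcases j with _ | j
    · have := Finite.one_lt_card (α := center (P : Subgroup G))
      rw [hj] at this; norm_num at this
    · rw [hj]; exact dvd_pow_self 5 (Nat.succ_ne_zero j)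
  set cG := ((c.1 : (P : Subgroup G)) : G)
  have hcG : orderOf cG = 5 := by rw [Subgroup.orderOf_coe, Subgroup.orderOf_coe]; exact hc
  have hcf : cG * f = f * cG :=
    (congrArg Subtype.val (mem_center_iff.1 c.2 ⟨f, hfP⟩) : f * cG = cG * f).symm
  obtain ⟨i, j, hij⟩ := D.odd cG (mem_centralizer_singleton_iff.2 hcf) (by rw [hcG]; decide)
  have hcm : cG ∈ zpowers f := by
    have h5 : cG ^ 5 = 1 := orderOf_dvd_iff_pow_eq_one.1 hcG.dvd
    rw [hij, ((show Commute f b from D.commb.symm).pow_pow i j).mul_pow, ← pow_mul, mul_comm i, pow_mul,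
      show f ^ 5 = 1 from orderOf_dvd_iff_pow_eq_one.1 hf₀.dvd, one_pow, one_mul] at h5
    have : b ^ j = 1 := orderOf_eq_one_iff.1 (Nat.eq_one_of_dvd_coprimes (by norm_num : Nat.Coprime 5 3)
      (orderOf_dvd_of_pow_eq_one h5) (D.yclass.1 ▸ orderOf_pow_dvd j))
    rw [hij, this, mul_one]
    exact npow_mem_zpowers f i
  have hPle : (P : Subgroup G) ≤ centralizer ({f} : Set G) := fun u hu => by
    have e : zpowers cG = zpowers f := eq_of_le_of_card_ge (zpowers_le.2 hcm) (by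
      rw [Nat.card_zpowers, Nat.card_zpowers, hcG, hf₀])
    rw [← centralizer_of_zpowers_eq e]
    exact mem_centralizer_singleton_iff.2
      (congrArg Subtype.val (mem_center_iff.1 c.2 ⟨u, hu⟩) : u * cG = cG * u)
  have hP5 : (P : Subgroup G) = zpowers f := by
    refine (eq_of_le_of_card_ge hP ?_).symm
    rw [Nat.card_zpowers, hf₀]
    obtain ⟨n, hn⟩ := IsPGroup.iff_card.1 P.isPGroup'
    have hd := card_dvd_of_le hPle
    rw [hn, D.card] at hd
    have hn1 : n ≤ 1 := by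
      by_contra hn1
      exact absurd ((pow_dvd_pow 5 (show 2 ≤ n by omega)).trans hd) (by norm_num)
    rw [hn]
    exact (Nat.pow_le_pow_right (by norm_num) hn1).trans (by norm_num)
  obtain ⟨g, hg⟩ := MulAction.exists_smul_eq G Px P
  refine ⟨g, zpowers_le.2 f₀.2 ?_⟩
  rw [← hP5, ← hg, Sylow.coe_subgroup_smul]
  exact ⟨x, hPx (mem_zpowers x), rfl⟩

theorem five_data {x : G} (hx : orderOf x = 5) : ∃ u b, FiveData x u b := by
  obtain ⟨g, hg⟩ := h.five_conj_C hx
  have hgo : orderOf (g * x * g⁻¹) = 5 := by rw [← MulAut.conj_apply, MulEquiv.orderOf_eq, hx]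
  obtain ⟨b, D⟩ := h.five_centralizer hg hgo
  have e1 : g⁻¹ * (g * x * g⁻¹) * g = x := by group
  have key : ∀ a, g * a * g⁻¹ ∈ centralizer ({g * x * g⁻¹} : Set G) ↔ a ∈ centralizer ({x} : Set G) := fun a => by
    rw [mem_centralizer_singleton_iff, mem_centralizer_singleton_iff,
      show g * a * g⁻¹ * (g * x * g⁻¹) = g * (a * x) * g⁻¹ by group,
      show g * x * g⁻¹ * (g * a * g⁻¹) = g * (x * a) * g⁻¹ by group, mul_left_inj, mul_right_inj]
  refine ⟨g⁻¹ * z * g, g⁻¹ * b * g, ?_, ?_, ⟨?_, ?_⟩, ?_, ?_, ?_, fun a ha ho => ?_, fun a ha hI => ?_⟩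
  · have := isI_conj g⁻¹ h.isI; rwa [inv_inv] at this
  · rw [← e1, show g⁻¹ * z * g * (g⁻¹ * (g * x * g⁻¹) * g) = g⁻¹ * (z * (g * x * g⁻¹)) * g by group, D.comm]
    group
  · rw [show g⁻¹ * b * g = g⁻¹ * b * g⁻¹⁻¹ by group, ← MulAut.conj_apply, MulEquiv.orderOf_eq, D.yclass.1]
  · obtain ⟨w, hw, hwb⟩ := D.yclass.2
    refine ⟨g⁻¹ * w * g, by have := isI_conj g⁻¹ hw; rwa [inv_inv] at this, mem_centralizer_singleton_iff.2 ?_⟩
    rw [show g⁻¹ * w * g * (g⁻¹ * b * g) = g⁻¹ * (w * b) * g by group, mem_centralizer_singleton_iff.1 hwb]; group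
  · have := inverts_conj g⁻¹ D.inv
    rwa [inv_inv] at this
  · rw [← e1, show g⁻¹ * b * g * (g⁻¹ * (g * x * g⁻¹) * g) = g⁻¹ * (b * (g * x * g⁻¹)) * g by group, D.commb]
    group
  · rw [← D.card]
    exact Nat.card_congr ((MulAut.conj g).toEquiv.subtypeEquiv fun a => (key a).symm)
  · obtain ⟨i, j, hij⟩ := D.odd _ ((key a).2 ha) (by rw [← MulAut.conj_apply, MulEquiv.orderOf_eq]; exact ho)
    refine ⟨i, j, ?_⟩
    calc a = g⁻¹ * (g * a * g⁻¹) * g := by group
      _ = g⁻¹ * ((g * x * g⁻¹) ^ i * b ^ j) * g := by rw [hij]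
      _ = _ := by
        rw [show g⁻¹ * b * g = g⁻¹ * b * g⁻¹⁻¹ by group, conj_pow, conj_pow]; group
  · obtain ⟨j, hj⟩ := D.invol _ ((key a).2 ha) (isI_conj g hI)
    refine ⟨j, ?_⟩
    calc a = g⁻¹ * (g * a * g⁻¹) * g := by group
      _ = g⁻¹ * (z * b ^ j) * g := by rw [hj]
      _ = _ := by
        rw [show g⁻¹ * b * g = g⁻¹ * b * g⁻¹⁻¹ by group, conj_pow]; group

end Big

end CfsgLib.Invol.JThreeType
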