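import Cfsg.Agent.Lib.Invol.InvertedOdd
import Cfsg.Agent.Lib.Invol.CyclicCentralizer

/-!
# An involution acting on groups of odd order
-/

set_option autoImplicit false

namespace CfsgLib.Invol.JThreeType

open Subgroup

variable {G : Type*} [Group G] {z : G}

/-- Conjugation by an involution, as a map. -/
theorem invol_conj_mul_map (hz : z * z = 1) (a b : G) : z * (a * b) * z = z * a * z * (z * b * z) := by
  rw [show z * a * z * (z * b * z) = z * a * (z * z) * b * z by group, hz]
  group

/-- Conjugation by an involution commutes with inversion. -/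
theorem invol_conj_inv_map (hz : z * z = 1) (a : G) : z * a⁻¹ * z = (z * a * z)⁻¹ := by
  rw [_root_.mul_inv_rev, _root_.mul_inv_rev, inv_eq_of_mul_eq_one_right hz]
  group

/-- Conjugation by an involution is an involution. -/
theorem invol_conj_twice (hz : z * z = 1) (a : G) : z * (z * a * z) * z = a := by
  rw [show z * (z * a * z) * z = z * z * a * (z * z) by group, hz, one_mul, mul_one]

/-- Being fixed and commuting are the same. -/
theorem invol_fix_iff (hz : z * z = 1) (a : G) : z * a * z = a ↔ z * a = a * z := by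
  constructor
  · intro h
    nth_rw 2 [← h]
    rw [mul_assoc (z * a), hz, mul_one]
  · intro h
    rw [h, mul_assoc, hz, mul_one]

/-- The square root in a cyclic group of odd order of an inverted element is inverted. -/
theorem fixed_times_inverted (hz : z * z = 1) (H : Subgroup G) (hodd : ∀ h ∈ H, Odd (orderOf h))
    {a : G} (ha : a ∈ H) (hza : z * a * z ∈ H) :
    ∃ p ∈ H, ∃ d ∈ H, a = p * d ∧ z * p = p * z ∧ z * d * z = d⁻¹ := by
  set e := (z * a * z)⁻¹ * a with he
  have heH : e ∈ H := mul_mem (inv_mem hza) ha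
  obtain ⟨d, hd, hdd⟩ := exists_sqrt_of_odd (hodd e heH)
  have hdH : d ∈ H := (zpowers_le.2 heH) hd
  have hez : z * e * z = e⁻¹ := by
    rw [he, invol_conj_mul_map hz, invol_conj_inv_map hz, invol_conj_twice hz, _root_.mul_inv_rev,
      inv_inv]
  have hdz : z * d * z = d⁻¹ := by
    obtain ⟨k, rfl⟩ := mem_zpowers_iff.1 hd
    have hzi : z⁻¹ = z := inv_eq_of_mul_eq_one_right hz
    have := conj_zpow_of_inverts (x := z) (a := e) (by rw [hzi]; exact hez) k
    rwa [hzi, zpow_neg] at this
  refine ⟨a * d⁻¹, mul_mem ha (inv_mem hdH), d, hdH, (inv_mul_cancel_right a d).symm, ?_, hdz⟩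
  rw [← invol_fix_iff hz, invol_conj_mul_map hz, invol_conj_inv_map hz, hdz, inv_inv]
  calc z * a * z * d = z * a * z * (d * d) * d⁻¹ := by group
    _ = a * d⁻¹ := by rw [hdd, he]; group

/-- An involution without fixed points on a group of odd order inverts it. -/
theorem fixfree_inverts (hz : z * z = 1) (H : Subgroup G) (hodd : ∀ h ∈ H, Odd (orderOf h))
    (hn : ∀ h ∈ H, z * h * z ∈ H) (hfix : ∀ h ∈ H, z * h = h * z → h = 1) :
    (∀ h ∈ H, z * h * z = h⁻¹) ∧ ∀ a ∈ H, ∀ b ∈ H, a * b = b * a := by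
  have hinv : ∀ h ∈ H, z * h * z = h⁻¹ := by
    intro h hh
    obtain ⟨p, hp, d, -, rfl, hpz, hdz⟩ := fixed_times_inverted hz H hodd hh (hn h hh)
    rw [hfix p hp hpz, one_mul, hdz]
  refine ⟨hinv, fun a ha b hb => inv_injective ?_⟩
  rw [← hinv _ (mul_mem ha hb), invol_conj_mul_map hz, hinv a ha, hinv b hb, _root_.mul_inv_rev]

/-- An inverted element conjugating an inverted element to an inverted one commutes with it. -/
theorem inverted_comm (hz : z * z = 1) {g v : G} (hg : z * g * z = g⁻¹) (ho : Odd (orderOf g))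
    (hv : z * v * z = v⁻¹) (hgv : z * (g * v * g⁻¹) * z = (g * v * g⁻¹)⁻¹) : g * v = v * g := by
  rw [invol_conj_mul_map hz, invol_conj_mul_map hz, invol_conj_inv_map hz, hg, hv, inv_inv] at hgv
  have h2 : Commute (g * g) v := by
    refine Commute.symm (show v * (g * g) = g * g * v from ?_)
    have h := congrArg (·⁻¹) hgv
    simp only [_root_.mul_inv_rev, inv_inv] at h
    -- `h : g⁻¹ * (v * g) = g * v * g⁻¹`
    calc v * (g * g) = g * (g⁻¹ * (v * g)) * g := by group
      _ = g * (g * v * g⁻¹) * g := by rw [h]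
      _ = g * g * v := by group
  obtain ⟨k, hk, hkk⟩ := exists_sqrt_of_odd ho
  obtain ⟨j, rfl⟩ := mem_zpowers_iff.1 hk
  have e : g = (g * g) ^ j := by
    rw [(Commute.refl g).mul_zpow, hkk]
  rw [e]
  exact (h2.zpow_left j).eq

section finite

variable [Finite G]

/-- A subgroup in which an involution has centralizer of twice odd order has its elements of odd order
forming a subgroup of index two. -/
theorem exists_odd_half {K : Subgroup G} (hzK : z ∈ K) (hz : orderOf z = 2)
    (h4 : ¬ 4 ∣ Nat.card (K ⊓ centralizer ({z} : Set G) : Subgroup G)) :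
    ∃ O ≤ K, (∀ k, k ∈ O ↔ k ∈ K ∧ Odd (orderOf k)) ∧ Nat.card K = 2 * Nat.card O ∧
      ∀ k ∈ K, ∀ o ∈ O, k * o * k⁻¹ ∈ O := by
  classical
  haveI : Fact (Nat.Prime 2) := ⟨Nat.prime_two⟩
  set zK : K := ⟨z, hzK⟩
  have hzo : orderOf zK = 2 := by rw [← Subgroup.orderOf_coe]; exact hz
  obtain ⟨S, hS⟩ := (IsPGroup.of_card (p := 2) (n := 1) (G := zpowers zK)
    (by rw [Nat.card_zpowers, hzo, pow_one])).exists_le_sylow
  have hzS : zK ∈ (S : Subgroup K) := hS (mem_zpowers _)
  haveI : Nontrivial (S : Subgroup K) :=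
    ⟨⟨_, hzS⟩, 1, fun e => invol_ne_one hz (congrArg (fun s : (S : Subgroup K) => ((s : K) : G)) e)⟩
  haveI := S.2.center_nontrivial
  obtain ⟨n, hn⟩ := IsPGroup.iff_card.1 S.isPGroup'
  -- a central involution of the Sylow subgroup
  obtain ⟨c, hc⟩ : ∃ c : center (S : Subgroup K), orderOf c = 2 := by
    refine exists_prime_orderOf_dvd_card' 2 ?_
    obtain ⟨j, hj⟩ := (S.isPGroup'.to_subgroup (center (S : Subgroup K))).exists_card_eq
    rcases j with _ | j
    · have := Finite.one_lt_card (α := center (S : Subgroup K))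
      rw [hj] at this; norm_num at this
    · rw [hj]; exact dvd_pow_self 2 (Nat.succ_ne_zero j)
  have hcen : ∀ s : (S : Subgroup K), ((s : K) : G) * ((c.1 : K) : G) = ((c.1 : K) : G) * ((s : K) : G) :=
    fun s => congrArg (fun s : (S : Subgroup K) => ((s : K) : G)) (mem_center_iff.1 c.2 s)
  have hle : (S : Subgroup K) ≤ (centralizer ({((c.1 : K) : G)} : Set G)).subgroupOf K := fun s hs =>
    mem_subgroupOf.2 (mem_centralizer_singleton_iff.2 (hcen ⟨s, hs⟩))
  have hD : ((c.1 : K) : G) ∈ K ⊓ centralizer ({z} : Set G) :=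
    ⟨(c.1 : K).2, mem_centralizer_singleton_iff.2 (hcen ⟨_, hzS⟩).symm⟩
  have hzD : z ∈ K ⊓ centralizer ({z} : Set G) := ⟨hzK, mem_centralizer_singleton_iff.2 rfl⟩
  have hco : orderOf ((c.1 : K) : G) = 2 := by
    rw [Subgroup.orderOf_coe, Subgroup.orderOf_coe, Subgroup.orderOf_coe]; exact hc
  have hcz : ((c.1 : K) : G) = z := by
    by_contra hne
    refine h4 ?_
    set a := ((c.1 : K) : G)
    set D := K ⊓ centralizer ({z} : Set G)
    have hza : a * z = z * a := mem_centralizer_singleton_iff.1 hD.2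
    let aD : D := ⟨a, hD⟩
    let zD : D := ⟨z, hzD⟩
    haveI : (zpowers zD).Normal := ⟨fun x hx g => by
      obtain ⟨k, rfl⟩ := mem_zpowers_iff.1 hx
      have hg : Commute g zD := Subtype.ext (mem_centralizer_singleton_iff.1 g.2.2)
      rw [(hg.zpow_right k).eq, mul_inv_cancel_right]
      exact zpow_mem (mem_zpowers zD) k⟩
    have ho : orderOf (QuotientGroup.mk' (zpowers zD) aD) = 2 := by
      refine orderOf_eq_prime ?_ fun e => ?_
      · rw [← map_pow, show aD ^ 2 = 1 from Subtype.ext (by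
          show a ^ 2 = 1
          rw [pow_two]; exact invol_mul_self hco), map_one]
      · obtain ⟨k, hk⟩ := mem_zpowers_iff.1 ((QuotientGroup.eq_one_iff aD).1 e)
        have hk' : z ^ k = a := by rw [show z = ((zD : D) : G) from rfl, ← SubgroupClass.coe_zpow, hk]
        rcases Int.even_or_odd' k with ⟨j, rfl | rfl⟩
        · rw [zpow_mul, zpow_two, invol_mul_self hz, one_zpow] at hk'
          exact invol_ne_one hco hk'.symm
        · rw [zpow_add, zpow_mul, zpow_two, invol_mul_self hz, one_zpow, one_mul, zpow_one] at hk'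
          exact hne hk'.symm
    have h2 : orderOf (QuotientGroup.mk' (zpowers zD) aD) ∣ (zpowers zD).index := by
      rw [index_eq_card]; exact _root_.orderOf_dvd_natCard _
    rw [← (zpowers zD).card_mul_index, Nat.card_zpowers, show orderOf zD = 2 by
      rw [← Subgroup.orderOf_coe]; exact hz, show (4 : ℕ) = 2 * 2 from rfl]
    exact mul_dvd_mul_left 2 (ho ▸ h2)
  have hS2 : Nat.card (S : Subgroup K) = 2 := by
    have h1 : Nat.card (S : Subgroup K) ∣ Nat.card (K ⊓ centralizer ({z} : Set G) : Subgroup G) := by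
      have h := card_dvd_of_le hle
      rwa [hcz, ← inf_subgroupOf_left, Nat.card_congr (subgroupOfEquivOfLe inf_le_left).toEquiv] at h
    rw [hn] at h1 ⊢
    rcases n with _ | _ | n
    · exfalso
      have := orderOf_dvd_natCard _ hzS
      rw [hzo, hn] at this
      norm_num at this
    · rfl
    · exact absurd ((pow_dvd_pow 2 (show 2 ≤ n + 2 by omega)).trans h1) h4
  haveI : IsCyclic (S : Subgroup K) := isCyclic_of_prime_card hS2
  have heven : Even (Nat.card K) := even_iff_two_dvd.2 (hzo ▸ _root_.orderOf_dvd_natCard zK)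
  obtain ⟨H, hH⟩ := exists_index_two_of_cyclic heven S inferInstance
  haveI := H.normal_of_index_eq_two hH
  have hHodd : Odd (Nat.card H) := by
    rw [← Nat.not_even_iff_odd, even_iff_two_dvd]
    intro hd
    have h4' : 4 ∣ Nat.card K := by
      rw [← H.card_mul_index, hH]; exact mul_dvd_mul_right hd 2
    have h := S.not_dvd_index
    obtain ⟨q, hq⟩ := h4'
    refine h ⟨q, ?_⟩
    have := (S : Subgroup K).card_mul_index
    rw [hS2, hq] at this
    omega
  refine ⟨H.map K.subtype, map_subtype_le H, fun k => ⟨?_, ?_⟩, ?_, ?_⟩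
  · rintro ⟨o, ho, rfl⟩
    exact ⟨o.2, by rw [Subgroup.subtype_apply, Subgroup.orderOf_coe]; exact hHodd.of_dvd_nat (orderOf_dvd_natCard _ ho)⟩
  · rintro ⟨hk, ho⟩
    obtain ⟨r, hr, hrr⟩ := exists_sqrt_of_odd (x := (⟨k, hk⟩ : K)) (by rwa [Subgroup.orderOf_mk])
    exact ⟨⟨k, hk⟩, hrr ▸ (Subgroup.sq_mem_of_index_two hH r |> fun h => by rwa [pow_two] at h), rfl⟩
  · rw [Nat.card_congr (H.equivMapOfInjective _ K.subtype_injective).toEquiv.symm, mul_comm, ← hH,
      H.card_mul_index]
  · rintro k hk _ ⟨o, ho, rfl⟩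
    exact ⟨⟨k, hk⟩ * o * ⟨k, hk⟩⁻¹, (inferInstance : H.Normal).conj_mem o ho _, rfl⟩

end finite

end CfsgLib.Invol.JThreeType
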