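import Cfsg.Agent.Lib.Invol.JTwo.Twist
import Cfsg.Agent.Lib.Invol.JTwo.ThreeBase
import Cfsg.Agent.Lib.Invol.JThreeType.Tools

/-!
# A group of third Janko type
-/

set_option autoImplicit false

namespace CfsgLib.Invol.JThreeType

open Subgroup
open CfsgLib.Invol.JTwo (PreHyp Frame Out cj mem_cj mem_centralizer_conj card_orbit_mul)

/-- The hypothesis: the centralizer of `Hall–Janko` kind and one class of involutions. -/
structure Hyp {G : Type*} [Group G] (z : G) (Q : Subgroup G) : Prop extends PreHyp z Q where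
  one : ∀ u : G, orderOf u = 2 → IsConj z u

/-- An involution. -/
def IsI {G : Type*} [Group G] (t : G) : Prop := t * t = 1 ∧ t ≠ 1

/-- A nontrivial element of odd order inverted by the involution. -/
def IsInv {G : Type*} [Group G] (z x : G) : Prop := x ≠ 1 ∧ Odd (orderOf x) ∧ z * x * z = x⁻¹

theorem isI_iff {G : Type*} [Group G] {t : G} : IsI t ↔ orderOf t = 2 := invol_iff.symm

theorem isI_conj {G : Type*} [Group G] {t : G} (g : G) (ht : IsI t) : IsI (g * t * g⁻¹) :=
  isI_iff.2 (invol_conj (isI_iff.1 ht) g)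

namespace Hyp

variable {G : Type*} [Group G] {z : G} {Q : Subgroup G} (h : Hyp z Q)
include h

theorem isI : IsI z := isI_iff.2 h.inv

theorem conj (g : G) : Hyp (g * z * g⁻¹) (cj g Q) where
  toPreHyp := h.toPreHyp.conj g
  one := fun u hu => (isConj_iff.2 ⟨g⁻¹, by group⟩ : IsConj (g * z * g⁻¹) z).trans (h.one u hu)

theorem exists_conj {u : G} (hu : IsI u) : ∃ g : G, g * z * g⁻¹ = u :=
  isConj_iff.1 (h.one u (isI_iff.1 hu))

theorem out_isI {x : G} (hx : Out z Q x) : IsI x := ⟨hx.2.2, hx.ne_one⟩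

theorem out_ne_z {x : G} (hx : Out z Q x) : x ≠ z := fun e => hx.2.1 (e ▸ h.zmem)

section finite

variable [Finite G]

/-- The order is the number of involutions times 1920. -/
theorem card_group : Nat.card G = 1920 * Nat.card {t : G // IsI t} := by
  have e := card_orbit_mul (⊤ : Subgroup G) z
  rw [top_inf_eq, card_top, h.card_C] at e
  rw [← e, mul_comm]
  congr 1
  refine Nat.card_congr (Equiv.subtypeEquivRight fun y => ⟨?_, fun hy => ?_⟩)
  · rintro ⟨c, -, rfl⟩
    exact isI_conj c h.isI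
  · obtain ⟨g, hg⟩ := h.exists_conj hy
    exact ⟨g, mem_top g, hg⟩

/-- The intersection with the centralizer of a commuting involution tells its type. -/
theorem card_meet {u : G} (hu : IsI u) (huz : u ≠ z) (huC : u ∈ centralizer ({z} : Set G)) :
    (u ∈ Q → Nat.card (centralizer ({z} : Set G) ⊓ centralizer ({u} : Set G) : Subgroup G) = 192) ∧
    (u ∉ Q → Nat.card (centralizer ({z} : Set G) ⊓ centralizer ({u} : Set G) : Subgroup G) = 16) :=
  ⟨fun hq => (h.card_pair hq hu.1 hu.2 huz).2, fun hq => (h.outer_class ⟨huC, hq, hu.1⟩).1⟩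

/-- The type is symmetric. -/
theorem type_iff {g : G} (hne : g * z * g⁻¹ ≠ z) (hc : g * z * g⁻¹ ∈ centralizer ({z} : Set G)) :
    g⁻¹ * z * g ∈ Q ↔ g * z * g⁻¹ ∈ Q := by
  set w := g⁻¹ * z * g with hw
  have hwI : IsI w := by
    have := isI_conj g⁻¹ h.isI
    rwa [inv_inv] at this
  have hwz : w ≠ z := fun e => hne (by
    calc g * z * g⁻¹ = g * w * g⁻¹ := by rw [e]
      _ = z := by rw [hw]; group)
  have hwC : w ∈ centralizer ({z} : Set G) := mem_centralizer_singleton_iff.2 (by
    have e := mem_centralizer_singleton_iff.1 hc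
    calc w * z = g⁻¹ * (z * (g * z * g⁻¹)) * g := by rw [hw]; group
      _ = g⁻¹ * (g * z * g⁻¹ * z) * g := by rw [e]
      _ = z * w := by rw [hw]; group)
  have e : Nat.card (centralizer ({z} : Set G) ⊓ centralizer ({g * z * g⁻¹} : Set G) : Subgroup G) =
      Nat.card (centralizer ({z} : Set G) ⊓ centralizer ({w} : Set G) : Subgroup G) := by
    have e' : Nat.card ((centralizer ({z} : Set G) ⊓ centralizer ({w} : Set G)).map (MulAut.conj g).toMonoidHom) =
        Nat.card (centralizer ({z} : Set G) ⊓ centralizer ({w} : Set G) : Subgroup G) :=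
      card_map_of_injective (MulAut.conj g).injective
    rw [← e']
    congr 2
    refine le_antisymm (fun c hc => ?_) ?_
    · refine ⟨g⁻¹ * c * g, ⟨mem_centralizer_conj.1 hc.2, mem_centralizer_singleton_iff.2 ?_⟩, by simp [mul_assoc]⟩
      have e := mem_centralizer_singleton_iff.1 hc.1
      calc g⁻¹ * c * g * w = g⁻¹ * (c * z) * g := by rw [hw]; group
        _ = g⁻¹ * (z * c) * g := by rw [e]
        _ = w * (g⁻¹ * c * g) := by rw [hw]; group
    · rintro _ ⟨c, hc, rfl⟩
      have e := mem_centralizer_singleton_iff.1 hc.2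
      refine ⟨mem_centralizer_singleton_iff.2 ?_, mem_centralizer_conj.2 ?_⟩
      · show g * c * g⁻¹ * z = z * (g * c * g⁻¹)
        calc g * c * g⁻¹ * z = g * (c * w) * g⁻¹ := by rw [hw]; group
          _ = g * (w * c) * g⁻¹ := by rw [e]
          _ = z * (g * c * g⁻¹) := by rw [hw]; group
      · show g⁻¹ * (g * c * g⁻¹) * g ∈ _
        rw [show g⁻¹ * (g * c * g⁻¹) * g = c by group]
        exact hc.1
  obtain ⟨a1, a2⟩ := h.card_meet (isI_conj g h.isI) hne hc
  obtain ⟨b1, b2⟩ := h.card_meet hwI hwz hwC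
  constructor
  · intro hq
    by_contra hn
    rw [b1 hq, a2 hn] at e
    norm_num at e
  · intro hq
    by_contra hn
    rw [b2 hn, a1 hq] at e
    norm_num at e

/-- A point of the centre of a conjugate of a four-group. -/
theorem exists_point : ∃ p ∈ Q, p * p = 1 ∧ p ≠ 1 ∧ p ≠ z := by
  obtain ⟨F⟩ := h.exists_frame
  exact ⟨F.p 0, F.mem 0, F.inv 0, F.ne_one 0, F.ne_z 0⟩

end finite

end Hyp

end CfsgLib.Invol.JThreeType
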