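import Cfsg.Agent.Lib.Invol.JThreeType.Local

/-!
# The involutions inverting an element of order three of the centralizer
-/

set_option autoImplicit false
set_option synthInstance.maxSize 4096

namespace CfsgLib.Invol.JThreeType

open Subgroup
open CfsgLib.Invol.JTwo (PreHyp Frame Out cj mem_cj mem_centralizer_conj nc_eq_false card_orbit_mul)

local notation "A" => alternatingGroup (Fin 5)

theorem no_common_point : ∀ a : {a : A // a * a = 1 ∧ a ≠ 1}, ∀ g : {g : A // g * g * g = 1 ∧ g ≠ 1},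
    a.1 * g.1 * a.1 = g.1⁻¹ → ∀ k, JTwo.AltFive.act g.1 k = k → JTwo.AltFive.act a.1 k = k → False := by
  decide +kernel

/-- An element of order three centralising an involution. -/
def YClass {G : Type*} [Group G] (x : G) : Prop :=
  orderOf x = 3 ∧ ∃ u, IsI u ∧ u ∈ centralizer ({x} : Set G)

theorem inverts_conj {G : Type*} [Group G] {t x : G} (g : G) (htx : t * x * t = x⁻¹) :
    g * t * g⁻¹ * (g * x * g⁻¹) * (g * t * g⁻¹) = (g * x * g⁻¹)⁻¹ := by
  rw [show g * t * g⁻¹ * (g * x * g⁻¹) * (g * t * g⁻¹) = g * (t * x * t) * g⁻¹ by group, htx]; group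

namespace Hyp

variable {G : Type*} [Group G] [Finite G] {z : G} {Q : Subgroup G} (h : Hyp z Q) {y : G}
  (hyC : y ∈ centralizer ({z} : Set G)) (hy : orderOf y = 3) {t : G} (ht : Out z Q t) (hty : t * y * t = y⁻¹)
include h hyC hy ht hty

theorem out_fixed {q : G} (hq : q ∈ Q) (hqy : q * y = y * q) (htq : t * q = q * t) : q = 1 ∨ q = z := by
  obtain ⟨F⟩ := h.exists_frame
  have hfy := (h.commute_iff_fix F hyC (by rw [hy]; decide) hq).1 hqy
  have e : t * q * t = q := (invol_fix_iff ht.2.2 q).2 htq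
  have hft : JTwo.AltFive.Fix (F.π ⟨t, ht.1⟩) (F.chi q) := (h.fix_mod_iff F ⟨t, ht.1⟩ hq).1 (Or.inl (by
    show t * q * t⁻¹ = q
    rw [inv_eq_of_mul_eq_one_right ht.2.2, e]))
  have hqq : q * q = 1 := by
    have := (h.inverted_iff_fix F ht hq).2 hft
    rw [e] at this
    nth_rw 2 [this]; exact mul_inv_cancel q
  by_contra hne
  push Not at hne
  obtain ⟨k, hk⟩ := F.all q hq hqq hne.1 hne.2
  have hc : F.chi q = JTwo.AltFive.co k := by
    rcases hk with rfl | rfl
    · exact F.chi_p k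
    · rw [h.chi_mul_z F (F.mem k)]; exact F.chi_p k
  rw [hc, fix_co_iff] at hfy hft
  refine no_common_point ⟨_, h.pi_invol F ht⟩ ⟨_, h.pi_three hyC hy F⟩ ?_ k hfy hft
  show F.π ⟨t, ht.1⟩ * F.π ⟨y, hyC⟩ * F.π ⟨t, ht.1⟩ = (F.π ⟨y, hyC⟩)⁻¹
  rw [← map_mul, ← map_mul, ← map_inv]
  exact congrArg F.π (Subtype.ext hty)

/-- The part of the centralizer of `y` in `C` fixed by an inverter. -/
theorem out_fixed_X {s : G} (hs : s ∈ centralizer ({y} : Set G)) (hsC : s ∈ centralizer ({z} : Set G))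
    (hst : t * s = s * t) : s = 1 ∨ s = z := by
  obtain ⟨i, q, hq, hqy, rfl⟩ := h.three_prod hyC hy hs hsC
  have hti : t⁻¹ = t := inv_eq_of_mul_eq_one_right ht.2.2
  have hyt : t * y ^ (i : ℕ) * t = (y ^ (i : ℕ))⁻¹ := by
    have := conj_zpow_of_inverts (show t * y * t⁻¹ = y⁻¹ by rw [hti, hty]) ((i : ℕ) : ℤ)
    rwa [hti, zpow_neg, zpow_natCast] at this
  have htq : t * q * t ∈ Q := by
    have := h.nrm t ht.1 q hq
    rwa [hti] at this
  have e : t * (y ^ (i : ℕ) * q) * t = y ^ (i : ℕ) * q := (invol_fix_iff ht.2.2 _).2 hst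
  rw [invol_conj_mul_map ht.2.2, hyt] at e
  have e2 : t * q * t * q⁻¹ = y ^ (i : ℕ) * y ^ (i : ℕ) := by
    calc t * q * t * q⁻¹ = y ^ (i : ℕ) * ((y ^ (i : ℕ))⁻¹ * (t * q * t)) * q⁻¹ := by group
      _ = y ^ (i : ℕ) * y ^ (i : ℕ) := by rw [e]; group
  have hd := orderOf_dvd_natCard Q (mul_mem htq (inv_mem hq))
  rw [e2, h.card] at hd
  have h3 : (y ^ (i : ℕ) * y ^ (i : ℕ)) ^ 3 = 1 := by
    rw [← pow_add, ← pow_mul, mul_comm, pow_mul, show y ^ 3 = 1 from orderOf_dvd_iff_pow_eq_one.1 hy.dvd, one_pow]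
  have h1 : y ^ (i : ℕ) * y ^ (i : ℕ) = 1 := orderOf_eq_one_iff.1
    (Nat.eq_one_of_dvd_coprimes (by norm_num : Nat.Coprime 32 3) hd (orderOf_dvd_of_pow_eq_one h3))
  have hi1 : y ^ (i : ℕ) = 1 := eq_one_of_odd_of_mul_self
    ((show Odd (orderOf y) by rw [hy]; decide).of_dvd_nat (orderOf_pow_dvd _)) h1
  rw [hi1, one_mul] at hst ⊢
  exact h.out_fixed hyC hy ht hty hq hqy hst

/-- The centralizer of `y` in `C` is transitive on the inverters. -/
theorem inverters_orbit {u : G} (hu : Out z Q u) (huy : u * y * u = y⁻¹) :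
    ∃ s ∈ centralizer ({y} : Set G), s ∈ centralizer ({z} : Set G) ∧ s * t * s⁻¹ = u := by
  classical
  set D := centralizer ({y} : Set G) ⊓ centralizer ({z} : Set G) with hD
  have hcard : Nat.card D = 24 := h.card_three hyC hy
  have hle : Nat.card (D ⊓ centralizer ({t} : Set G) : Subgroup G) ≤ 2 := by
    refine (Nat.card_le_card_of_injective (fun s : (D ⊓ centralizer ({t} : Set G) : Subgroup G) =>
      decide ((s : G) = 1)) fun a b e => ?_).trans (by simp)
    have e' := decide_eq_decide.1 e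
    have ha := h.out_fixed_X hyC hy ht hty a.2.1.1 a.2.1.2 (mem_centralizer_singleton_iff.1 a.2.2).symm
    have hb := h.out_fixed_X hyC hy ht hty b.2.1.1 b.2.1.2 (mem_centralizer_singleton_iff.1 b.2.2).symm
    refine Subtype.ext ?_
    rcases ha with p | p <;> rcases hb with q | q
    · rw [p, q]
    · exact absurd (q.symm.trans (e'.1 p)) h.z_ne
    · exact absurd (p.symm.trans (e'.2 q)) h.z_ne
    · rw [p, q]
  have horb := card_orbit_mul D t
  rw [hcard] at horb
  have h12 : Nat.card {u : G // Out z Q u ∧ u * y * u = y⁻¹} ≤ Nat.card {v : G // ∃ c ∈ D, c * t * c⁻¹ = v} := by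
    rw [h.card_inverters_three hyC hy ht hty]
    nlinarith
  let f : {v : G // ∃ c ∈ D, c * t * c⁻¹ = v} → {u : G // Out z Q u ∧ u * y * u = y⁻¹} := fun v => ⟨v.1, by
    obtain ⟨c, hc, e⟩ := v.2
    refine ⟨⟨?_, fun hq => ht.2.1 ?_, ?_⟩, ?_⟩
    · rw [← e]; exact mul_mem (mul_mem hc.2 ht.1) (inv_mem hc.2)
    · have := h.nrm _ (inv_mem hc.2) _ hq
      rwa [← e, show c⁻¹ * (c * t * c⁻¹) * c⁻¹⁻¹ = t by group] at this
    · rw [← e, show c * t * c⁻¹ * (c * t * c⁻¹) = c * (t * t) * c⁻¹ by group, ht.2.2]; group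
    · have := inverts_conj c hty
      rwa [mem_centralizer_singleton_iff.1 hc.1, mul_inv_cancel_right, e] at this⟩
  have hf : Function.Injective f := fun a b e =>
    Subtype.ext (congrArg (fun w : {u : G // Out z Q u ∧ u * y * u = y⁻¹} => w.1) e)
  have hbij := (Nat.bijective_iff_injective_and_card f).2
    ⟨hf, le_antisymm (Nat.card_le_card_of_injective f hf) h12⟩
  obtain ⟨⟨v, c, hc, e⟩, hv⟩ := hbij.2 ⟨u, hu, huy⟩
  exact ⟨c, hc.1, hc.2, e.trans (congrArg Subtype.val hv)⟩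

/-- An inverting involution commuting with `z` is outside `Q`. -/
theorem inverter_out {u : G} (hu : IsI u) (huz : u ∈ centralizer ({z} : Set G)) (huy : u * y * u = y⁻¹) :
    Out z Q u := by
  refine ⟨huz, fun hq => ?_, hu.1⟩
  have hui : u⁻¹ = u := inv_eq_of_mul_eq_one_right hu.1
  have hm : u * (y * u * y⁻¹) ∈ Q := mul_mem hq (h.nrm y hyC u hq)
  rw [← mul_assoc, ← mul_assoc, huy] at hm
  have hd := orderOf_dvd_natCard Q hm
  have h3 : (y⁻¹ * y⁻¹) ^ 3 = 1 := by
    rw [← pow_two, ← pow_mul, mul_comm, pow_mul, inv_pow, show y ^ 3 = 1 from orderOf_dvd_iff_pow_eq_one.1 hy.dvd,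
      inv_one, one_pow]
  rw [h.card] at hd
  have h1 : y⁻¹ * y⁻¹ = 1 := orderOf_eq_one_iff.1
    (Nat.eq_one_of_dvd_coprimes (by norm_num : Nat.Coprime 32 3) hd (orderOf_dvd_of_pow_eq_one h3))
  have := eq_one_of_odd_of_mul_self (show Odd (orderOf y⁻¹) by rw [orderOf_inv, hy]; decide) h1
  rw [inv_eq_one] at this
  rw [this, orderOf_one] at hy
  norm_num at hy

/-- The involutions inverting `y` are conjugate in its centralizer. -/
theorem inverters_conj {u : G} (hu : IsI u) (huy : u * y * u = y⁻¹) :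
    ∃ g ∈ centralizer ({y} : Set G), g * t * g⁻¹ = u := by
  suffices key : ∀ v, IsI v → v ∈ centralizer ({y} : Set G) → u * v = v * u →
      ∃ g ∈ centralizer ({y} : Set G), g * t * g⁻¹ = u by
    by_cases huz : u * z = z * u
    · exact key z h.isI (h.z_mem_X hyC hy) huz
    have hzy : z * y = y * z := (mem_centralizer_singleton_iff.1 hyC).symm
    have u1 : u * y = y⁻¹ * u := by rw [← huy, mul_assoc (u * y), hu.1, mul_one]
    have u2 : u * y⁻¹ = y * u := by
      calc u * y⁻¹ = y * (y⁻¹ * u) * y⁻¹ := by group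
        _ = y * (u * y) * y⁻¹ := by rw [u1]
        _ = y * u := by group
    set r := z * u with hr
    have r1 : r * y = y⁻¹ * r := by
      rw [hr, mul_assoc, u1, ← mul_assoc, (show Commute z y from hzy).inv_right.eq, mul_assoc]
    have r2 : r * y⁻¹ = y * r := by
      rw [hr, mul_assoc, u2, ← mul_assoc, hzy, mul_assoc]
    have heven : ∀ j : ℕ, r ^ (2 * j) * y = y * r ^ (2 * j) := fun j => by
      rw [pow_mul]
      refine (Commute.pow_left (show Commute (r ^ 2) y from ?_) j).eq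
      show r ^ 2 * y = y * r ^ 2
      rw [pow_two, mul_assoc, r1, ← mul_assoc, r2, mul_assoc]
    have hodd : ∀ k : ℕ, Odd k → r ^ k * y = y⁻¹ * r ^ k := by
      rintro k ⟨j, rfl⟩
      rw [pow_succ, mul_assoc, r1, ← mul_assoc, ((show Commute (r ^ (2 * j)) y from heven j).inv_right).eq,
        mul_assoc]
    have he : Even (orderOf r) := by
      by_contra ho
      have e := hodd _ (Nat.not_even_iff_odd.1 ho)
      rw [pow_orderOf_eq_one, one_mul, mul_one] at e
      have h2 := eq_one_of_odd_of_mul_self (show Odd (orderOf y) by rw [hy]; decide)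
        (by nth_rw 2 [e]; exact mul_inv_cancel y)
      rw [h2, orderOf_one] at hy
      norm_num at hy
    set w := r ^ (orderOf r / 2) with hwdef
    have hw : IsI w := exists_invol_half he
    have hwi : w⁻¹ = w := inv_eq_of_mul_eq_one_right hw.1
    have eu := conj_zpow_of_inverts (invol_conj_mul' h.inv (isI_iff.1 hu)) ((orderOf r / 2 : ℕ) : ℤ)
    rw [zpow_neg, zpow_natCast, ← hr, ← hwdef, hwi] at eu
    have huw : u * w = w * u := mul_inv_eq_iff_eq_mul.1 eu
    have ez := conj_zpow_of_inverts (invol_conj_mul h.inv (isI_iff.1 hu)) ((orderOf r / 2 : ℕ) : ℤ)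
    rw [zpow_neg, zpow_natCast, ← hr, ← hwdef, hwi] at ez
    have hzw : z * w = w * z := mul_inv_eq_iff_eq_mul.1 ez
    rcases Nat.even_or_odd (orderOf r / 2) with ⟨j, hj⟩ | hk
    · refine key w hw (mem_centralizer_singleton_iff.2 ?_) huw
      rw [hwdef, hj, ← two_mul]
      exact heven j
    · have w1 : w * y = y⁻¹ * w := hodd _ hk
      refine key (u * w) ⟨?_, fun e => huz ?_⟩ (mem_centralizer_singleton_iff.2 ?_) ?_
      · rw [mul_assoc, ← mul_assoc w, ← huw, mul_assoc u w w, hw.1, mul_one, hu.1]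
      · have e' : u = w := by rw [eq_inv_of_mul_eq_one_left e, hwi]
        show u * z = z * u
        calc u * z = w * z := by rw [e']
          _ = z * w := hzw.symm
          _ = z * u := by rw [e']
      · rw [mul_assoc, w1, ← mul_assoc, u2, mul_assoc]
      · rw [mul_assoc u w u, ← huw]
  intro v hv hvy huv
  obtain ⟨g, hg, hgv⟩ := h.conj_in_X hyC hy hv hvy
  have hu' : IsI (g⁻¹ * u * g) := by
    have := isI_conj g⁻¹ hu
    rwa [inv_inv] at this
  have huz' : g⁻¹ * u * g ∈ centralizer ({z} : Set G) := mem_centralizer_singleton_iff.2 (by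
    calc g⁻¹ * u * g * z = g⁻¹ * (u * (g * z * g⁻¹)) * g := by group
      _ = g⁻¹ * (g * z * g⁻¹ * u) * g := by rw [hgv, huv]
      _ = z * (g⁻¹ * u * g) := by group)
  have hgy : g⁻¹ * y * g = y := by
    rw [mul_assoc, ← mem_centralizer_singleton_iff.1 hg, inv_mul_cancel_left]
  have huy' : g⁻¹ * u * g * y * (g⁻¹ * u * g) = y⁻¹ := by
    have := inverts_conj g⁻¹ huy
    rwa [inv_inv, hgy] at this
  obtain ⟨s, hs, -, hsu⟩ := h.inverters_orbit hyC hy ht hty (h.inverter_out hyC hy ht hty hu' huz' huy') huy'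
  exact ⟨g * s, mul_mem hg hs, by
    rw [show g * s * t * (g * s)⁻¹ = g * (s * t * s⁻¹) * g⁻¹ by group, hsu]; group⟩

/-- The pairs of an element of this class and an inverting involution are conjugate. -/
theorem yclass_data {x w : G} (hx : YClass x) (hw : IsI w) (hwx : w * x * w = x⁻¹) :
    ∃ g : G, g * x * g⁻¹ = y ∧ g * w * g⁻¹ = t := by
  obtain ⟨hx3, u, hu, hux⟩ := hx
  obtain ⟨a, ha⟩ := h.exists_conj hu
  have hxa : a⁻¹ * x * a ∈ centralizer ({z} : Set G) := mem_centralizer_singleton_iff.2 (by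
    calc a⁻¹ * x * a * z = a⁻¹ * (x * (a * z * a⁻¹)) * a := by group
      _ = a⁻¹ * (a * z * a⁻¹ * x) * a := by rw [ha, mem_centralizer_singleton_iff.1 hux]
      _ = z * (a⁻¹ * x * a) := by group)
  have hxo : orderOf (a⁻¹ * x * a) = 3 := by
    rw [show a⁻¹ * x * a = a⁻¹ * x * a⁻¹⁻¹ by group, ← MulAut.conj_apply, MulEquiv.orderOf_eq, hx3]
  obtain ⟨c, -, hce⟩ := h.exists_conj_three hxa hxo hyC hy
  have hm : c * (a⁻¹ * x * a) * c⁻¹ ∈ zpowers y := hce ▸ mem_zpowers _
  obtain ⟨b, hb⟩ : ∃ b, b * x * b⁻¹ = y := by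
    rcases (JTwo.pow_cases_three hy hm).resolve_left (fun e => by
      rw [conj_eq_one_iff] at e
      rw [e, orderOf_one] at hxo
      norm_num at hxo) with e | e
    · exact ⟨c * a⁻¹, by rw [← e]; group⟩
    · refine ⟨t * (c * a⁻¹), ?_⟩
      calc t * (c * a⁻¹) * x * (t * (c * a⁻¹))⁻¹ = t * (c * (a⁻¹ * x * a) * c⁻¹) * t⁻¹ := by group
        _ = (t * y * t⁻¹)⁻¹ := by rw [e]; group
        _ = y := by rw [inv_eq_of_mul_eq_one_right ht.2.2, hty, inv_inv]
  have hb2 : IsI (b * w * b⁻¹) := isI_conj b hw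
  have hb3 := inverts_conj b hwx
  rw [hb] at hb3
  obtain ⟨s, hs, hsw⟩ := h.inverters_conj hyC hy ht hty hb2 hb3
  refine ⟨s⁻¹ * b, ?_, ?_⟩
  · rw [show s⁻¹ * b * x * (s⁻¹ * b)⁻¹ = s⁻¹ * (b * x * b⁻¹) * s by group, hb, mul_assoc,
      ← mem_centralizer_singleton_iff.1 hs, inv_mul_cancel_left]
  · rw [show s⁻¹ * b * w * (s⁻¹ * b)⁻¹ = s⁻¹ * (b * w * b⁻¹) * s by group, ← hsw]; group

/-- The stabiliser of the pair. -/
theorem card_cent_yclass {x : G} (hx : YClass x) (hxi : z * x * z = x⁻¹) :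
    Nat.card (centralizer ({x} : Set G) ⊓ centralizer ({z} : Set G) : Subgroup G) =
      Nat.card (centralizer ({y} : Set G) ⊓ centralizer ({t} : Set G) : Subgroup G) := by
  obtain ⟨g, hgx, hgz⟩ := h.yclass_data hyC hy ht hty hx h.isI hxi
  refine Nat.card_congr ((MulAut.conj g).toEquiv.subtypeEquiv fun a => ?_)
  show _ ↔ g * a * g⁻¹ ∈ _
  rw [mem_inf, mem_inf, ← hgx, ← hgz]
  simp only [mem_centralizer_singleton_iff]
  constructor <;> rintro ⟨a1, a2⟩ <;> constructor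
  · rw [show g * a * g⁻¹ * (g * x * g⁻¹) = g * (a * x) * g⁻¹ by group, a1]; group
  · rw [show g * a * g⁻¹ * (g * z * g⁻¹) = g * (a * z) * g⁻¹ by group, a2]; group
  · calc a * x = g⁻¹ * (g * a * g⁻¹ * (g * x * g⁻¹)) * g := by group
      _ = g⁻¹ * (g * x * g⁻¹ * (g * a * g⁻¹)) * g := by rw [a1]
      _ = x * a := by group
  · calc a * z = g⁻¹ * (g * a * g⁻¹ * (g * z * g⁻¹)) * g := by group
      _ = g⁻¹ * (g * z * g⁻¹ * (g * a * g⁻¹)) * g := by rw [a2]
      _ = z * a := by group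

/-- The number of elements of this class inverted by an involution. -/
theorem card_yclass_mul :
    Nat.card {x : G // YClass x ∧ z * x * z = x⁻¹} *
      Nat.card (centralizer ({y} : Set G) ⊓ centralizer ({t} : Set G) : Subgroup G) = 1920 := by
  classical
  rcases isEmpty_or_nonempty {x : G // YClass x ∧ z * x * z = x⁻¹} with he | ⟨⟨x₀, hx₀, hi₀⟩⟩
  · obtain ⟨g, hg⟩ := h.exists_conj (u := t) (h.out_isI ht)
    refine isEmptyElim (⟨g⁻¹ * y * g, ⟨?_, ?_⟩, ?_⟩ : {x : G // YClass x ∧ z * x * z = x⁻¹})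
    · rw [show g⁻¹ * y * g = g⁻¹ * y * g⁻¹⁻¹ by group, ← MulAut.conj_apply, MulEquiv.orderOf_eq, hy]
    · refine ⟨g⁻¹ * z * g, by have := isI_conj g⁻¹ h.isI; rwa [inv_inv] at this,
        mem_centralizer_singleton_iff.2 ?_⟩
      calc g⁻¹ * z * g * (g⁻¹ * y * g) = g⁻¹ * (z * y) * g := by group
        _ = g⁻¹ * (y * z) * g := by rw [mem_centralizer_singleton_iff.1 hyC]
        _ = _ := by group
    · have := inverts_conj g⁻¹ hty
      rw [← hg] at this
      simpa [mul_assoc] using this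
  · have e := card_orbit_mul (centralizer ({z} : Set G)) x₀
    rw [h.card_C] at e
    rw [← h.card_cent_yclass hyC hy ht hty hx₀ hi₀, inf_comm (centralizer ({x₀} : Set G)), ← e]
    congr 1
    refine Nat.card_congr (Equiv.subtypeEquivRight fun x => ⟨fun hx => ?_, ?_⟩)
    · obtain ⟨g, hgx, hgz⟩ := h.yclass_data hyC hy ht hty hx.1 h.isI hx.2
      obtain ⟨g₀, hgx₀, hgz₀⟩ := h.yclass_data hyC hy ht hty hx₀ h.isI hi₀
      refine ⟨g⁻¹ * g₀, mem_centralizer_singleton_iff.2 ?_, ?_⟩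
      · calc g⁻¹ * g₀ * z = g⁻¹ * (g₀ * z * g₀⁻¹) * g₀ := by group
          _ = g⁻¹ * (g * z * g⁻¹) * g₀ := by rw [hgz₀, hgz]
          _ = z * (g⁻¹ * g₀) := by group
      · rw [show g⁻¹ * g₀ * x₀ * (g⁻¹ * g₀)⁻¹ = g⁻¹ * (g₀ * x₀ * g₀⁻¹) * g by group, hgx₀, ← hgx]; group
    · rintro ⟨c, hc, rfl⟩
      obtain ⟨hx3, u, hu, hux⟩ := hx₀
      refine ⟨⟨?_, c * u * c⁻¹, isI_conj c hu, mem_centralizer_singleton_iff.2 ?_⟩, ?_⟩
      · rw [← MulAut.conj_apply, MulEquiv.orderOf_eq, hx3]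
      · rw [show c * u * c⁻¹ * (c * x₀ * c⁻¹) = c * (u * x₀) * c⁻¹ by group,
          mem_centralizer_singleton_iff.1 hux]; group
      · have := inverts_conj c hi₀
        rwa [mem_centralizer_singleton_iff.1 hc, mul_inv_cancel_right] at this

end Hyp

end CfsgLib.Invol.JThreeType
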