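import Cfsg.Agent.Lib.Invol.JThreeType.Pairs
import Cfsg.Agent.Lib.Invol.JThreeType.Eight
import Cfsg.Agent.Lib.Invol.JTwo.Odd

/-!
# The centralizer of an element of order three of the centralizer of an involution
-/

set_option autoImplicit false
set_option synthInstance.maxSize 4096

namespace CfsgLib.Invol.JThreeType

open Subgroup
open CfsgLib.Invol.JTwo (PreHyp Frame Out cj mem_cj mem_centralizer_conj nc_eq_false cyc mem_cyc card_cyc)

local notation "A" => alternatingGroup (Fin 5)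

theorem three_points : ∀ g : {g : A // g * g * g = 1 ∧ g ≠ 1}, ∃ i j : Fin 5, i ≠ j ∧
    ∀ k, (JTwo.AltFive.act g.1 k = k ↔ (k = i ∨ k = j)) := by
  decide +kernel

theorem fix_co_iff : ∀ g : A, ∀ i : Fin 5, JTwo.AltFive.Fix g (JTwo.AltFive.co i) ↔ JTwo.AltFive.act g i = i := by
  decide +kernel

/-- Two elements of a prime order in a subgroup where that prime divides once are conjugate up to a power. -/
theorem exists_conj_zpowers {G : Type*} [Group G] [Finite G] {K : Subgroup G} {p : ℕ} [hp : Fact p.Prime]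
    (hp2 : ¬ p ^ 2 ∣ Nat.card K) {v w : G} (hv : v ∈ K) (hvo : orderOf v = p) (hw : w ∈ K) (hwo : orderOf w = p) :
    ∃ c ∈ K, c * v * c⁻¹ ∈ zpowers w := by
  have hS : ∀ x : K, orderOf x = p → ∃ S : Sylow p K, (S : Subgroup K) = zpowers x := by
    intro x hx
    obtain ⟨S, hS⟩ := (IsPGroup.of_card (p := p) (n := 1) (G := zpowers x)
      (by rw [Nat.card_zpowers, hx, pow_one])).exists_le_sylow
    refine ⟨S, (eq_of_le_of_card_ge hS ?_).symm⟩
    obtain ⟨k, hk⟩ := IsPGroup.iff_card.1 S.isPGroup'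
    have hd := card_subgroup_dvd_card (S : Subgroup K)
    rw [hk] at hd
    have hk1 : k ≤ 1 := by
      by_contra hk1
      exact hp2 ((pow_dvd_pow p (show 2 ≤ k by omega)).trans hd)
    rw [hk, Nat.card_zpowers, hx]
    exact (Nat.pow_le_pow_right hp.out.pos hk1).trans (by rw [pow_one])
  obtain ⟨S, hS1⟩ := hS ⟨v, hv⟩ (by rw [orderOf_mk]; exact hvo)
  obtain ⟨S', hS'⟩ := hS ⟨w, hw⟩ (by rw [orderOf_mk]; exact hwo)
  obtain ⟨c, hc⟩ := MulAction.exists_smul_eq K S S'
  refine ⟨c, c.2, ?_⟩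
  have hm : c * ⟨v, hv⟩ * c⁻¹ ∈ (S' : Subgroup K) := by
    rw [← hc, Sylow.coe_subgroup_smul, hS1]; exact ⟨_, mem_zpowers _, rfl⟩
  rw [hS', mem_zpowers_iff] at hm
  obtain ⟨k, hk⟩ := hm
  exact mem_zpowers_iff.2 ⟨k, congrArg Subtype.val hk⟩

/-- The centralizer modulo the element. -/
abbrev XQ {G : Type*} [Group G] (y : G) := ↥(centralizer ({y} : Set G)) ⧸ cyc y

namespace Hyp

variable {G : Type*} [Group G] [Finite G] {z : G} {Q : Subgroup G} (h : Hyp z Q) {y : G}
  (hyC : y ∈ centralizer ({z} : Set G)) (hy : orderOf y = 3)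
include h hyC hy

theorem pi_three (F : Frame z Q) :
    F.π ⟨y, hyC⟩ * F.π ⟨y, hyC⟩ * F.π ⟨y, hyC⟩ = 1 ∧ F.π ⟨y, hyC⟩ ≠ 1 := by
  constructor
  · rw [← map_mul, ← map_mul, show (⟨y, hyC⟩ : ↥(centralizer ({z} : Set G))) * ⟨y, hyC⟩ * ⟨y, hyC⟩ = 1 from
      Subtype.ext (by
        show y * y * y = 1
        have := pow_orderOf_eq_one y
        rwa [hy, pow_succ, pow_two] at this), map_one]
  · intro e
    have := orderOf_dvd_natCard Q ((F.ker _).1 e)
    rw [hy, h.card] at this
    norm_num at this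

theorem z_mem_X : z ∈ centralizer ({y} : Set G) :=
  mem_centralizer_singleton_iff.2 (mem_centralizer_singleton_iff.1 hyC).symm

/-- The part of `Q` fixed by an element of order three. -/
theorem card_fixed_part : Nat.card {q : G // q ∈ Q ∧ q * y = y * q} = 8 := by
  obtain ⟨F⟩ := h.exists_frame
  have hc := h.count F (fun v => JTwo.AltFive.Fix (F.π ⟨y, hyC⟩) v)
  rw [JTwo.AltFive.three_fix_card _ (h.pi_three hyC hy F).1 (h.pi_three hyC hy F).2] at hc
  rw [← show Nat.card {q : G // q ∈ Q ∧ JTwo.AltFive.Fix (F.π ⟨y, hyC⟩) (F.chi q)} = 8 from hc]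
  exact Nat.card_congr (Equiv.subtypeEquivRight fun q => and_congr_right fun hq =>
    h.commute_iff_fix F hyC (by rw [hy]; decide) hq)

/-- An involution commuting with `z` and `y` lies in `Q`. -/
theorem invol_X_mem {u : G} (hu : IsI u) (huy : u ∈ centralizer ({y} : Set G))
    (huz : u ∈ centralizer ({z} : Set G)) : u ∈ Q := by
  obtain ⟨i, q, hq, hqy, rfl⟩ := h.three_prod hyC hy huy huz
  have hc : Commute (y ^ (i : ℕ)) q := (show Commute y q from hqy.symm).pow_left _
  have e : y ^ (i : ℕ) * y ^ (i : ℕ) ∈ Q := by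
    have := hu.1
    rw [show y ^ (i : ℕ) * q * (y ^ (i : ℕ) * q) = y ^ (i : ℕ) * (q * y ^ (i : ℕ)) * q by group, ← hc.eq,
      show y ^ (i : ℕ) * (y ^ (i : ℕ) * q) * q = y ^ (i : ℕ) * y ^ (i : ℕ) * (q * q) by group] at this
    rw [eq_inv_of_mul_eq_one_left this]
    exact inv_mem (mul_mem hq hq)
  have hd := orderOf_dvd_natCard Q e
  rw [h.card] at hd
  have h3 : (y ^ (i : ℕ) * y ^ (i : ℕ)) ^ 3 = 1 := by
    rw [← pow_add, ← pow_mul, mul_comm, pow_mul, show y ^ 3 = 1 from orderOf_dvd_iff_pow_eq_one.1 hy.dvd, one_pow]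
  have h1 : y ^ (i : ℕ) * y ^ (i : ℕ) = 1 := orderOf_eq_one_iff.1
    (Nat.eq_one_of_dvd_coprimes (by norm_num : Nat.Coprime 32 3) hd (orderOf_dvd_of_pow_eq_one h3))
  have hodd : Odd (orderOf (y ^ (i : ℕ))) := (show Odd (orderOf y) by rw [hy]; decide).of_dvd_nat
    (orderOf_pow_dvd _)
  rw [eq_one_of_odd_of_mul_self hodd h1, one_mul]
  exact hq

/-- The five involutions. -/
theorem invol_X_list (F : Frame z Q) : ∃ i j : Fin 5, i ≠ j ∧ (∀ u : G,
    ((u ∈ centralizer ({y} : Set G) ∧ u ∈ centralizer ({z} : Set G)) ∧ IsI u) ↔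
      (u = z ∨ u = F.p i ∨ u = F.p i * z ∨ u = F.p j ∨ u = F.p j * z)) := by
  obtain ⟨i, j, hij, hk⟩ := three_points ⟨_, h.pi_three hyC hy F⟩
  refine ⟨i, j, hij, fun u => ⟨?_, ?_⟩⟩
  · rintro ⟨⟨huy, huz⟩, hu⟩
    have huQ := h.invol_X_mem hyC hy hu huy huz
    by_cases hz : u = z
    · exact Or.inl hz
    obtain ⟨k, hk'⟩ := F.all u huQ hu.1 hu.2 hz
    have hc : F.chi u = JTwo.AltFive.co k := by
      rcases hk' with rfl | rfl
      · exact F.chi_p k
      · rw [h.chi_mul_z F (F.mem k)]; exact F.chi_p k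
    have hf := (h.commute_iff_fix F hyC (by rw [hy]; decide) huQ).1 (mem_centralizer_singleton_iff.1 huy)
    rw [hc, fix_co_iff, hk] at hf
    rcases hf with rfl | rfl <;> tauto
  · have hp : ∀ k, (k = i ∨ k = j) → ((F.p k ∈ centralizer ({y} : Set G) ∧ F.p k ∈ centralizer ({z} : Set G)) ∧
        IsI (F.p k)) ∧ ((F.p k * z ∈ centralizer ({y} : Set G) ∧ F.p k * z ∈ centralizer ({z} : Set G)) ∧
        IsI (F.p k * z)) := by
      intro k hk'
      have hc : F.p k * y = y * F.p k := (h.commute_iff_fix F hyC (by rw [hy]; decide) (F.mem k)).2 (by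
        rw [F.chi_p, fix_co_iff, hk]; exact hk')
      have hm := mem_centralizer_singleton_iff.2 hc
      refine ⟨⟨⟨hm, h.le (F.mem k)⟩, F.inv k, F.ne_one k⟩, ⟨mul_mem hm (h.z_mem_X hyC hy),
        mul_mem (h.le (F.mem k)) h.z_mem_C⟩, h.mul_z_inv (F.mem k) (F.inv k), fun e => F.ne_z k ?_⟩
      rw [eq_inv_of_mul_eq_one_left e, inv_eq_of_mul_eq_one_right h.zz]
    rintro (rfl | rfl | rfl | rfl | rfl)
    · exact ⟨⟨h.z_mem_X hyC hy, h.z_mem_C⟩, h.isI⟩
    · exact (hp i (Or.inl rfl)).1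
    · exact (hp i (Or.inl rfl)).2
    · exact (hp j (Or.inr rfl)).1
    · exact (hp j (Or.inr rfl)).2

theorem card_invol_X :
    Nat.card {u : G // (u ∈ centralizer ({y} : Set G) ∧ u ∈ centralizer ({z} : Set G)) ∧ IsI u} = 5 := by
  obtain ⟨F⟩ := h.exists_frame
  obtain ⟨i, j, hij, hl⟩ := h.invol_X_list hyC hy F
  rw [Nat.card_congr (Equiv.subtypeEquivRight hl)]
  have nz : ∀ k, F.p k * z ≠ z := fun k e => F.ne_one k (mul_eq_right.1 e)
  have np : ∀ k, F.p k * z ≠ F.p k := fun k e => h.z_ne (mul_eq_left.1 e)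
  have n1 : F.p j ≠ F.p i := fun e => F.noncomm i j hij (by rw [e])
  have n2 : F.p j ≠ F.p i * z := fun e => F.noncomm i j hij (by
    rw [e, ← mul_assoc, mul_assoc (F.p i), mul_assoc (F.p i) z (F.p i), ← h.z_comm (F.mem i)])
  have n3 : F.p j * z ≠ F.p i := fun e => n2 (by rw [← e, mul_assoc, h.zz, mul_one])
  have n4 : F.p j * z ≠ F.p i * z := fun e => n1 (mul_right_cancel e)
  have e : ({z, F.p i, F.p i * z, F.p j, F.p j * z} : Set G).ncard = 5 := by
    rw [Set.ncard_insert_of_notMem, Set.ncard_insert_of_notMem, Set.ncard_insert_of_notMem, Set.ncard_pair (np j).symm]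
    · simp only [Set.mem_insert_iff, Set.mem_singleton_iff, not_or]
      exact ⟨n2.symm, n4.symm⟩
    · simp only [Set.mem_insert_iff, Set.mem_singleton_iff, not_or]
      exact ⟨(np i).symm, n1.symm, n3.symm⟩
    · simp only [Set.mem_insert_iff, Set.mem_singleton_iff, not_or]
      exact ⟨(F.ne_z i).symm, (nz i).symm, (F.ne_z j).symm, (nz j).symm⟩
  rw [← e, ← Nat.card_coe_set_eq]
  exact Nat.card_congr (Equiv.subtypeEquivRight fun u => by
    simp only [Set.mem_insert_iff, Set.mem_singleton_iff])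

/-- The involutions of the centralizer of `y` commuting with `z` are conjugate to `z` inside it. -/
theorem conj_near {u : G} (hu : IsI u) (huy : u ∈ centralizer ({y} : Set G))
    (huz : u ∈ centralizer ({z} : Set G)) : ∃ g ∈ centralizer ({y} : Set G), g * z * g⁻¹ = u := by
  classical
  obtain ⟨F⟩ := h.exists_frame
  obtain ⟨i, j, hij, hl⟩ := h.invol_X_list hyC hy F
  have hcy : ∀ k, (k = i ∨ k = j) → F.p k ∈ centralizer ({y} : Set G) := by
    rintro k (rfl | rfl)
    · exact ((hl _).2 (Or.inr (Or.inl rfl))).1.1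
    · exact ((hl _).2 (Or.inr (Or.inr (Or.inr (Or.inl rfl))))).1.1
  suffices key : ∀ k l, (k = i ∧ l = j) ∨ (k = j ∧ l = i) → ∀ w, (w = F.p k ∨ w = F.p k * z) →
      ∃ g ∈ centralizer ({y} : Set G), g * z * g⁻¹ = w by
    rcases (hl u).1 ⟨⟨huy, huz⟩, hu⟩ with rfl | rfl | rfl | rfl | rfl
    · exact ⟨1, one_mem _, by group⟩
    · exact key i j (Or.inl ⟨rfl, rfl⟩) _ (Or.inl rfl)
    · exact key i j (Or.inl ⟨rfl, rfl⟩) _ (Or.inr rfl)
    · exact key j i (Or.inr ⟨rfl, rfl⟩) _ (Or.inl rfl)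
    · exact key j i (Or.inr ⟨rfl, rfl⟩) _ (Or.inr rfl)
  intro k l hkl w hw
  have hk : k = i ∨ k = j := by tauto
  have hne : k ≠ l := by
    rintro rfl
    rcases hkl with ⟨a, b⟩ | ⟨a, b⟩
    · exact hij (a.symm.trans b)
    · exact hij (b.symm.trans a)
  set p := F.p k with hp
  have hpQ : p ∈ Q := F.mem k
  have hpI : IsI p := ⟨F.inv k, F.ne_one k⟩
  have hpz : p ≠ z := F.ne_z k
  have hpy : p ∈ centralizer ({y} : Set G) := hcy k hk
  -- the other point exchanges the two conjugates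
  obtain ⟨q, hqy, hq1, hq2⟩ : ∃ q ∈ centralizer ({y} : Set G), q * p * q⁻¹ = p * z ∧ q * z * q⁻¹ = z := by
    refine ⟨F.p l, hcy l (by tauto), ?_, by rw [h.z_comm (F.mem l), mul_inv_cancel_right]⟩
    rw [(h.comm _ (F.mem l) _ hpQ).resolve_left (F.noncomm l k hne.symm), ← mul_assoc, ← h.z_comm hpQ]
    group
  suffices key : ∃ g ∈ centralizer ({y} : Set G), g * z * g⁻¹ = p * z by
    obtain ⟨g, hg, hgz⟩ := key
    rcases hw with rfl | rfl
    · refine ⟨q * g, mul_mem hqy hg, ?_⟩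
      rw [show q * g * z * (q * g)⁻¹ = q * (g * z * g⁻¹) * q⁻¹ by group, hgz,
        show q * (p * z) * q⁻¹ = q * p * q⁻¹ * (q * z * q⁻¹) by group, hq1, hq2, mul_assoc, h.zz, mul_one]
    · exact ⟨g, hg, hgz⟩
  -- the three cycle on the four group
  obtain ⟨g, hg⟩ := h.exists_conj hpI
  have h' : Hyp p (cj g Q) := hg ▸ h.conj g
  have hswap : ∀ {c : G} {R : Subgroup G}, Hyp c R → ∀ {v : G}, v ∈ R → v ≠ 1 → v ≠ c →
      ∃ a ∈ R, a * v * a⁻¹ = v * c ∧ a * c * a⁻¹ = c := by
    intro c R hR v hv hv1 hvc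
    obtain ⟨a, ha, hav⟩ : ∃ a ∈ R, a * v ≠ v * a := by
      by_contra hall
      push Not at hall
      exact (hR.cen v hv fun b hb => (hall b hb).symm).elim hv1 hvc
    refine ⟨a, ha, ?_, by rw [hR.z_comm ha, mul_inv_cancel_right]⟩
    rw [(hR.comm a ha v hv).resolve_left hav, ← mul_assoc, ← hR.z_comm hv]; group
  obtain ⟨a, -, haz, hap⟩ := hswap h' (h.z_mem_cj hpQ hpz hg) h.z_ne hpz.symm
  obtain ⟨b, -, hbp, hbz⟩ := hswap h hpQ hpI.2 hpz
  have hpcz : p * z = z * p := h.z_comm hpQ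
  set r := b * a with hr
  have r1 : r * z * r⁻¹ = p := by
    rw [hr, show b * a * z * (b * a)⁻¹ = b * (a * z * a⁻¹) * b⁻¹ by group, haz,
      show b * (z * p) * b⁻¹ = b * z * b⁻¹ * (b * p * b⁻¹) by group, hbz, hbp, ← mul_assoc, ← hpcz, mul_assoc,
      h.zz, mul_one]
  have r2 : r * p * r⁻¹ = p * z := by
    rw [hr, show b * a * p * (b * a)⁻¹ = b * (a * p * a⁻¹) * b⁻¹ by group, hap, hbp]
  set D := centralizer ({z} : Set G) ⊓ centralizer ({p} : Set G) with hD
  have hyD : y ∈ D := ⟨hyC, mem_centralizer_singleton_iff.2 (mem_centralizer_singleton_iff.1 hpy).symm⟩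
  have hryD : r * y * r⁻¹ ∈ D := by
    have k1 := mem_centralizer_singleton_iff.1 hyD.1
    have k2 := mem_centralizer_singleton_iff.1 hyD.2
    have f1 : r * y * r⁻¹ * p = p * (r * y * r⁻¹) := by
      rw [← r1, show r * y * r⁻¹ * (r * z * r⁻¹) = r * (y * z) * r⁻¹ by group, k1]; group
    have f2 : r * y * r⁻¹ * (p * z) = p * z * (r * y * r⁻¹) := by
      rw [← r2, show r * y * r⁻¹ * (r * p * r⁻¹) = r * (y * p) * r⁻¹ by group, k2]; group
    refine ⟨mem_centralizer_singleton_iff.2 ?_, mem_centralizer_singleton_iff.2 f1⟩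
    have e := ((show Commute (r * y * r⁻¹) p from f1).mul_right f2).eq
    rwa [show p * (p * z) = z by rw [← mul_assoc, hpI.1, one_mul]] at e
  haveI : Fact (Nat.Prime 3) := ⟨Nat.prime_three⟩
  obtain ⟨c, hc, hcy'⟩ := exists_conj_zpowers (K := D) (p := 3)
    (by rw [(h.card_pair hpQ hpI.1 hpI.2 hpz).2]; norm_num) hryD
    (by rw [← MulAut.conj_apply, MulEquiv.orderOf_eq]; exact hy) hyD hy
  set s := c * r with hs
  have s1 : s * z * s⁻¹ = p := by
    rw [hs, show c * r * z * (c * r)⁻¹ = c * (r * z * r⁻¹) * c⁻¹ by group, r1,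
      mem_centralizer_singleton_iff.1 hc.2, mul_inv_cancel_right]
  have s2 : s * p * s⁻¹ = p * z := by
    rw [hs, show c * r * p * (c * r)⁻¹ = c * (r * p * r⁻¹) * c⁻¹ by group, r2,
      ((show Commute c p from mem_centralizer_singleton_iff.1 hc.2).mul_right
        (mem_centralizer_singleton_iff.1 hc.1)).eq, mul_inv_cancel_right]
  have s3 : s * s ∈ centralizer ({y} : Set G) := by
    have e : s * y * s⁻¹ = y ∨ s * y * s⁻¹ = y⁻¹ := by
      have hsy : s * y * s⁻¹ = c * (r * y * r⁻¹) * c⁻¹ := by rw [hs]; group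
      rw [← hsy] at hcy'
      refine (JTwo.pow_cases_three hy hcy').resolve_left fun e => ?_
      rw [conj_eq_one_iff] at e
      rw [e, orderOf_one] at hy
      norm_num at hy
    refine mem_centralizer_singleton_iff.2 (mul_inv_eq_iff_eq_mul.1 ?_)
    rw [show s * s * y * (s * s)⁻¹ = s * (s * y * s⁻¹) * s⁻¹ by group]
    rcases e with e | e <;> rw [e]
    · exact e
    · rw [show s * y⁻¹ * s⁻¹ = (s * y * s⁻¹)⁻¹ by group, e, inv_inv]
  exact ⟨s * s, s3, by rw [show s * s * z * (s * s)⁻¹ = s * (s * z * s⁻¹) * s⁻¹ by group, s1, s2]⟩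

/-- The involutions of the centralizer of `y` are conjugate inside it. -/
theorem conj_in_X {u : G} (hu : IsI u) (huy : u ∈ centralizer ({y} : Set G)) :
    ∃ g ∈ centralizer ({y} : Set G), g * z * g⁻¹ = u := by
  rcases Nat.even_or_odd (orderOf (z * u)) with he | ho
  · set w := (z * u) ^ (orderOf (z * u) / 2) with hwdef
    have hw : IsI w := exists_invol_half he
    have hwm : w ∈ zpowers (z * u) := npow_mem_zpowers _ _
    obtain ⟨k, hk⟩ := mem_zpowers_iff.1 hwm
    have hwy : w ∈ centralizer ({y} : Set G) := by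
      rw [← hk]; exact zpow_mem (mul_mem (h.z_mem_X hyC hy) huy) k
    have hwi : w⁻¹ = w := inv_eq_of_mul_eq_one_right hw.1
    have e1 := conj_zpow_of_inverts (invol_conj_mul h.inv (isI_iff.1 hu)) k
    have e2 := conj_zpow_of_inverts (invol_conj_mul' h.inv (isI_iff.1 hu)) k
    rw [zpow_neg, hk, hwi] at e1 e2
    obtain ⟨g, hg, hgw⟩ := h.conj_near hyC hy hw hwy
      (mem_centralizer_singleton_iff.2 (mul_inv_eq_iff_eq_mul.1 e1).symm)
    have hu' : IsI (g⁻¹ * u * g) := by
      have := isI_conj g⁻¹ hu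
      rwa [inv_inv] at this
    have huw : u * w = w * u := mul_inv_eq_iff_eq_mul.1 e2
    obtain ⟨g', hg', hgu⟩ := h.conj_near hyC hy hu' (mul_mem (mul_mem (inv_mem hg) huy) hg)
      (mem_centralizer_singleton_iff.2 (by
        calc g⁻¹ * u * g * z = g⁻¹ * (u * (g * z * g⁻¹)) * g := by group
          _ = g⁻¹ * (g * z * g⁻¹ * u) * g := by rw [hgw, huw]
          _ = z * (g⁻¹ * u * g) := by group))
    exact ⟨g * g', mul_mem hg hg', by
      rw [show g * g' * z * (g * g')⁻¹ = g * (g' * z * g'⁻¹) * g⁻¹ by group, hgu]; group⟩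
  · obtain ⟨d, hd, hdd⟩ := exists_sqrt_of_odd ho
    refine ⟨d⁻¹, inv_mem ((zpowers_le.2 (mul_mem (h.z_mem_X hyC hy) huy)) hd), ?_⟩
    obtain ⟨k, rfl⟩ := mem_zpowers_iff.1 hd
    have e := conj_zpow_of_inverts (invol_conj_mul h.inv (isI_iff.1 hu)) k
    rw [zpow_neg] at e
    rw [inv_inv]
    set d := (z * u) ^ k
    have e' : z * d = d⁻¹ * z := by rw [← e]; group
    calc d⁻¹ * z * d = d⁻¹ * (z * d) := mul_assoc _ _ _
      _ = (d * d)⁻¹ * z := by rw [e']; group
      _ = u := by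
        rw [hdd, _root_.mul_inv_rev, inv_eq_of_mul_eq_one_right hu.1, inv_eq_of_mul_eq_one_right h.zz,
          mul_assoc, h.zz, mul_one]

/-- The involution in the quotient. -/
abbrev zX : ↥(centralizer ({y} : Set G)) := ⟨z, h.z_mem_X hyC hy⟩

theorem cyc_cases {k : ↥(centralizer ({y} : Set G))} (hk : k ∈ cyc y) :
    (k : G) = 1 ∨ (k : G) = y ∨ (k : G) = y⁻¹ := JTwo.pow_cases_three hy (mem_cyc.1 hk)

theorem mk_invol {u : ↥(centralizer ({y} : Set G))} (hu : IsI (u : G)) :
    orderOf (QuotientGroup.mk' (cyc y) u) = 2 := by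
  refine orderOf_eq_prime ?_ fun e => ?_
  · rw [pow_two, ← map_mul, show u * u = 1 from Subtype.ext hu.1, map_one]
  · have hd := orderOf_dvd_of_mem_zpowers (mem_cyc.1 ((QuotientGroup.eq_one_iff u).1 e))
    rw [isI_iff.1 hu, hy] at hd
    norm_num at hd

theorem exists_invol_lift {v : XQ y} (hv : orderOf v = 2) :
    ∃ u : ↥(centralizer ({y} : Set G)), IsI (u : G) ∧ QuotientGroup.mk' (cyc y) u = v := by
  obtain ⟨x, rfl⟩ := QuotientGroup.mk'_surjective (cyc y) v
  have hx3 : (x * x) ^ 3 = 1 := by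
    have e : x * x ∈ cyc y := (QuotientGroup.eq_one_iff (x * x)).1 (by
      rw [← QuotientGroup.mk'_apply, map_mul, ← pow_two, ← hv, pow_orderOf_eq_one])
    have := orderOf_dvd_natCard (cyc y) e
    rw [card_cyc, hy] at this
    exact orderOf_dvd_iff_pow_eq_one.1 this
  have hm : QuotientGroup.mk' (cyc y) (x ^ 3) = QuotientGroup.mk' (cyc y) x := by
    rw [map_pow, pow_succ, ← hv, pow_orderOf_eq_one, one_mul]
  refine ⟨x ^ 3, ⟨?_, fun e => ?_⟩, hm⟩
  · rw [← Subgroup.coe_mul, show x ^ 3 * x ^ 3 = (x * x) ^ 3 from ((Commute.refl x).mul_pow 3).symm, hx3,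
      Subgroup.coe_one]
  · rw [show x ^ 3 = 1 from Subtype.ext e, map_one] at hm
    rw [← hm, orderOf_one] at hv
    norm_num at hv

theorem mem_centralizer_mk {u : ↥(centralizer ({y} : Set G))} (hu : IsI (u : G))
    (x : ↥(centralizer ({y} : Set G))) :
    QuotientGroup.mk' (cyc y) x ∈ centralizer ({QuotientGroup.mk' (cyc y) u} : Set (XQ y)) ↔
      (x : G) ∈ centralizer ({(u : G)} : Set G) := by
  rw [← mem_comap, JTwo.comap_centralizer (by rw [hy]; decide) (Subtype.ext hu.1), mem_subgroupOf]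

/-- The quotient has the eight type. -/
theorem eight : EightType (QuotientGroup.mk' (cyc y) (h.zX hyC hy)) where
  ord := h.mk_invol hyC hy (u := h.zX hyC hy) h.isI
  card := by
    have e := JTwo.card_centralizer_quot (g := y) (u := h.zX hyC hy) (by rw [hy]; decide)
      (Subtype.ext h.zz)
    rw [h.card_three hyC hy, hy] at e
    omega
  five := by
    rw [← h.card_invol_X hyC hy]
    refine (Nat.card_eq_of_bijective (fun u : {u : G // (u ∈ centralizer ({y} : Set G) ∧
        u ∈ centralizer ({z} : Set G)) ∧ IsI u} =>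
      (⟨QuotientGroup.mk' (cyc y) ⟨u.1, u.2.1.1⟩,
        (h.mem_centralizer_mk hyC hy (u := h.zX hyC hy) h.isI _).2 u.2.1.2,
        h.mk_invol hyC hy (u := ⟨u.1, u.2.1.1⟩) u.2.2⟩ :
        {d : XQ y // d ∈ centralizer ({QuotientGroup.mk' (cyc y) (h.zX hyC hy)} : Set (XQ y)) ∧ orderOf d = 2}))
      ⟨?_, ?_⟩).symm
    · intro a b e
      refine Subtype.ext (JTwo.eq_of_invol_coset (g := y) (by rw [hy]; decide)
        (mem_centralizer_singleton_iff.1 b.2.1.1) b.2.2.1 a.2.2.1 ?_)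
      have e' : (QuotientGroup.mk (s := cyc y) (⟨b.1, b.2.1.1⟩ : ↥(centralizer ({y} : Set G)))) =
          QuotientGroup.mk (⟨a.1, a.2.1.1⟩ : ↥(centralizer ({y} : Set G))) := (congrArg Subtype.val e).symm
      exact (mem_cyc (r := (⟨b.1, b.2.1.1⟩ : ↥(centralizer ({y} : Set G)))⁻¹ * ⟨a.1, a.2.1.1⟩)).1
        (QuotientGroup.eq.1 e')
    · rintro ⟨v, hvc, hv⟩
      obtain ⟨u, hu, rfl⟩ := h.exists_invol_lift hyC hy hv
      exact ⟨⟨u, ⟨u.2, (h.mem_centralizer_mk hyC hy (u := h.zX hyC hy) h.isI u).1 hvc⟩, hu⟩, rfl⟩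
  one := by
    intro v hv
    obtain ⟨u, hu, rfl⟩ := h.exists_invol_lift hyC hy hv
    obtain ⟨g, hg, hgu⟩ := h.conj_in_X hyC hy hu u.2
    refine isConj_iff.2 ⟨QuotientGroup.mk' (cyc y) ⟨g, hg⟩, ?_⟩
    rw [← map_inv, ← map_mul, ← map_mul]
    exact congrArg _ (Subtype.ext hgu)

theorem cyc_fixed {k : ↥(centralizer ({y} : Set G))} (hk : k ∈ cyc y) : z * (k : G) * z = k := by
  refine (invol_fix_iff h.zz _).2 ?_
  obtain ⟨j, hj⟩ := mem_zpowers_iff.1 (mem_cyc.1 hk)
  rw [← hj]
  exact ((show Commute z y from (mem_centralizer_singleton_iff.1 hyC).symm).zpow_right j).eq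

/-- An inverted element of the centralizer which lands in the cyclic group is trivial. -/
theorem cyc_inverted {k : ↥(centralizer ({y} : Set G))} (hk : k ∈ cyc y) (hi : z * (k : G) * z = (k : G)⁻¹) :
    k = 1 := by
  rw [h.cyc_fixed hyC hy hk] at hi
  have hodd : Odd (orderOf (k : G)) := (show Odd (orderOf y) by rw [hy]; decide).of_dvd_nat
    (orderOf_dvd_of_mem_zpowers (mem_cyc.1 hk))
  exact Subtype.ext (eq_one_of_odd_of_mul_self hodd (by nth_rw 2 [hi]; exact mul_inv_cancel _))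

theorem isInv_mk {x : ↥(centralizer ({y} : Set G))} (hx : IsInv z (x : G)) :
    IsOddInv (QuotientGroup.mk' (cyc y) (h.zX hyC hy)) (QuotientGroup.mk' (cyc y) x) := by
  refine ⟨fun e => hx.1 ?_, ?_, ?_⟩
  · rw [h.cyc_inverted hyC hy ((QuotientGroup.eq_one_iff x).1 e) hx.2.2, Subgroup.coe_one]
  · exact hx.2.1.of_dvd_nat ((orderOf_map_dvd _ x).trans (by rw [Subgroup.orderOf_coe]))
  · rw [← map_mul, ← map_mul, ← map_inv]
    exact congrArg _ (Subtype.ext hx.2.2)

theorem exists_lift_inv {v : XQ y} (hv : IsOddInv (QuotientGroup.mk' (cyc y) (h.zX hyC hy)) v) :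
    ∃ x : ↥(centralizer ({y} : Set G)), IsInv z (x : G) ∧ QuotientGroup.mk' (cyc y) x = v := by
  obtain ⟨x, rfl⟩ := QuotientGroup.mk'_surjective (cyc y) v
  obtain ⟨hv1, hvo, hvi⟩ := hv
  rw [← map_mul, ← map_mul, ← map_inv] at hvi
  set k := x * (h.zX hyC hy * x * h.zX hyC hy) with hk
  have hkc : k ∈ cyc y := (QuotientGroup.eq_one_iff k).1 (by
    rw [← QuotientGroup.mk'_apply, hk, map_mul, hvi, map_inv, mul_inv_cancel])
  set x' := x * k with hx'
  have hm : QuotientGroup.mk' (cyc y) x' = QuotientGroup.mk' (cyc y) x := by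
    rw [hx', map_mul, show QuotientGroup.mk' (cyc y) k = 1 from (QuotientGroup.eq_one_iff k).2 hkc, mul_one]
  refine ⟨x', ⟨fun e => hv1 ?_, ?_, ?_⟩, hm⟩
  · rw [← hm, show x' = 1 from Subtype.ext e, map_one]
  · have h3 : (x' ^ orderOf (QuotientGroup.mk' (cyc y) x)) ^ 3 = 1 := by
      have e : x' ^ orderOf (QuotientGroup.mk' (cyc y) x) ∈ cyc y := (QuotientGroup.eq_one_iff _).1 (by
        rw [← QuotientGroup.mk'_apply, map_pow, hm, pow_orderOf_eq_one])
      have := orderOf_dvd_natCard (cyc y) e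
      rw [card_cyc, hy] at this
      exact orderOf_dvd_iff_pow_eq_one.1 this
    rw [← pow_mul] at h3
    rw [Subgroup.orderOf_coe]
    exact (hvo.mul (by decide : Odd 3)).of_dvd_nat (orderOf_dvd_of_pow_eq_one h3)
  · have hkg := h.cyc_fixed hyC hy hkc
    have hkk : (k : G) * (k : G) * (k : G) = 1 := by
      have := orderOf_dvd_natCard (cyc y) hkc
      rw [card_cyc, hy] at this
      have e := congrArg Subtype.val (orderOf_dvd_iff_pow_eq_one.1 this)
      rwa [Subgroup.coe_pow, pow_succ, pow_two, Subgroup.coe_one] at e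
    have hxk : (k : G) * (x : G) = x * k := by
      obtain ⟨j, hj⟩ := mem_zpowers_iff.1 (mem_cyc.1 hkc)
      rw [← hj]
      exact ((show Commute y (x : G) from (mem_centralizer_singleton_iff.1 x.2).symm).zpow_left j).eq
    show z * ((x : G) * k) * z = ((x : G) * k)⁻¹
    have e : z * (x : G) * z = (x : G)⁻¹ * k := by
      show _ = (x : G)⁻¹ * ((x : G) * (z * (x : G) * z))
      group
    rw [invol_conj_mul_map h.zz, e, hkg, _root_.mul_inv_rev,
      ((show Commute (k : G) (x : G) from hxk).inv_left.inv_right).eq, mul_assoc]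
    congr 1
    exact eq_inv_of_mul_eq_one_left hkk

theorem lift_unique {x x' : ↥(centralizer ({y} : Set G))} (hx : IsInv z (x : G)) (hx' : IsInv z (x' : G))
    (e : QuotientGroup.mk' (cyc y) x = QuotientGroup.mk' (cyc y) x') : x = x' := by
  set k := x⁻¹ * x' with hk
  have hkc : k ∈ cyc y := QuotientGroup.eq.1 e
  have hkg := h.cyc_fixed hyC hy hkc
  obtain ⟨j, hj⟩ := mem_zpowers_iff.1 (mem_cyc.1 hkc)
  have hkx : Commute (k : G) (x : G) :=
    hj ▸ (show Commute y (x : G) from (mem_centralizer_singleton_iff.1 x.2).symm).zpow_left j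
  have e' : (x' : G) = (x : G) * k := by rw [hk]; simp
  have hi := hx'.2.2
  rw [e', invol_conj_mul_map h.zz, hx.2.2, hkg, _root_.mul_inv_rev,
    (hkx.inv_left.inv_right).eq] at hi
  have := h.cyc_inverted hyC hy hkc (by rw [hkg]; exact mul_left_cancel hi)
  rw [hk, inv_mul_eq_one] at this
  exact this

theorem card_invX :
    Nat.card {x : G // x ∈ centralizer ({y} : Set G) ∧ IsInv z x} =
      Nat.card {v : XQ y // IsOddInv (QuotientGroup.mk' (cyc y) (h.zX hyC hy)) v} := by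
  refine Nat.card_eq_of_bijective (fun x => ⟨QuotientGroup.mk' (cyc y) ⟨x.1, x.2.1⟩,
    h.isInv_mk hyC hy (x := ⟨x.1, x.2.1⟩) x.2.2⟩) ⟨fun a b e => ?_, fun v => ?_⟩
  · have e' : (⟨a.1, a.2.1⟩ : ↥(centralizer ({y} : Set G))) = ⟨b.1, b.2.1⟩ :=
      h.lift_unique hyC hy a.2.2 b.2.2 (congrArg Subtype.val e)
    exact Subtype.ext (Subtype.mk.injEq _ _ _ _ ▸ e')
  · obtain ⟨x, hx, e⟩ := h.exists_lift_inv hyC hy v.2
    exact ⟨⟨x, x.2, hx⟩, Subtype.ext e⟩

theorem card_X : Nat.card (centralizer ({y} : Set G)) = 3 * Nat.card (XQ y) := by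
  have := (cyc y).card_mul_index
  rw [index_eq_card, card_cyc, hy] at this
  exact this.symm

theorem pow_lift {x : ↥(centralizer ({y} : Set G))} (hx : IsInv z (x : G)) {p : ℕ}
    (e : QuotientGroup.mk' (cyc y) x ^ p = 1) : (x : G) ^ p = 1 := by
  rw [← map_pow] at e
  have := h.cyc_inverted hyC hy ((QuotientGroup.eq_one_iff _).1 e) (by
    rw [Subgroup.coe_pow]
    have e := conj_zpow_of_inverts (show z * (x : G) * z⁻¹ = (x : G)⁻¹ by
      rw [inv_eq_of_mul_eq_one_right h.zz]; exact hx.2.2) (p : ℤ)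
    rwa [zpow_neg, zpow_natCast, inv_eq_of_mul_eq_one_right h.zz] at e)
  rw [← Subgroup.coe_pow, this, Subgroup.coe_one]

/-- The centralizer of an inverted element in the centralizer of `y`. -/
theorem cent_lift (x : ↥(centralizer ({y} : Set G))) :
    (Nat.card (centralizer ({(x : G)} : Set G) ⊓ centralizer ({y} : Set G) : Subgroup G) ∣
        3 * Nat.card (centralizer ({QuotientGroup.mk' (cyc y) x} : Set (XQ y)))) ∧
      ((∀ g : ↥(centralizer ({y} : Set G)), QuotientGroup.mk' (cyc y) g ∈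
          centralizer ({QuotientGroup.mk' (cyc y) x} : Set (XQ y)) → (g : G) * x = x * g) →
        Nat.card (centralizer ({(x : G)} : Set G) ⊓ centralizer ({y} : Set G) : Subgroup G) =
          3 * Nat.card (centralizer ({QuotientGroup.mk' (cyc y) x} : Set (XQ y)))) := by
  set K := centralizer ({QuotientGroup.mk' (cyc y) x} : Set (XQ y))
  set P := K.comap (QuotientGroup.mk' (cyc y)) with hP
  have hcard : Nat.card P = 3 * Nat.card K := by
    have h1 := P.card_mul_index
    rw [hP, index_comap_of_surjective _ (QuotientGroup.mk'_surjective _)] at h1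
    have h2 := K.card_mul_index
    rw [h.card_X hyC hy, ← h2, ← mul_assoc] at h1
    exact Nat.eq_of_mul_eq_mul_right (Nat.pos_of_ne_zero K.index_ne_zero_of_finite) h1
  have he : Nat.card (centralizer ({(x : G)} : Set G) ⊓ centralizer ({y} : Set G) : Subgroup G) =
      Nat.card ((centralizer ({(x : G)} : Set G)).subgroupOf (centralizer ({y} : Set G))) := by
    rw [← Nat.card_congr (subgroupOfEquivOfLe (inf_le_right : centralizer ({(x : G)} : Set G) ⊓
      centralizer ({y} : Set G) ≤ _)).toEquiv, inf_subgroupOf_right]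
  have hle : (centralizer ({(x : G)} : Set G)).subgroupOf (centralizer ({y} : Set G)) ≤ P := fun g hg => by
    rw [hP, mem_comap, mem_centralizer_singleton_iff, ← map_mul, ← map_mul]
    exact congrArg _ (Subtype.ext (mem_centralizer_singleton_iff.1 (mem_subgroupOf.1 hg)))
  rw [he, ← hcard]
  exact ⟨card_dvd_of_le hle, fun hall => congrArg (fun K : Subgroup _ => Nat.card K)
    (le_antisymm hle fun g hg => mem_subgroupOf.2 (mem_centralizer_singleton_iff.2 (hall g hg)))⟩

/-- The two possibilities for the centralizer of `y`. -/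
theorem X_cases :
    (Nat.card (centralizer ({y} : Set G)) = 504 ∧
      Nat.card {x : G // x ∈ centralizer ({y} : Set G) ∧ IsInv z x} = 8 ∧
      ∀ x, x ∈ centralizer ({y} : Set G) → IsInv z x → x ^ 3 = 1 ∧
        Nat.card (centralizer ({x} : Set G) ⊓ centralizer ({y} : Set G) : Subgroup G) = 9) ∨
    (Nat.card (centralizer ({y} : Set G)) = 1080 ∧
      Nat.card {x : G // x ∈ centralizer ({y} : Set G) ∧ IsInv z x} = 32 ∧
      Nat.card {x : G // (x ∈ centralizer ({y} : Set G) ∧ IsInv z x) ∧ x ^ 5 = 1} = 16 ∧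
      ∀ x, x ∈ centralizer ({y} : Set G) → IsInv z x →
        (x ^ 5 = 1 ∧ Nat.card (centralizer ({x} : Set G) ⊓ centralizer ({y} : Set G) : Subgroup G) = 15 ∧
          ∀ d ∈ centralizer ({y} : Set G), d ∈ centralizer ({z} : Set G) → d * x * d⁻¹ ∈ zpowers x →
            d ∈ zpowers y ∨ d * z ∈ zpowers y) ∨
        (x ^ 3 = 1 ∧ Nat.card (centralizer ({x} : Set G) ⊓ centralizer ({y} : Set G) : Subgroup G) ∣ 27)) := by
  have E := h.eight hyC hy
  have hX := h.card_X hyC hy
  have hI := h.card_invX hyC hy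
  rcases E.cases with ⟨h1, h2, h3⟩ | ⟨h1, h2, h5, h3⟩
  · refine Or.inl ⟨by rw [hX, h1], by rw [hI, h2], fun x hxy hx => ?_⟩
    have hv := h.isInv_mk hyC hy (x := ⟨x, hxy⟩) hx
    obtain ⟨hv3, hvc⟩ := h3 _ hv
    refine ⟨h.pow_lift hyC hy (x := ⟨x, hxy⟩) hx hv3, ?_⟩
    obtain ⟨-, he⟩ := h.cent_lift hyC hy ⟨x, hxy⟩
    rw [he ?_, hvc]
    intro g hg
    set P := (centralizer ({QuotientGroup.mk' (cyc y) (⟨x, hxy⟩ : ↥(centralizer ({y} : Set G)))} :
      Set (XQ y))).comap (QuotientGroup.mk' (cyc y)) with hP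
    have hcard : Nat.card P = 3 ^ 2 := by
      have h1 := P.card_mul_index
      rw [hP, index_comap_of_surjective _ (QuotientGroup.mk'_surjective _)] at h1
      have h2 := (centralizer ({QuotientGroup.mk' (cyc y) (⟨x, hxy⟩ : ↥(centralizer ({y} : Set G)))} :
        Set (XQ y))).card_mul_index
      rw [h.card_X hyC hy, ← h2, ← mul_assoc, hvc] at h1
      exact Nat.eq_of_mul_eq_mul_right (Nat.pos_of_ne_zero (Subgroup.index_ne_zero_of_finite)) h1
    haveI : Fact (Nat.Prime 3) := ⟨Nat.prime_three⟩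
    exact congrArg (fun r : P => ((r : ↥(centralizer ({y} : Set G))) : G))
      ((IsPGroup.isMulCommutative_of_card_eq_prime_sq hcard).is_comm.comm (⟨g, hg⟩ : P)
        ⟨⟨x, hxy⟩, mem_centralizer_singleton_iff.2 rfl⟩)
  · refine Or.inr ⟨by rw [hX, h1], by rw [hI, h2], ?_, fun x hxy hx => ?_⟩
    · rw [← h5]
      refine Nat.card_eq_of_bijective (fun x => ⟨QuotientGroup.mk' (cyc y) ⟨x.1, x.2.1.1⟩,
        h.isInv_mk hyC hy (x := ⟨x.1, x.2.1.1⟩) x.2.1.2, by
          rw [← map_pow, show (⟨x.1, x.2.1.1⟩ : ↥(centralizer ({y} : Set G))) ^ 5 = 1 from Subtype.ext x.2.2,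
            map_one]⟩) ⟨fun a b e => ?_, fun v => ?_⟩
      · have e' : (⟨a.1, a.2.1.1⟩ : ↥(centralizer ({y} : Set G))) = ⟨b.1, b.2.1.1⟩ :=
          h.lift_unique hyC hy a.2.1.2 b.2.1.2 (congrArg Subtype.val e)
        exact Subtype.ext (Subtype.mk.injEq _ _ _ _ ▸ e')
      · obtain ⟨x, hx, e⟩ := h.exists_lift_inv hyC hy v.2.1
        exact ⟨⟨x, ⟨x.2, hx⟩, h.pow_lift hyC hy hx (by rw [e]; exact v.2.2)⟩, Subtype.ext e⟩
    · have hv := h.isInv_mk hyC hy (x := ⟨x, hxy⟩) hx
      obtain ⟨hd, he⟩ := h.cent_lift hyC hy ⟨x, hxy⟩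
      rcases h3 _ hv with ⟨hv5, hvc, hvk⟩ | ⟨hv3, hvc⟩
      · have hx5 := h.pow_lift hyC hy (x := ⟨x, hxy⟩) hx hv5
        refine Or.inl ⟨hx5, ?_, ?_⟩
        · rw [he ?_, hvc]
          intro g hg
          set k := (⟨x, hxy⟩ : ↥(centralizer ({y} : Set G)))⁻¹ * (g * ⟨x, hxy⟩ * g⁻¹) with hk
          have hkc : k ∈ cyc y := (QuotientGroup.eq_one_iff k).1 (by
            have e := mem_centralizer_singleton_iff.1 hg
            rw [← QuotientGroup.mk'_apply, hk, map_mul, map_mul, map_mul, e, map_inv, map_inv,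
              mul_inv_cancel_right, inv_mul_cancel])
          obtain ⟨j, hj⟩ := mem_zpowers_iff.1 (mem_cyc.1 hkc)
          have hkx : Commute x (k : G) :=
            hj ▸ (show Commute x y from mem_centralizer_singleton_iff.1 hxy).zpow_right j
          have hk5 : (k : G) ^ 5 = 1 := by
            have e : (g : G) * x * (g : G)⁻¹ = x * k := by rw [hk]; simp
            have e5 := congrArg (· ^ 5) e
            simp only [conj_pow, hx5, hkx.mul_pow, one_mul, mul_one, mul_inv_cancel] at e5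
            exact e5.symm
          have hk3 : (k : G) ^ 3 = 1 := by
            have := orderOf_dvd_natCard (zpowers y) (mem_cyc.1 hkc)
            rw [Nat.card_zpowers, hy] at this
            exact orderOf_dvd_iff_pow_eq_one.1 this
          have hk1 : (k : G) = 1 := orderOf_eq_one_iff.1 (Nat.eq_one_of_dvd_coprimes
            (by norm_num : Nat.Coprime 5 3) (orderOf_dvd_of_pow_eq_one hk5) (orderOf_dvd_of_pow_eq_one hk3))
          have e : (g : G) * x * (g : G)⁻¹ = x * k := by rw [hk]; simp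
          rw [hk1, mul_one] at e
          exact mul_inv_eq_iff_eq_mul.1 e
        · intro d hdy hdC hdx
          set K := centralizer ({QuotientGroup.mk' (cyc y) (⟨x, hxy⟩ : ↥(centralizer ({y} : Set G)))} : Set (XQ y))
          have hK : K = zpowers (QuotientGroup.mk' (cyc y) (⟨x, hxy⟩ : ↥(centralizer ({y} : Set G)))) := by
            refine (eq_of_le_of_card_ge (zpowers_le.2 (mem_centralizer_singleton_iff.2 rfl)) ?_).symm
            haveI : Fact (Nat.Prime 5) := ⟨by norm_num⟩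
            rw [hvc, Nat.card_zpowers, orderOf_eq_prime hv5 hv.1]
          set D : ↥(centralizer ({y} : Set G)) := ⟨d, hdy⟩
          have hmap : K.map (MulAut.conj (QuotientGroup.mk' (cyc y) D)).toMonoidHom = K := by
            refine eq_of_le_of_card_ge ?_ (card_map_of_injective (MulAut.conj _).injective).ge
            rw [hK, MonoidHom.map_zpowers, zpowers_le, mem_zpowers_iff]
            obtain ⟨j, hj⟩ := mem_zpowers_iff.1 hdx
            refine ⟨j, ?_⟩
            rw [← map_zpow, MulEquiv.toMonoidHom_eq_coe, MonoidHom.coe_coe, MulAut.conj_apply, ← map_inv,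
              ← map_mul, ← map_mul]
            exact congrArg _ (Subtype.ext (by rw [SubgroupClass.coe_zpow]; exact hj))
          have hmem : ∀ {g : XQ y}, g ∈ K ↔ QuotientGroup.mk' (cyc y) D * g * (QuotientGroup.mk' (cyc y) D)⁻¹ ∈ K := by
            intro g
            conv_rhs => rw [← hmap]
            rw [mem_map]
            constructor
            · exact fun hg => ⟨g, hg, rfl⟩
            · rintro ⟨g', hg', e⟩
              rwa [(MulAut.conj (QuotientGroup.mk' (cyc y) D)).injective e] at hg'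
          have hDS : QuotientGroup.mk' (cyc y) D ∈ stab (QuotientGroup.mk' (cyc y) (h.zX hyC hy)) K :=
            ⟨(h.mem_centralizer_mk hyC hy (u := h.zX hyC hy) h.isI D).2 hdC, mem_normalizer_iff.2 fun g => hmem⟩
          have hzi : (QuotientGroup.mk' (cyc y) (h.zX hyC hy))⁻¹ = QuotientGroup.mk' (cyc y) (h.zX hyC hy) :=
            invol_inv E.ord
          have hzS : QuotientGroup.mk' (cyc y) (h.zX hyC hy) ∈ stab (QuotientGroup.mk' (cyc y) (h.zX hyC hy)) K :=
            ⟨mem_centralizer_singleton_iff.2 rfl, mem_normalizer_iff.2 fun g => by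
              have key : ∀ g ∈ K, QuotientGroup.mk' (cyc y) (h.zX hyC hy) * g *
                  (QuotientGroup.mk' (cyc y) (h.zX hyC hy))⁻¹ ∈ K := fun g hg => by
                rw [hK] at hg ⊢
                obtain ⟨j, rfl⟩ := mem_zpowers_iff.1 hg
                rw [conj_zpow_of_inverts (by rw [hzi]; exact hv.2.2) j]
                exact zpow_mem (mem_zpowers _) _
              refine ⟨key g, fun hg => ?_⟩
              have := key _ hg
              rwa [hzi, invol_conj_twice (invol_mul_self E.ord)] at this⟩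
          by_cases hD1 : QuotientGroup.mk' (cyc y) D = 1
          · exact Or.inl (mem_cyc.1 ((QuotientGroup.eq_one_iff D).1 hD1))
          · obtain ⟨w, -, hwu⟩ := (Nat.card_eq_two_iff' (1 : stab (QuotientGroup.mk' (cyc y) (h.zX hyC hy)) K)).1 hvk
            have e1 := hwu ⟨_, hDS⟩ fun e => hD1 (congrArg Subtype.val e)
            have e2 := hwu ⟨_, hzS⟩ fun e => invol_ne_one E.ord (congrArg Subtype.val e)
            have e3 : QuotientGroup.mk' (cyc y) (D * h.zX hyC hy) = 1 := by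
              have e4 : QuotientGroup.mk' (cyc y) D = QuotientGroup.mk' (cyc y) (h.zX hyC hy) :=
                congrArg Subtype.val (e1.trans e2.symm)
              rw [map_mul, e4]
              exact invol_mul_self E.ord
            exact Or.inr (mem_cyc.1 ((QuotientGroup.eq_one_iff _).1 e3))
      · refine Or.inr ⟨h.pow_lift hyC hy (x := ⟨x, hxy⟩) hx hv3, ?_⟩
        rw [hvc] at hd
        exact hd

end Hyp

end CfsgLib.Invol.JThreeType
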