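import Cfsg.Agent.Lib.Invol.JTwo.Bridge

/-!
# An extraspecial normal subgroup of order 32 with icosahedral quotient contains its centralizer
-/

set_option autoImplicit false

namespace CfsgLib.Invol.JThreeType

open Subgroup
open scoped commutatorElement
open CfsgLib.Invol.JTwo (Out)

local notation "A" => alternatingGroup (Fin 5)

theorem alt_center : ∀ g : A, (∀ h : A, g * h = h * g) → g = 1 := by decide +kernel

theorem two_subgroup_comm (P : Subgroup A) (hP : IsPGroup 2 P) {a b : A} (ha : a ∈ P) (hb : b ∈ P) :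
    a * b = b * a := by
  obtain ⟨k, hk⟩ := IsPGroup.iff_card.1 hP
  have hd := card_subgroup_dvd_card P
  rw [hk, JTwo.AltFive.card_A] at hd
  have hk2 : k ≤ 2 := by
    by_contra hk2
    exact absurd ((pow_dvd_pow 2 (show 3 ≤ k by omega)).trans hd) (by norm_num)
  haveI : IsMulCommutative P := by
    interval_cases k
    · exact ⟨⟨fun x y => (Nat.card_eq_one_iff_unique.1 hk).1.elim _ _⟩⟩
    · haveI := isCyclic_of_prime_card (α := P) (p := 2) hk
      exact ⟨⟨fun x y => IsCyclic.commGroup.mul_comm x y⟩⟩
    · haveI : Fact (Nat.Prime 2) := ⟨Nat.prime_two⟩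
      exact IsPGroup.isMulCommutative_of_card_eq_prime_sq (p := 2) hk
  exact congrArg Subtype.val (mul_comm' (⟨a, ha⟩ : P) ⟨b, hb⟩)

variable {G : Type*} [Group G] [Finite G]

theorem self_centralizing [IsSimpleGroup G] (z : G) (hz : orderOf z = 2)
    (E : Subgroup (centralizer ({z} : Set G))) [E.Normal] (hE : Nat.card E = 32)
    (hX : Cfsg.IsExtraspecial 2 E) (e : (centralizer ({z} : Set G)) ⧸ E ≃* A) :
    centralizer (E : Set (centralizer ({z} : Set G))) ≤ E := by
  classical
  haveI : Fact (Nat.Prime 2) := ⟨Nat.prime_two⟩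
  set φ := e.toMonoidHom.comp (QuotientGroup.mk' E) with hφ
  have hφs : Function.Surjective φ := e.surjective.comp (QuotientGroup.mk'_surjective E)
  have hφk : ∀ c, φ c = 1 ↔ c ∈ E := fun c => by
    rw [hφ, MonoidHom.comp_apply, MulEquiv.coe_toMonoidHom, map_eq_one_iff _ e.injective,
      QuotientGroup.mk'_apply, QuotientGroup.eq_one_iff]
  set M := centralizer (E : Set (centralizer ({z} : Set G))) with hM
  haveI : M.Normal := inferInstance
  haveI : IsSimpleGroup A := alternatingGroup.isSimpleGroup_five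
  rcases IsSimpleGroup.eq_bot_or_eq_top_of_normal (M.map φ) ((inferInstance : M.Normal).map φ hφs) with h | h
  · exact fun m hm => (hφk m).1 (mem_bot.1 (h ▸ mem_map_of_mem φ hm))
  exfalso
  have hsplit : ∀ c : (centralizer ({z} : Set G)), ∃ a ∈ E, ∃ m ∈ M, c = a * m := fun c => by
    obtain ⟨m, hm, hme⟩ := h.ge (mem_top (φ c))
    refine ⟨c * m⁻¹, (hφk _).1 ?_, m, hm, (inv_mul_cancel_right c m).symm⟩
    rw [map_mul, map_inv, hme, mul_inv_cancel]
  have hzC : z ∈ (centralizer ({z} : Set G)) := mem_centralizer_singleton_iff.2 rfl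
  have hzc : ∀ c : (centralizer ({z} : Set G)), (⟨z, hzC⟩ : (centralizer ({z} : Set G))) * c = c * ⟨z, hzC⟩ := fun c =>
    Subtype.ext (mem_centralizer_singleton_iff.1 c.2).symm
  have hzE : (⟨z, hzC⟩ : (centralizer ({z} : Set G))) ∈ E := (hφk _).1 (alt_center _ fun a => by
    obtain ⟨c, rfl⟩ := hφs a
    rw [← map_mul, ← map_mul, hzc])
  obtain ⟨hsc, -⟩ := CfsgLib.PGroup.smallCenter_of_extraspecial (p := 2) hX
  have hzz : z * z = 1 := invol_mul_self hz
  have hcen : ∀ a : E, a ∈ center E → ((a : (centralizer ({z} : Set G))) : G) = 1 ∨ ((a : (centralizer ({z} : Set G))) : G) = z := by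
    intro a ha
    have hzm : (⟨⟨z, hzC⟩, hzE⟩ : E) ∈ center E := mem_center_iff.2 fun b => Subtype.ext (hzc b).symm
    have hz1 : (⟨⟨z, hzC⟩, hzE⟩ : E) ≠ 1 := fun h =>
      invol_ne_one hz (congrArg (fun q : E => ((q : (centralizer ({z} : Set G))) : G)) h)
    obtain ⟨k, hk⟩ := mem_zpowers_iff.1 (hsc.zpowers_cover hzm hz1 ha)
    have hk' : ((a : (centralizer ({z} : Set G))) : G) = z ^ k := by rw [← hk]; simp
    rw [hk']
    rcases Int.even_or_odd' k with ⟨m, rfl | rfl⟩
    · left; rw [zpow_mul, zpow_two, hzz, one_zpow]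
    · right; rw [zpow_add, zpow_mul, zpow_two, hzz, one_zpow, one_mul, zpow_one]
  -- commutators in a 2-subgroup
  have hcomm : ∀ P : Subgroup (centralizer ({z} : Set G)), IsPGroup 2 P → ∀ s ∈ P, ∀ s' ∈ P,
      ((s * s' * s⁻¹ * s'⁻¹ : (centralizer ({z} : Set G))) : G) = 1 ∨ ((s * s' * s⁻¹ * s'⁻¹ : (centralizer ({z} : Set G))) : G) = z := by
    intro P hP s hs s' hs'
    obtain ⟨a, ha, m, hm, rfl⟩ := hsplit s
    obtain ⟨a', ha', m', hm', rfl⟩ := hsplit s'
    have cm : ∀ {b n : (centralizer ({z} : Set G))}, b ∈ E → n ∈ M → b * n = n * b := fun hb hn =>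
      (mem_centralizer_iff.1 hn) _ hb
    have e1 : a * m * (a' * m') * (a * m)⁻¹ * (a' * m')⁻¹ = (a * a' * a⁻¹ * a'⁻¹) * (m * m' * m⁻¹ * m'⁻¹) := by
      calc a * m * (a' * m') * (a * m)⁻¹ * (a' * m')⁻¹
          = a * (m * a') * m' * m⁻¹ * (a⁻¹ * m'⁻¹) * a'⁻¹ := by group
        _ = a * a' * (m * m' * m⁻¹ * m'⁻¹) * a⁻¹ * a'⁻¹ := by
            rw [← cm ha' hm, cm (inv_mem ha) (inv_mem hm')]; group
        _ = _ := by
            rw [mul_assoc (a * a' * (m * m' * m⁻¹ * m'⁻¹)), mul_assoc (a * a'),
              ← cm (mul_mem (inv_mem ha) (inv_mem ha')) (mul_mem (mul_mem (mul_mem hm hm') (inv_mem hm)) (inv_mem hm'))]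
            group
    have h1 : m * m' * m⁻¹ * m'⁻¹ ∈ E := (hφk _).1 (by
      have hPA : IsPGroup 2 (P.map φ) := hP.map φ
      have e' := two_subgroup_comm _ hPA (mem_map_of_mem φ hs) (mem_map_of_mem φ hs')
      have ea : φ a = 1 := (hφk a).2 ha
      have ea' : φ a' = 1 := (hφk a').2 ha'
      rw [map_mul, map_mul, ea, ea', one_mul, one_mul] at e'
      simp only [map_mul, map_inv, e', mul_inv_cancel_right, mul_inv_cancel])
    rw [e1]
    have h2 : a * a' * a⁻¹ * a'⁻¹ ∈ E := mul_mem (mul_mem (mul_mem ha ha') (inv_mem ha)) (inv_mem ha')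
    have hin : ∀ w : (centralizer ({z} : Set G)), w ∈ E → (∀ b ∈ E, b * w = w * b) → (w : G) = 1 ∨ (w : G) = z := fun w hw hwc =>
      hcen ⟨w, hw⟩ (mem_center_iff.2 fun b => Subtype.ext (hwc _ b.2))
    have p1 := hsc.comm_mem ⟨a, ha⟩ ⟨a', ha'⟩
    rcases hcen _ p1 with q1 | q1 <;> rw [commutatorElement_def] at q1 <;>
      simp only [Subgroup.coe_mul, Subgroup.coe_inv] at q1 <;>
      rcases hin _ h1 (fun b hb => cm hb (mul_mem (mul_mem (mul_mem hm hm') (inv_mem hm)) (inv_mem hm'))) with q2 | q2 <;>
      rw [Subgroup.coe_mul, q2] <;> simp only [Subgroup.coe_mul, Subgroup.coe_inv, q1, mul_one, one_mul, hzz, true_or,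
        or_true]
  -- a commuting conjugate
  obtain ⟨g, hg, hne⟩ : ∃ g : G, Commute z (g * z * g⁻¹) ∧ g * z * g⁻¹ ≠ z := by
    by_contra hx
    push Not at hx
    have hz' := CfsgLib.Invol.zstar (z := z) ⟨hz, hx⟩
    haveI := Coprime.pPrimeCore_characteristic (G := G) 2
    haveI : (Cfsg.pPrimeCore 2 G).Normal := inferInstance
    rcases (inferInstance : IsSimpleGroup G).eq_bot_or_eq_top_of_normal (Cfsg.pPrimeCore 2 G) inferInstance with he | he
    · have hCtop : (centralizer ({z} : Set G)) = ⊤ := eq_top_iff.2 fun g _ => mem_centralizer_singleton_iff.2 (by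
        have := hz' g
        rw [he, mem_bot] at this
        exact (mul_inv_eq_iff_eq_mul.1 (mul_inv_eq_one.1 this)).symm)
      haveI : (E.map (centralizer ({z} : Set G)).subtype).Normal := ⟨fun a ha c => by
        obtain ⟨b, hb, rfl⟩ := ha
        exact ⟨_, (inferInstance : E.Normal).conj_mem b hb ⟨c, hCtop ▸ mem_top c⟩, rfl⟩⟩
      have hc : Nat.card (E.map (centralizer ({z} : Set G)).subtype) = 32 := by
        rw [Nat.card_congr (E.equivMapOfInjective _ (centralizer ({z} : Set G)).subtype_injective).toEquiv.symm, hE]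
      rcases (inferInstance : IsSimpleGroup G).eq_bot_or_eq_top_of_normal (E.map (centralizer ({z} : Set G)).subtype) inferInstance with he' | he'
      · rw [he', card_bot] at hc; norm_num at hc
      · rw [he', card_top] at hc
        have h60 := card_dvd_of_surjective φ hφs
        have hd := h60.trans (card_subgroup_dvd_card (centralizer ({z} : Set G)))
        rw [hc, JTwo.AltFive.card_A] at hd
        norm_num at hd
    · refine Coprime.pPrimeCore_not_dvd (G := G) Nat.prime_two ?_
      rw [he, card_top, ← hz]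
      exact orderOf_dvd_natCard z
  set xC : (centralizer ({z} : Set G)) := ⟨g * z * g⁻¹, mem_centralizer_singleton_iff.2 hg.eq.symm⟩
  obtain ⟨a, ha, m, hm, hxe⟩ := hsplit xC
  -- two noncommuting elements of `E` commuting with `a`
  obtain ⟨b, b', hba, hb'a, hne'⟩ : ∃ b b' : E,
      b * ⟨a, ha⟩ = ⟨a, ha⟩ * b ∧ b' * ⟨a, ha⟩ = ⟨a, ha⟩ * b' ∧ b * b' ≠ b' * b := by
    set aE : E := ⟨a, ha⟩
    set W := centralizer ({aE} : Set E) with hW
    by_contra hno
    push Not at hno
    have hWc : ∀ u ∈ W, ∀ v ∈ W, u * v = v * u := fun u hu v hv => hno u v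
      (mem_centralizer_singleton_iff.1 hu) (mem_centralizer_singleton_iff.1 hv)
    -- a centralizer of an element has index at most two
    have hidx : ∀ u : E, (centralizer ({u} : Set E)).index ≤ 2 := by
      intro u
      let f : E ⧸ centralizer ({u} : Set E) → center E :=
        Quotient.lift (fun v : E => (⟨⁅v, u⁆, hsc.comm_mem v u⟩ : center E)) fun v w hvw => Subtype.ext (by
          have hvw' : v⁻¹ * w ∈ centralizer ({u} : Set E) := QuotientGroup.leftRel_apply.1 hvw
          have h := mem_centralizer_singleton_iff.1 hvw'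
          show v * u * v⁻¹ * u⁻¹ = w * u * w⁻¹ * u⁻¹
          calc v * u * v⁻¹ * u⁻¹ = v * (u * (v⁻¹ * w)) * w⁻¹ * u⁻¹ := by group
            _ = v * (v⁻¹ * w * u) * w⁻¹ * u⁻¹ := by rw [h]
            _ = _ := by group)
      have hf : Function.Injective f := by
        intro p q
        induction p using Quotient.inductionOn with
        | h v =>
          induction q using Quotient.inductionOn with
          | h w =>
            intro he
            have he' : v * u * v⁻¹ * u⁻¹ = w * u * w⁻¹ * u⁻¹ := congrArg Subtype.val he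
            refine Quotient.sound (QuotientGroup.leftRel_apply.2 (mem_centralizer_singleton_iff.2 ?_))
            have he2 : v * u * v⁻¹ = w * u * w⁻¹ := mul_right_cancel he'
            calc v⁻¹ * w * u = v⁻¹ * (w * u * w⁻¹) * w := by group
              _ = v⁻¹ * (v * u * v⁻¹) * w := by rw [he2]
              _ = u * (v⁻¹ * w) := by group
      rw [index_eq_card]
      refine (Nat.card_le_card_of_injective f hf).trans ?_
      have hinj : Function.Injective (fun c : center E => decide (((c : E) : (centralizer ({z} : Set G))).1 = 1)) := by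
        intro c d hcd
        have hcd' := decide_eq_decide.1 hcd
        refine Subtype.ext (Subtype.ext (Subtype.ext ?_))
        rcases hcen c c.2 with p | p <;> rcases hcen d d.2 with q | q
        · rw [p, q]
        · exact absurd (q.symm.trans (hcd'.1 p)) (invol_ne_one hz)
        · exact absurd (p.symm.trans (hcd'.2 q)) (invol_ne_one hz)
        · rw [p, q]
      exact (Nat.card_le_card_of_injective _ hinj).trans (by simp)
    have h16 : 16 ≤ Nat.card W := by
      have h := W.card_mul_index
      rw [hE] at h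
      have := hidx aE
      nlinarith
    obtain ⟨d, hd⟩ : ∃ d : E, d ∉ W := by
      by_contra hall
      push Not at hall
      have key : ∀ u v : E, u * v = v * u := fun u v => hWc u (hall u) v (hall v)
      have hsub : Nat.card E ≤ Nat.card Bool := Nat.card_le_card_of_injective
        (fun c : E => decide ((c : (centralizer ({z} : Set G))).1 = 1)) fun c d hcd => by
          have hcd' := decide_eq_decide.1 hcd
          refine Subtype.ext (Subtype.ext ?_)
          rcases hcen c (mem_center_iff.2 fun v => key v c) with p | p <;>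
            rcases hcen d (mem_center_iff.2 fun v => key v d) with q | q
          · rw [p, q]
          · exact absurd (q.symm.trans (hcd'.1 p)) (invol_ne_one hz)
          · exact absurd (p.symm.trans (hcd'.2 q)) (invol_ne_one hz)
          · rw [p, q]
      rw [hE, Nat.card_eq_fintype_card, Fintype.card_bool] at hsub
      norm_num at hsub
    set D := W ⊓ centralizer ({d} : Set E)
    have hD : ∀ u ∈ D, u ∈ center E := by
      intro u hu
      have h1 : W ≤ centralizer ({u} : Set E) := fun v hv =>
        mem_centralizer_singleton_iff.2 (hWc v hv u hu.1)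
      have h2 : d ∈ centralizer ({u} : Set E) :=
        mem_centralizer_singleton_iff.2 (mem_centralizer_singleton_iff.1 hu.2).symm
      have hlt : W < centralizer ({u} : Set E) := lt_of_le_of_ne h1 fun he => hd (he ▸ h2)
      have htop : centralizer ({u} : Set E) = ⊤ := by
        have hc := card_subgroup_dvd_card (centralizer ({u} : Set E))
        have hlt' : Nat.card W < Nat.card (centralizer ({u} : Set E)) := by
          by_contra hh
          exact hlt.ne (eq_of_le_of_card_ge h1 (by omega))
        refine eq_top_of_card_eq _ (Nat.le_antisymm (Nat.le_of_dvd (by omega) hc) ?_)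
        obtain ⟨k, hk, hke⟩ := (Nat.dvd_prime_pow Nat.prime_two (m := 5)
          (i := Nat.card (centralizer ({u} : Set E)))).1 (by rw [show (2 : ℕ) ^ 5 = 32 from rfl, ← hE]; exact hc)
        rw [hE]
        rw [hke] at hlt' ⊢
        interval_cases k <;> omega
      exact mem_center_iff.2 fun v => mem_centralizer_singleton_iff.1 (htop ▸ mem_top v)
    have h8 : 3 ≤ Nat.card D := by
      have h := relIndex_mul_index (inf_le_left : D ≤ W)
      have h' := D.card_mul_index
      have hl : D.index ≤ W.index * (centralizer ({d} : Set E)).index := index_inf_le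
      have hw := W.card_mul_index
      rw [hE] at h' hw
      have := hidx d
      have := hidx aE
      nlinarith
    have : Nat.card D ≤ Nat.card Bool := Nat.card_le_card_of_injective
      (fun c : D => decide (((c : E) : (centralizer ({z} : Set G))).1 = 1)) fun c d hcd => by
        have hcd' := decide_eq_decide.1 hcd
        refine Subtype.ext (Subtype.ext (Subtype.ext ?_))
        rcases hcen c (hD c c.2) with p | p <;> rcases hcen d (hD d d.2) with q | q
        · rw [p, q]
        · exact absurd (q.symm.trans (hcd'.1 p)) (invol_ne_one hz)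
        · exact absurd (p.symm.trans (hcd'.2 q)) (invol_ne_one hz)
        · rw [p, q]
    rw [Nat.card_eq_fintype_card (α := Bool), Fintype.card_bool] at this
    omega
  -- transport into the centralizer
  have hcx : ∀ c : E, c * ⟨a, ha⟩ = ⟨a, ha⟩ * c → ((c : (centralizer ({z} : Set G))) : G) * (g * z * g⁻¹) = g * z * g⁻¹ * ((c : (centralizer ({z} : Set G))) : G) := by
    intro c hc
    have h1 : (c : (centralizer ({z} : Set G))) * a = a * c := congrArg Subtype.val hc
    have h2 : (c : (centralizer ({z} : Set G))) * m = m * c := (mem_centralizer_iff.1 hm) _ c.2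
    have h3 : (c : (centralizer ({z} : Set G))) * xC = xC * c := by rw [hxe, ← mul_assoc, h1, mul_assoc, h2, mul_assoc]
    exact congrArg Subtype.val h3
  set W₀ := (E.map (centralizer ({z} : Set G)).subtype) ⊓ centralizer ({g * z * g⁻¹} : Set G)
  have hW₀ : IsPGroup 2 ((W₀.map (MulAut.conj g⁻¹).toMonoidHom).subgroupOf (centralizer ({z} : Set G))) := by
    refine IsPGroup.comap_subtype (IsPGroup.map (IsPGroup.to_le ?_ inf_le_left) _)
    exact (IsPGroup.of_card (n := 5) (by rw [hE]; rfl) : IsPGroup 2 E).map _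
  have hmem : ∀ c : E, c * ⟨a, ha⟩ = ⟨a, ha⟩ * c → ∃ h : g⁻¹ * ((c : (centralizer ({z} : Set G))) : G) * g ∈ (centralizer ({z} : Set G)),
      (⟨_, h⟩ : (centralizer ({z} : Set G))) ∈ (W₀.map (MulAut.conj g⁻¹).toMonoidHom).subgroupOf (centralizer ({z} : Set G)) := fun c hc =>
    ⟨JTwo.mem_centralizer_conj.1 (mem_centralizer_singleton_iff.2 (hcx c hc)),
      mem_subgroupOf.2 ⟨(c : (centralizer ({z} : Set G))), ⟨⟨c, c.2, rfl⟩, mem_centralizer_singleton_iff.2 (hcx c hc)⟩, by simp⟩⟩
  obtain ⟨h1, h1'⟩ := hmem b hba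
  obtain ⟨h2, h2'⟩ := hmem b' hb'a
  have hk : ((b : (centralizer ({z} : Set G))) : G) * b' * ((b : (centralizer ({z} : Set G))) : G)⁻¹ * ((b' : (centralizer ({z} : Set G))) : G)⁻¹ = z := by
    rcases hcen _ (hsc.comm_mem b b') with q | q <;> rw [commutatorElement_def] at q <;>
      simp only [Subgroup.coe_mul, Subgroup.coe_inv] at q
    · refine absurd (Subtype.ext (Subtype.ext ?_)) hne'
      show ((b : (centralizer ({z} : Set G))) : G) * b' = (b' : (centralizer ({z} : Set G))) * (b : (centralizer ({z} : Set G)))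
      calc ((b : (centralizer ({z} : Set G))) : G) * b' = ((b : (centralizer ({z} : Set G))) : G) * b' * ((b : (centralizer ({z} : Set G))) : G)⁻¹ * ((b' : (centralizer ({z} : Set G))) : G)⁻¹ * ((b' : (centralizer ({z} : Set G))) * (b : (centralizer ({z} : Set G)))) := by group
        _ = _ := by rw [q, one_mul]
    · exact q
  have hgz : g⁻¹ * z * g = ((⟨_, h1⟩ * ⟨_, h2⟩ * (⟨_, h1⟩ : (centralizer ({z} : Set G)))⁻¹ * (⟨_, h2⟩ : (centralizer ({z} : Set G)))⁻¹ : (centralizer ({z} : Set G))) : G) := by
    simp only [Subgroup.coe_mul, Subgroup.coe_inv]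
    nth_rw 1 [show z = ((b : (centralizer ({z} : Set G))) : G) * b' * ((b : (centralizer ({z} : Set G))) : G)⁻¹ *
      ((b' : (centralizer ({z} : Set G))) : G)⁻¹ from hk.symm]
    group
  rcases hcomm _ hW₀ _ h1' _ h2' with q | q <;> rw [← hgz] at q
  · exact invol_ne_one hz (by
      calc z = g * (g⁻¹ * z * g) * g⁻¹ := by group
        _ = 1 := by rw [q]; group)
  · refine hne ?_
    calc g * z * g⁻¹ = g * (g⁻¹ * z * g) * g⁻¹ := by rw [q]
      _ = z := by group

end CfsgLib.Invol.JThreeType
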