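import Cfsg.Agent.Lib.Invol.JThreeType.Arith

/-!
# The arithmetic of the small case

The number `n` of involutions is `9651 + T + 1920 (m + ∑ mᵢ)` with `(T, m)` in a short list, is divisible by
`7` and is `3` modulo `9`: there is no solution.
-/

set_option autoImplicit false

namespace CfsgLib.Invol.JThreeType.Arith

/-- A value of the base number. -/
def checkB (B : ℕ) : Bool :=
  (decide (B % 7 ≠ 0) || decide (B % 9 ≠ 3)) && go 1 1 21 5 1 B 7 []

theorem small_check_one : ((List.range 7).all fun m => checkB (13491 + 1920 * m)) = true := by decide +kernel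

theorem small_check_two : ((List.range 13).all fun m => checkB (11955 + 1920 * m)) = true := by decide +kernel

variable {ι : Type*}

/-- There is no solution in the small case. -/
theorem no_small [Fintype ι] {n T m : ℕ} {a k M : ι → ℕ} (D : Data 1 1 n a k M)
    (hT : (T = 3840 ∧ m ≤ 6) ∨ (T = 2304 ∧ m ≤ 12)) (hn : n = 9651 + T + 1920 * (m + ∑ i, M i))
    (hdvd : ∀ i, a i ∣ n) (h7 : ∀ i, Nat.Coprime (a i) 7) (h7n : 7 ∣ n) (h9 : n % 9 = 3) : False := by
  classical
  obtain ⟨B, hB, hB1, hchk⟩ : ∃ B, n = B + 1920 * ∑ i, M i ∧ 1920 < B ∧ checkB B = true := by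
    rcases hT with ⟨rfl, hm⟩ | ⟨rfl, hm⟩
    · exact ⟨13491 + 1920 * m, by omega, by omega,
        List.all_eq_true.1 small_check_one m (List.mem_range.2 (by omega))⟩
    · exact ⟨11955 + 1920 * m, by omega, by omega,
        List.all_eq_true.1 small_check_two m (List.mem_range.2 (by omega))⟩
  simp only [checkB, Bool.and_eq_true, Bool.or_eq_true, decide_eq_true_eq] at hchk
  obtain ⟨h0, hgo⟩ := hchk
  rcases (Finset.univ : Finset ι).eq_empty_or_nonempty with he | hne
  · rw [he, Finset.sum_empty, mul_zero, add_zero] at hB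
    omega
  have hc : ∀ i, Nat.Coprime (a i) 21 := fun i => by
    rw [show (21 : ℕ) = 3 * 7 by norm_num]
    exact Nat.Coprime.mul_right ((D.cop30 i).coprime_dvd_right (by norm_num)) (h7 i)
  have h21 : 21 ∣ n := by omega
  have hprod : ∏ i, a i ∣ n := Finset.prod_dvd_of_isRelPrime
    (fun i _ i' _ hii => Nat.coprime_iff_isRelPrime.1 (D.cop i i' hii)) fun i _ => hdvd i
  have e := D.go_sound (L := 21) one_pos one_pos (by norm_num) 5 1 B 7 [] hgo one_pos (by norm_num) hB1
    Finset.univ hne
    (by rw [mul_one]; exact Nat.Coprime.mul_dvd_of_dvd_of_dvd (Nat.Coprime.prod_right fun i _ => (hc i).symm) h21 hprod)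
    hB (fun i _ => D.two_le i) (fun i _ => by rw [mul_one]; exact hc i) (by simp)
  omega

end CfsgLib.Invol.JThreeType.Arith
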