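import Cfsg.Agent.Lib.Invol.JThreeType.SmallPair
import Cfsg.Agent.Lib.Invol.JThreeType.Classes
import Cfsg.Agent.Lib.Spor.UFourType.ThreeAction
import Cfsg.Agent.Lib.Invol.JThreeType.SmallArith
import Cfsg.Agent.Lib.Invol.JThreeType.Families

/-!
# The small case does not occur

The inverted elements are the `320` of the class of order three, the `3840` or `2304` of order five centralising
an involution, the near ones and the families of free ones.
-/

set_option autoImplicit false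
set_option synthInstance.maxSize 4096

namespace CfsgLib.Invol.JThreeType

open Subgroup
open CfsgLib.Invol.JTwo (PreHyp Frame Out cj mem_cj card_orbit_mul centralizer_of_zpowers_eq)

variable {G : Type*} [Group G] {z : G}

/-- An inverted element without fixed points in the centralizer. -/
def Lone (z x : G) : Prop := IsInv z x ∧ ∀ c ∈ centralizer ({z} : Set G), c * x = x * c → c = 1

/-- An inverted element of order five centralising an involution of the centralizer. -/
def Paired (z x : G) : Prop :=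
  IsInv z x ∧ orderOf x = 5 ∧ ∃ w, IsI w ∧ w ∈ centralizer ({z} : Set G) ∧ w * x = x * w

theorem lone_conj (hz : z * z = 1) {c x : G} (hc : c ∈ centralizer ({z} : Set G)) (hx : Lone z x) :
    Lone z (c * x * c⁻¹) := by
  refine ⟨isInv_conj hz hc hx.1, fun d hd hdx => ?_⟩
  have e : c⁻¹ * d * c = 1 := hx.2 _ (mul_mem (mul_mem (inv_mem hc) hd) hc) (by
    calc c⁻¹ * d * c * x = c⁻¹ * (d * (c * x * c⁻¹)) * c := by group
      _ = c⁻¹ * (c * x * c⁻¹ * d) * c := by rw [hdx]
      _ = x * (c⁻¹ * d * c) := by group)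
  calc d = c * (c⁻¹ * d * c) * c⁻¹ := by group
    _ = 1 := by rw [e]; group

theorem paired_conj (hz : z * z = 1) {c x : G} (hc : c ∈ centralizer ({z} : Set G)) (hx : Paired z x) :
    Paired z (c * x * c⁻¹) := by
  obtain ⟨hi, h5, w, hw, hwC, hwx⟩ := hx
  refine ⟨isInv_conj hz hc hi, by rw [← MulAut.conj_apply, MulEquiv.orderOf_eq, h5], c * w * c⁻¹, isI_conj c hw,
    mul_mem (mul_mem hc hwC) (inv_mem hc), ?_⟩
  rw [show c * w * c⁻¹ * (c * x * c⁻¹) = c * (w * x) * c⁻¹ by group, hwx]; group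

/-- Double counting with bounds. -/
theorem double_count_le {α β : Type*} [Finite α] [Finite β] (R : α → β → Prop) (P : α → Prop) (S : β → Prop)
    (hS : ∀ a b, R a b → S b) {k l : ℕ} (hk : ∀ a, P a → k ≤ Nat.card {b // R a b})
    (hl : ∀ b, S b → Nat.card {a // R a b} ≤ l) : Nat.card {a // P a} * k ≤ Nat.card {b // S b} * l := by
  classical
  haveI : Fintype α := Fintype.ofFinite α
  haveI : Fintype β := Fintype.ofFinite β
  calc Nat.card {a // P a} * k ≤ ∑ a : {a // P a}, Nat.card {b // R a.1 b} := by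
        rw [Nat.card_eq_fintype_card, ← Finset.card_univ, ← smul_eq_mul]
        exact Finset.card_nsmul_le_sum _ _ _ fun a _ => hk a.1 a.2
    _ = Nat.card (Σ a : {a // P a}, {b // R a.1 b}) := (Nat.card_sigma).symm
    _ ≤ Nat.card (Σ b : {b // S b}, {a // R a b.1}) := by
        refine Nat.card_le_card_of_injective (fun s => ⟨⟨s.2.1, hS _ _ s.2.2⟩, ⟨s.1.1, s.2.2⟩⟩) ?_
        rintro ⟨⟨a, ha⟩, ⟨b, hb⟩⟩ ⟨⟨a', ha'⟩, ⟨b', hb'⟩⟩ e
        obtain rfl : b = b' := congrArg (fun s : Σ b : {b // S b}, {a // R a b.1} => s.1.1) e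
        obtain rfl : a = a' := congrArg (fun s : Σ b : {b // S b}, {a // R a b.1} => s.2.1) e
        rfl
    _ ≤ Nat.card {b // S b} * l := by
        rw [Nat.card_sigma, Nat.card_eq_fintype_card, ← Finset.card_univ, ← smul_eq_mul]
        exact Finset.sum_le_card_nsmul _ _ _ fun b _ => hl b.1 b.2

/-- A set invariant under a group without fixed points, as a multiple. -/
theorem dvd_card_fixfree [Finite G] (D : Subgroup G) (P : G → Prop) (hP : ∀ c ∈ D, ∀ x, P x → P (c * x * c⁻¹))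
    (hfix : ∀ c ∈ D, ∀ x, P x → c * x = x * c → c = 1) : Nat.card D ∣ Nat.card {x : G // P x} := by
  classical
  letI : MulAction D {x : G // P x} :=
    { smul := fun c x => ⟨(c : G) * x * (c : G)⁻¹, hP c c.2 x x.2⟩
      one_smul := fun x => Subtype.ext (by show (1 : G) * x * (1 : G)⁻¹ = x; group)
      mul_smul := fun c c' x => Subtype.ext (by
        show (c : G) * c' * x * ((c : G) * c')⁻¹ = c * ((c' : G) * x * (c' : G)⁻¹) * (c : G)⁻¹
        group) }
  haveI : Fintype (MulAction.orbitRel.Quotient D {x : G // P x}) := Fintype.ofFinite _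
  rw [Nat.card_congr (MulAction.selfEquivSigmaOrbits D {x : G // P x}), Nat.card_sigma]
  refine Finset.dvd_sum fun q _ => ?_
  have hst : MulAction.stabilizer D q.out = ⊥ := by
    refine (Subgroup.eq_bot_iff_forall _).2 fun c hc => Subtype.ext (hfix c c.2 _ q.out.2 ?_)
    exact mul_inv_eq_iff_eq_mul.1 (congrArg Subtype.val (MulAction.mem_stabilizer_iff.1 hc))
  rw [Nat.card_congr (MulAction.orbitEquivQuotientStabilizer D q.out), hst, ← Subgroup.index_eq_card,
    Subgroup.index_bot]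

namespace Small

variable [Finite G] {Q : Subgroup G} (h : Small z Q)
include h

theorem exists_five : ∃ f, f ∈ centralizer ({z} : Set G) ∧ orderOf f = 5 := by
  obtain ⟨f, hfC, hf, -⟩ := h.five_elt
  exact ⟨f, hfC, hf⟩

theorem yclass_not_lone {x : G} (hY : YClass x) (hi : z * x * z = x⁻¹) :
    ∃ c ∈ centralizer ({z} : Set G), c ≠ 1 ∧ c * x = x * c := by
  obtain ⟨y, hyC, hy⟩ := h.exists_three
  obtain ⟨t, ht, hty⟩ := h.exists_inverter (Or.inl rfl) hyC hy
  have e := h.card_cent_yclass hyC hy ht hty hY hi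
  rw [h.card_K hyC hy ht hty] at e
  haveI : Fact (Nat.Prime 3) := ⟨Nat.prime_three⟩
  obtain ⟨c, hc⟩ := exists_prime_orderOf_dvd_card' (G := ↥(centralizer ({x} : Set G) ⊓ centralizer ({z} : Set G))) 3
    (by rw [e]; norm_num)
  rw [← Subgroup.orderOf_coe] at hc
  exact ⟨c, c.2.2, fun e1 => by rw [e1, orderOf_one] at hc; norm_num at hc, mem_centralizer_singleton_iff.1 c.2.1⟩

/-- An inverted element outside the class with a fixed point is paired. -/
theorem paired_of_fixed {x c : G} (hx : IsInv z x) (hY : ¬ YClass x) (hc : c ∈ centralizer ({z} : Set G))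
    (hc1 : c ≠ 1) (hcx : c * x = x * c) : Paired z x := by
  obtain ⟨p, hp, hpd⟩ := Nat.exists_prime_and_dvd (show orderOf c ≠ 1 from fun e => hc1 (orderOf_eq_one_iff.1 e))
  set e := c ^ (orderOf c / p) with he
  have heo : orderOf e = p := by
    rw [he, orderOf_pow_of_dvd (Nat.div_ne_zero_iff.2 ⟨hp.ne_zero, Nat.le_of_dvd (orderOf_pos c) hpd⟩)
      (Nat.div_dvd_of_dvd hpd), Nat.div_div_self hpd (orderOf_pos c).ne']
  have heC : e ∈ centralizer ({z} : Set G) := pow_mem hc _
  have hex : e * x = x * e := ((show Commute c x from hcx).pow_left _).eq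
  have hd := orderOf_dvd_natCard _ heC
  rw [heo, h.card_C, show 1920 = 2 ^ 7 * 3 * 5 from rfl] at hd
  obtain ⟨w, hw, hwC, hwx⟩ : ∃ w, IsI w ∧ w ∈ centralizer ({z} : Set G) ∧ w * x = x * w := by
    rcases (Nat.Prime.dvd_mul hp).1 hd with hd | hd
    · rcases (Nat.Prime.dvd_mul hp).1 hd with hd | hd
      · obtain rfl : p = 2 := (Nat.prime_dvd_prime_iff_eq hp Nat.prime_two).1 (hp.dvd_of_dvd_pow hd)
        exact ⟨e, isI_iff.2 heo, heC, hex⟩
      · obtain rfl : p = 3 := (Nat.prime_dvd_prime_iff_eq hp Nat.prime_three).1 hd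
        exact absurd (h.inv_yclass heC heo (mem_centralizer_singleton_iff.2 hex.symm) hx) hY
    · obtain rfl : p = 5 := (Nat.prime_dvd_prime_iff_eq hp Nat.prime_five).1 hd
      exact (h.five_main heC heo).2.2 x hx hex.symm
  refine ⟨hx, ?_, w, hw, hwC, hwx⟩
  obtain ⟨g, hg⟩ := h.exists_conj hw
  have hxC : g⁻¹ * x * g ∈ centralizer ({z} : Set G) := mem_centralizer_singleton_iff.2 (by
    calc g⁻¹ * x * g * z = g⁻¹ * (x * (g * z * g⁻¹)) * g := by group
      _ = g⁻¹ * (g * z * g⁻¹ * x) * g := by rw [hg, hwx]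
      _ = z * (g⁻¹ * x * g) := by group)
  have hxo : orderOf (g⁻¹ * x * g) = orderOf x := by
    rw [show g⁻¹ * x * g = g⁻¹ * x * g⁻¹⁻¹ by group, ← MulAut.conj_apply, MulEquiv.orderOf_eq]
  haveI : Fact (Nat.Prime 3) := ⟨Nat.prime_three⟩
  haveI : Fact (Nat.Prime 5) := ⟨Nat.prime_five⟩
  have hodd := hx.2.1
  rw [← hxo] at hodd
  have hpow : ∀ k, (g⁻¹ * x * g) ^ k = 1 → x ^ k = 1 := fun k e1 => by
    rw [show g⁻¹ * x * g = g⁻¹ * x * g⁻¹⁻¹ by group, conj_pow, conj_eq_one_iff] at e1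
    exact e1
  rcases h.odd_order_cases hxC hodd with e3 | e5
  · exact absurd (h.order_three_yclass (orderOf_eq_prime (hpow 3 e3) hx.1)) hY
  · exact orderOf_eq_prime (hpow 5 e5) hx.1

theorem paired_not_yclass {x : G} (hx : Paired z x) : ¬ YClass x := fun hY => by
  have := hY.1
  rw [hx.2.1] at this
  norm_num at this

/-- The split of the inverted elements. -/
theorem card_inv_split : Nat.card {x : G // IsInv z x} =
    320 + Nat.card {x : G // Paired z x} + Nat.card {x : G // Lone z x} := by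
  rw [card_split (IsInv z) YClass, card_split (fun x : G => IsInv z x ∧ ¬ YClass x) (Paired z), ← add_assoc]
  congr 1
  · congr 1
    · rw [← h.card_yclass]
      exact Nat.card_congr (Equiv.subtypeEquivRight fun x => ⟨fun a => ⟨a.2, a.1.2.2⟩,
        fun a => ⟨⟨fun e => by have := a.1.1; rw [e, orderOf_one] at this; norm_num at this,
          by rw [a.1.1]; decide, a.2⟩, a.1⟩⟩)
    · exact Nat.card_congr (Equiv.subtypeEquivRight fun x => ⟨fun a => a.2,
        fun a => ⟨⟨a.1, h.paired_not_yclass a⟩, a⟩⟩)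
  · refine Nat.card_congr (Equiv.subtypeEquivRight fun x => ⟨fun a => ⟨a.1.1, fun c hc hcx => by_contra fun hc1 =>
      a.2 (h.paired_of_fixed a.1.1 a.1.2 hc hc1 hcx)⟩, fun a => ⟨⟨a.1, fun hY => ?_⟩, ?_⟩⟩)
    · obtain ⟨c, hc, hc1, hcx⟩ := h.yclass_not_lone hY a.1.2.2
      exact hc1 (a.2 c hc hcx)
    · rintro ⟨-, -, w, hw, hwC, hwx⟩
      exact hw.2 (a.2 w hwC hwx)

theorem paired_cent {x f : G} (hx : Paired z x) (hfC : f ∈ centralizer ({z} : Set G)) (hf : orderOf f = 5) :
    Nat.card (centralizer ({x} : Set G)) = Nat.card (centralizer ({f} : Set G)) ∧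
      Nat.card {c : G // c * x = x * c ∧ Odd (orderOf c)} * 2 = Nat.card (centralizer ({f} : Set G)) := by
  classical
  obtain ⟨-, h5, w, hw, hwC, hwx⟩ := hx
  obtain ⟨g, rfl⟩ := h.exists_conj hw
  set x' := g⁻¹ * x * g with hx'
  have hxC : x' ∈ centralizer ({z} : Set G) := mem_centralizer_singleton_iff.2 (by
    calc g⁻¹ * x * g * z = g⁻¹ * (x * (g * z * g⁻¹)) * g := by group
      _ = g⁻¹ * (g * z * g⁻¹ * x) * g := by rw [hwx]
      _ = z * (g⁻¹ * x * g) := by group)
  have hxo : orderOf x' = 5 := by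
    rw [hx', show g⁻¹ * x * g = g⁻¹ * x * g⁻¹⁻¹ by group, ← MulAut.conj_apply, MulEquiv.orderOf_eq, h5]
  have e1 : Nat.card (centralizer ({x} : Set G)) = Nat.card (centralizer ({x'} : Set G)) := by
    rw [hx', show g⁻¹ * x * g = g⁻¹ * x * g⁻¹⁻¹ by group, JTwo.card_centralizer_conj]
  refine ⟨e1.trans (h.card_five_cent hxC hxo hfC hf), ?_⟩
  obtain ⟨t, ht, htx⟩ := h.exists_inverter (Or.inr rfl) hxC hxo
  obtain ⟨O, S⟩ := h.five_split hxC hxo (h.out_isI ht) ht.1 htx
  rw [← h.card_five_cent hxC hxo hfC hf, S.card_cent, mul_comm]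
  congr 1
  refine Nat.card_congr ((MulAut.conj g⁻¹).toEquiv.subtypeEquiv fun c => ?_)
  show _ ↔ g⁻¹ * c * g⁻¹⁻¹ ∈ O
  rw [S.mem, ← MulAut.conj_apply g⁻¹ c, MulEquiv.orderOf_eq, MulAut.conj_apply, hx',
    show g⁻¹ * c * g⁻¹⁻¹ * (g⁻¹ * x * g) = g⁻¹ * (c * x) * g by group,
    show g⁻¹ * x * g * (g⁻¹ * c * g⁻¹⁻¹) = g⁻¹ * (x * c) * g by group, mul_left_inj, mul_right_inj]

theorem fixed_of_paired {x f w : G} (hx : Paired z x) (hfC : f ∈ centralizer ({z} : Set G)) (hf : orderOf f = 5)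
    (hfx : f * x = x * f) (hw : IsI w) (hwC : w ∈ centralizer ({z} : Set G)) (hwx : w * x = x * w) :
    Nat.card (centralizer ({z} : Set G) ⊓ centralizer ({x} : Set G) : Subgroup G) = 10 := by
  have hd : Nat.card (centralizer ({z} : Set G) ⊓ centralizer ({x} : Set G) : Subgroup G) ∣ 10 := by
    have h1 := card_dvd_of_le (inf_le_left : centralizer ({z} : Set G) ⊓ centralizer ({x} : Set G) ≤ _)
    have h2 := card_dvd_of_le (inf_le_right : centralizer ({z} : Set G) ⊓ centralizer ({x} : Set G) ≤ _)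
    rw [h.card_C] at h1
    rw [(h.paired_cent hx hfC hf).1] at h2
    rcases (h.five_main hfC hf).1 with e | e <;> rw [e] at h2
    · exact h2
    · exact (show Nat.gcd 1920 50 = 10 by norm_num) ▸ Nat.dvd_gcd h1 h2
  have h5 := orderOf_dvd_natCard (centralizer ({z} : Set G) ⊓ centralizer ({x} : Set G) : Subgroup G) (x := f)
    ⟨hfC, mem_centralizer_singleton_iff.2 hfx⟩
  have h2 := orderOf_dvd_natCard (centralizer ({z} : Set G) ⊓ centralizer ({x} : Set G) : Subgroup G) (x := w)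
    ⟨hwC, mem_centralizer_singleton_iff.2 hwx⟩
  rw [hf] at h5
  rw [isI_iff.1 hw] at h2
  exact Nat.dvd_antisymm hd (Nat.Coprime.mul_dvd_of_dvd_of_dvd (by norm_num : Nat.Coprime 2 5) h2 h5)

/-- The number of involutions fixing a paired element, and of elements of order five. -/
theorem fixed_counts {x : G} (hx : Paired z x) :
    ((∃ f ∈ centralizer ({z} : Set G), orderOf f = 5 ∧ f * x = x * f) →
      Nat.card {w : G // IsI w ∧ w ∈ centralizer ({z} : Set G) ∧ w * x = x * w} = 5 ∧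
      Nat.card {f : G // (f ∈ centralizer ({z} : Set G) ∧ orderOf f = 5) ∧ f * x = x * f} = 4) ∧
    ((¬ ∃ f ∈ centralizer ({z} : Set G), orderOf f = 5 ∧ f * x = x * f) →
      Nat.card {w : G // IsI w ∧ w ∈ centralizer ({z} : Set G) ∧ w * x = x * w} = 1) := by
  classical
  haveI : Fact (Nat.Prime 2) := ⟨Nat.prime_two⟩
  haveI : Fact (Nat.Prime 5) := ⟨Nat.prime_five⟩
  obtain ⟨w₀, hw₀, hw₀C, hw₀x⟩ := hx.2.2
  set D := centralizer ({z} : Set G) ⊓ centralizer ({x} : Set G) with hD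
  have hmem : ∀ {c : G}, c ∈ centralizer ({z} : Set G) → c * x = x * c → c ∈ D := fun hc hcx =>
    ⟨hc, mem_centralizer_singleton_iff.2 hcx⟩
  have hzx : z * x ≠ x * z := fun e => hx.1.1 (fix_inv_one hx.1.2.1 hx.1.2.2 ((invol_fix_iff h.zz x).2 e))
  constructor
  · rintro ⟨f, hfC, hf, hfx⟩
    have hD10 : Nat.card D = 10 := h.fixed_of_paired hx hfC hf hfx hw₀ hw₀C hw₀x
    have hfD : f ∈ D := hmem hfC hfx
    have hf5 : ∀ a ∈ D, a ^ 5 = 1 → a ∈ zpowers f := fun a ha e =>
      prime_unique (K := D) (by rw [hD10]; norm_num) hfD hf ha e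
    have hnc : ∀ w, IsI w → w ∈ D → w * f ≠ f * w := by
      intro w hw hwD e
      have h10 : Nat.card (centralizer ({f} : Set G) ⊓ centralizer ({z} : Set G) : Subgroup G) = 10 :=
        h.card_five hfC hf
      set K := centralizer ({f} : Set G) ⊓ centralizer ({z} : Set G) with hK
      have hzK : z ∈ K :=
        ⟨mem_centralizer_singleton_iff.2 (mem_centralizer_singleton_iff.1 hfC).symm, h.z_mem_C⟩
      have hwK : w ∈ K := ⟨mem_centralizer_singleton_iff.2 e, hwD.1⟩
      have hfK : zpowers f ≤ K := zpowers_le.2 ⟨mem_centralizer_singleton_iff.2 rfl, hfC⟩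
      have hi : ((zpowers f).subgroupOf K).index = 2 := by
        have e1 := ((zpowers f).subgroupOf K).card_mul_index
        rw [Nat.card_congr (subgroupOfEquivOfLe hfK).toEquiv, Nat.card_zpowers, hf, h10] at e1
        omega
      have hout : ∀ v, IsI v → v ∉ zpowers f := fun v hv hm => by
        have := orderOf_dvd_of_mem_zpowers hm
        rw [isI_iff.1 hv, hf] at this
        norm_num at this
      have hm := (mul_mem_iff_of_index_two hi (a := (⟨z, hzK⟩ : K)) (b := ⟨w, hwK⟩))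
      rw [mem_subgroupOf, mem_subgroupOf, mem_subgroupOf] at hm
      have hzw : z * w ∈ zpowers f := hm.2 (iff_of_false (hout z h.isI) (hout w hw))
      have hd := orderOf_dvd_of_mem_zpowers hzw
      rw [hf] at hd
      have hc : z * w = w * z := (mem_centralizer_singleton_iff.1 hwD.1).symm
      have h2 : (z * w) ^ 2 = 1 := by
        rw [(show Commute z w from hc).mul_pow, pow_two, pow_two, h.zz, hw.1, one_mul]
      have h1 : z * w = 1 := orderOf_eq_one_iff.1 (Nat.dvd_one.1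
        ((show Nat.gcd 5 2 = 1 by norm_num) ▸ Nat.dvd_gcd hd (orderOf_dvd_of_pow_eq_one h2)))
      have hwz : w = z := by rw [eq_inv_of_mul_eq_one_right h1, inv_eq_of_mul_eq_one_right h.zz]
      exact hzx (by rw [← hwz]; exact mem_centralizer_singleton_iff.1 hwD.2)
    constructor
    · rw [← Nat.card_fin 5]
      refine (Nat.card_eq_of_bijective (fun i : Fin 5 =>
        (⟨f ^ (i : ℕ) * w₀, ?_, (mul_mem (pow_mem hfC _) hw₀C), ?_⟩ :
          {w : G // IsI w ∧ w ∈ centralizer ({z} : Set G) ∧ w * x = x * w})) ⟨?_, ?_⟩).symm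
      · set v := f ^ (i : ℕ) * w₀ with hv
        have hvD : v ∈ D := mul_mem (pow_mem hfD _) (hmem hw₀C hw₀x)
        have hd := orderOf_dvd_natCard D hvD
        rw [hD10] at hd
        have hw5 : w₀ ∉ zpowers f := fun hm => by
          have := orderOf_dvd_of_mem_zpowers hm
          rw [isI_iff.1 hw₀, hf] at this
          norm_num at this
        have hv5 : v ∉ zpowers f := fun hm => hw5 (by
          have := mul_mem (inv_mem (npow_mem_zpowers f (i : ℕ))) hm
          rwa [hv, inv_mul_cancel_left] at this)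
        have hmemd : orderOf v ∈ Nat.divisors 10 := Nat.mem_divisors.2 ⟨hd, by norm_num⟩
        rw [show Nat.divisors 10 = {1, 2, 5, 10} by decide] at hmemd
        simp only [Finset.mem_insert, Finset.mem_singleton] at hmemd
        rcases hmemd with e | e | e | e
        · exact absurd (by rw [orderOf_eq_one_iff.1 e]; exact one_mem _) hv5
        · exact isI_iff.2 e
        · exact absurd (hf5 v hvD (e ▸ pow_orderOf_eq_one v)) hv5
        · exfalso
          have eD : zpowers v = D := eq_of_le_of_card_ge (zpowers_le.2 hvD) (by rw [Nat.card_zpowers, e, hD10])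
          have hw₀m : w₀ ∈ zpowers v := eD.symm ▸ hmem hw₀C hw₀x
          have hfm : f ∈ zpowers v := eD.symm ▸ hfD
          obtain ⟨a, ha⟩ := mem_zpowers_iff.1 hw₀m
          obtain ⟨b, hb⟩ := mem_zpowers_iff.1 hfm
          exact hnc w₀ hw₀ (hmem hw₀C hw₀x) (by rw [← ha, ← hb]; exact ((Commute.refl v).zpow_zpow a b).eq)
      · exact (((show Commute f x from hfx).pow_left _).mul_left (show Commute w₀ x from hw₀x)).eq
      · intro i j e
        have e' := mul_right_cancel (congrArg Subtype.val e)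
        rw [pow_inj_mod, hf] at e'
        have := i.2
        have := j.2
        exact Fin.ext (by omega)
      · rintro ⟨w, hw, hwC, hwx⟩
        have hwD := hmem hwC hwx
        have hi : ((zpowers f).subgroupOf D).index = 2 := by
          have e := ((zpowers f).subgroupOf D).card_mul_index
          rw [Nat.card_congr (subgroupOfEquivOfLe (zpowers_le.2 hfD)).toEquiv, Nat.card_zpowers, hf, hD10] at e
          omega
        have hn : ∀ v, IsI v → v ∉ zpowers f := fun v hv hm => by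
          have := orderOf_dvd_of_mem_zpowers hm
          rw [isI_iff.1 hv, hf] at this
          norm_num at this
        have := (mul_mem_iff_of_index_two hi (a := (⟨w, hwD⟩ : D)) (b := ⟨w₀, hmem hw₀C hw₀x⟩))
        rw [mem_subgroupOf, mem_subgroupOf, mem_subgroupOf] at this
        obtain ⟨i, hi5⟩ := (isOfFinOrder_of_finite f).mem_powers_iff_mem_zpowers.2
          (this.2 (iff_of_false (hn w hw) (hn w₀ hw₀)))
        have hi5' : f ^ i = w * w₀ := hi5
        refine ⟨⟨i % 5, Nat.mod_lt _ (by norm_num)⟩, Subtype.ext ?_⟩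
        show f ^ (i % 5) * w₀ = w
        have e5 := pow_mod_orderOf f i
        rw [hf] at e5
        rw [e5, hi5', mul_assoc, hw₀.1, mul_one]
    · rw [← Nat.card_fin 4]
      refine (Nat.card_eq_of_bijective (fun i : Fin 4 => (⟨f ^ ((i : ℕ) + 1), ⟨pow_mem hfC _, ?_⟩,
        ((show Commute f x from hfx).pow_left _).eq⟩ :
          {a : G // (a ∈ centralizer ({z} : Set G) ∧ orderOf a = 5) ∧ a * x = x * a})) ⟨?_, ?_⟩).symm
      · rw [Nat.Coprime.orderOf_pow (by
          rw [hf]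
          exact Nat.prime_five.coprime_iff_not_dvd.2 fun hd => by
            have := Nat.le_of_dvd (Nat.succ_pos _) hd
            omega), hf]
      · intro i j e
        have e' : f ^ ((i : ℕ) + 1) = f ^ ((j : ℕ) + 1) := congrArg Subtype.val e
        rw [pow_inj_mod, hf] at e'
        have := i.2
        have := j.2
        exact Fin.ext (by omega)
      · rintro ⟨a, ⟨haC, ha⟩, hax⟩
        obtain ⟨i, hi⟩ := (isOfFinOrder_of_finite f).mem_powers_iff_mem_zpowers.2
          (hf5 a (hmem haC hax) (ha ▸ pow_orderOf_eq_one a))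
        have hi' : f ^ i = a := hi
        have e5 := pow_mod_orderOf f i
        rw [hf, hi'] at e5
        have hne : i % 5 ≠ 0 := fun e => by
          rw [e, pow_zero] at e5
          rw [← e5, orderOf_one] at ha
          norm_num at ha
        refine ⟨⟨i % 5 - 1, by omega⟩, Subtype.ext ?_⟩
        show f ^ (i % 5 - 1 + 1) = a
        rw [Nat.sub_add_cancel (by omega), e5]
  · intro hno
    obtain ⟨f, hfC, hf⟩ := h.exists_five
    have hd : Nat.card D ∣ 10 := by
      have h1 : Nat.card D ∣ Nat.card (centralizer ({z} : Set G)) := card_dvd_of_le inf_le_left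
      have h2 : Nat.card D ∣ Nat.card (centralizer ({x} : Set G)) := card_dvd_of_le inf_le_right
      rw [h.card_C] at h1
      rw [(h.paired_cent hx hfC hf).1] at h2
      rcases (h.five_main hfC hf).1 with e | e <;> rw [e] at h2
      · exact h2
      · exact (show Nat.gcd 1920 50 = 10 by norm_num) ▸ Nat.dvd_gcd h1 h2
    have h5 : ¬ 5 ∣ Nat.card D := fun h5 => by
      obtain ⟨a, ha⟩ := exists_prime_orderOf_dvd_card' (G := D) 5 h5
      rw [← Subgroup.orderOf_coe] at ha
      exact hno ⟨a, a.2.1, ha, mem_centralizer_singleton_iff.1 a.2.2⟩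
    have hD2 : Nat.card D = 2 := by
      have := orderOf_dvd_natCard D (hmem hw₀C hw₀x)
      rw [isI_iff.1 hw₀] at this
      have hle := Nat.le_of_dvd (by norm_num) hd
      interval_cases hn : Nat.card D <;> omega
    have huniq : ∀ w, IsI w → w ∈ D → w = w₀ := by
      intro w hw hwD
      have e : zpowers w₀ = D := eq_of_le_of_card_ge (zpowers_le.2 (hmem hw₀C hw₀x))
        (by rw [Nat.card_zpowers, isI_iff.1 hw₀, hD2])
      rw [← e] at hwD
      obtain ⟨k, hk⟩ := mem_zpowers_iff.1 hwD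
      rcases Int.even_or_odd' k with ⟨i, rfl | rfl⟩
      · rw [zpow_mul, zpow_two, hw₀.1, one_zpow] at hk
        exact absurd hk.symm hw.2
      · rw [zpow_add, zpow_mul, zpow_two, hw₀.1, one_zpow, one_mul, zpow_one] at hk
        exact hk.symm
    exact Nat.card_eq_one_iff_unique.2 ⟨⟨fun a b => Subtype.ext ((huniq _ a.2.1 (hmem a.2.2.1 a.2.2.2)).trans
      (huniq _ b.2.1 (hmem b.2.2.1 b.2.2.2)).symm)⟩, ⟨⟨w₀, hw₀, hw₀C, hw₀x⟩⟩⟩

/-- The paired elements by their fixed involutions. -/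
theorem card_paired_pairs :
    Nat.card {p : G × G // Paired z p.1 ∧ IsI p.2 ∧ p.2 ∈ centralizer ({z} : Set G) ∧ p.2 * p.1 = p.1 * p.2} =
      3840 := by
  classical
  obtain ⟨f, hfC, hf⟩ := h.exists_five
  obtain ⟨t, ht, -⟩ := h.exists_inverter (Or.inr rfl) hfC hf
  rw [show 3840 = Nat.card {w : G // Out z Q w} * 32 by rw [h.card_out ht]]
  refine card_pairs_right (fun x w => Paired z x ∧ IsI w ∧ w ∈ centralizer ({z} : Set G) ∧ w * x = x * w)
    (Out z Q) ?_ ?_
  · rintro x w ⟨hx, hw, hwC, hwx⟩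
    refine ⟨hwC, fun hq => ?_, hw.1⟩
    have hzx : z * x ≠ x * z := fun e => hx.1.1 (fix_inv_one hx.1.2.1 hx.1.2.2 ((invol_fix_iff h.zz x).2 e))
    obtain ⟨g, rfl⟩ := h.exists_conj hw
    have hne : g * z * g⁻¹ ≠ z := fun e => hzx (by rw [e] at hwx; exact hwx)
    have hq' := (h.type_iff hne hwC).2 hq
    have hxC : g⁻¹ * x * g ∈ centralizer ({z} : Set G) := mem_centralizer_singleton_iff.2 (by
      calc g⁻¹ * x * g * z = g⁻¹ * (x * (g * z * g⁻¹)) * g := by group
        _ = g⁻¹ * (g * z * g⁻¹ * x) * g := by rw [hwx]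
        _ = z * (g⁻¹ * x * g) := by group)
    have hinv : g⁻¹ * z * g * (g⁻¹ * x * g) * (g⁻¹ * z * g) = (g⁻¹ * x * g)⁻¹ := by
      have := inverts_conj g⁻¹ hx.1.2.2
      rwa [inv_inv] at this
    have hm : g⁻¹ * z * g * (g⁻¹ * x * g * (g⁻¹ * z * g) * (g⁻¹ * x * g)⁻¹) ∈ Q :=
      mul_mem hq' (h.nrm _ hxC _ hq')
    rw [← mul_assoc, ← mul_assoc, hinv, ← _root_.mul_inv_rev] at hm
    have hd := orderOf_dvd_natCard Q (inv_mem_iff.1 hm)
    have hxo : orderOf (g⁻¹ * x * g) = 5 := by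
      rw [show g⁻¹ * x * g = g⁻¹ * x * g⁻¹⁻¹ by group, ← MulAut.conj_apply, MulEquiv.orderOf_eq, hx.2.1]
    rw [h.card, ← pow_two, Nat.Coprime.orderOf_pow (by rw [hxo]; norm_num), hxo] at hd
    norm_num at hd
  · intro w hwO
    obtain ⟨g, rfl⟩ := h.exists_conj (h.out_isI hwO)
    have hne : g * z * g⁻¹ ≠ z := h.out_ne_z hwO
    have hz' : Out z Q (g⁻¹ * z * g) := by
      refine ⟨mem_centralizer_singleton_iff.2 ?_, fun hq => hwO.2.1 ((h.type_iff hne hwO.1).1 hq), ?_⟩
      · have e := mem_centralizer_singleton_iff.1 hwO.1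
        calc g⁻¹ * z * g * z = g⁻¹ * (z * (g * z * g⁻¹)) * g := by group
          _ = g⁻¹ * (g * z * g⁻¹ * z) * g := by rw [e]
          _ = z * (g⁻¹ * z * g) := by group
      · have := (isI_conj g⁻¹ h.isI).1
        rwa [inv_inv] at this
    rw [← h.card_inverted_five hz']
    refine Nat.card_congr ((MulAut.conj g⁻¹).toEquiv.subtypeEquiv fun x => ?_)
    show _ ↔ (g⁻¹ * x * g⁻¹⁻¹ ∈ _ ∧ orderOf (g⁻¹ * x * g⁻¹⁻¹) = 5) ∧ _ * (g⁻¹ * x * g⁻¹⁻¹) * _ = (g⁻¹ * x * g⁻¹⁻¹)⁻¹
    rw [inv_inv, show orderOf (g⁻¹ * x * g) = orderOf x by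
      rw [show g⁻¹ * x * g = g⁻¹ * x * g⁻¹⁻¹ by group, ← MulAut.conj_apply, MulEquiv.orderOf_eq],
      show g⁻¹ * z * g * (g⁻¹ * x * g) * (g⁻¹ * z * g) = g⁻¹ * (z * x * z) * g by group,
      show (g⁻¹ * x * g)⁻¹ = g⁻¹ * x⁻¹ * g by group, mul_left_inj, mul_right_inj]
    constructor
    · rintro ⟨hx, -, -, hwx⟩
      refine ⟨⟨?_, hx.2.1⟩, hx.1.2.2⟩
      refine mem_centralizer_singleton_iff.2 ?_
      calc g⁻¹ * x * g * z = g⁻¹ * (x * (g * z * g⁻¹)) * g := by group
        _ = g⁻¹ * (g * z * g⁻¹ * x) * g := by rw [hwx]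
        _ = z * (g⁻¹ * x * g) := by group
    · rintro ⟨⟨hxC, h5⟩, hxi⟩
      have hwx : g * z * g⁻¹ * x = x * (g * z * g⁻¹) := by
        calc g * z * g⁻¹ * x = g * (z * (g⁻¹ * x * g)) * g⁻¹ := by group
          _ = g * (g⁻¹ * x * g * z) * g⁻¹ := by rw [mem_centralizer_singleton_iff.1 hxC]
          _ = x * (g * z * g⁻¹) := by group
      exact ⟨⟨⟨fun e => by rw [e, orderOf_one] at h5; norm_num at h5, by rw [h5]; decide, hxi⟩, h5, _,
        h.out_isI hwO, hwO.1, hwx⟩, h.out_isI hwO, hwO.1, hwx⟩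

/-- The number of paired elements. -/
theorem card_paired {f : G} (hfC : f ∈ centralizer ({z} : Set G)) (hf : orderOf f = 5) :
    (Nat.card {x : G // Paired z x} = 3840 ∧ Nat.card (centralizer ({f} : Set G)) = 10) ∨
      (Nat.card {x : G // Paired z x} = 2304 ∧ Nat.card (centralizer ({f} : Set G)) = 50) := by
  classical
  set HasF : G → Prop := fun x => ∃ a ∈ centralizer ({z} : Set G), orderOf a = 5 ∧ a * x = x * a with hHasF
  have e0 := h.card_paired_pairs
  rw [card_split _ (fun p : G × G => HasF p.1)] at e0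
  have eH : Nat.card {p : G × G // (Paired z p.1 ∧ IsI p.2 ∧ p.2 ∈ centralizer ({z} : Set G) ∧ p.2 * p.1 = p.1 * p.2) ∧
      HasF p.1} = Nat.card {x : G // Paired z x ∧ HasF x} * 5 := by
    refine card_pairs (fun x w => (Paired z x ∧ IsI w ∧ w ∈ centralizer ({z} : Set G) ∧ w * x = x * w) ∧ HasF x)
      (fun x => Paired z x ∧ HasF x) (fun x w hp => ⟨hp.1.1, hp.2⟩) fun x hx => ?_
    rw [← ((h.fixed_counts hx.1).1 hx.2).1]
    exact Nat.card_congr (Equiv.subtypeEquivRight fun w => ⟨fun a => a.1.2, fun a => ⟨⟨hx.1, a⟩, hx.2⟩⟩)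
  have eN : Nat.card {p : G × G // (Paired z p.1 ∧ IsI p.2 ∧ p.2 ∈ centralizer ({z} : Set G) ∧ p.2 * p.1 = p.1 * p.2) ∧
      ¬ HasF p.1} = Nat.card {x : G // Paired z x ∧ ¬ HasF x} * 1 := by
    refine card_pairs (fun x w => (Paired z x ∧ IsI w ∧ w ∈ centralizer ({z} : Set G) ∧ w * x = x * w) ∧ ¬ HasF x)
      (fun x => Paired z x ∧ ¬ HasF x) (fun x w hp => ⟨hp.1.1, hp.2⟩) fun x hx => ?_
    rw [← (h.fixed_counts hx.1).2 hx.2]
    exact Nat.card_congr (Equiv.subtypeEquivRight fun w => ⟨fun a => a.1.2, fun a => ⟨⟨hx.1, a⟩, hx.2⟩⟩)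
  set J := Nat.card {x : G // IsInv z x ∧ x * f = f * x} with hJ
  have eF : Nat.card {p : G × G // (IsInv z p.1 ∧ p.1 * p.2 = p.2 * p.1) ∧
      (p.2 ∈ centralizer ({z} : Set G) ∧ orderOf p.2 = 5)} = 384 * J := by
    rw [card_pairs_right (fun x a => (IsInv z x ∧ x * a = a * x) ∧ (a ∈ centralizer ({z} : Set G) ∧ orderOf a = 5))
      (fun a => a ∈ centralizer ({z} : Set G) ∧ orderOf a = 5) (fun x a hp => hp.2) (k := J) (fun a ha => ?_),
      h.card_order_five]
    have e1 := (h.five_main ha.1 ha.2).2.1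
    have e2 := (h.five_main hfC hf).2.1
    rw [← hJ, h.card_five_cent hfC hf ha.1 ha.2, ← e1] at e2
    have e3 : Nat.card {x : G // (IsInv z x ∧ x * a = a * x) ∧ (a ∈ centralizer ({z} : Set G) ∧ orderOf a = 5)} =
        Nat.card {x : G // IsInv z x ∧ x * a = a * x} :=
      Nat.card_congr (Equiv.subtypeEquivRight fun x => and_iff_left ha)
    omega
  have eF' : Nat.card {p : G × G // (IsInv z p.1 ∧ p.1 * p.2 = p.2 * p.1) ∧
      (p.2 ∈ centralizer ({z} : Set G) ∧ orderOf p.2 = 5)} = Nat.card {x : G // Paired z x ∧ HasF x} * 4 := by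
    refine card_pairs (fun x a => (IsInv z x ∧ x * a = a * x) ∧ (a ∈ centralizer ({z} : Set G) ∧ orderOf a = 5))
      (fun x => Paired z x ∧ HasF x) (fun x a hp => ⟨?_, a, hp.2.1, hp.2.2, hp.1.2.symm⟩) fun x hx => ?_
    · refine h.paired_of_fixed hp.1.1 (fun hY => ?_) hp.2.1 (fun e => ?_) hp.1.2.symm
      · exact h.no_three_five hY.1 hp.2.2 hp.1.2.symm
      · have := hp.2.2
        rw [e, orderOf_one] at this
        norm_num at this
    · rw [← ((h.fixed_counts hx.1).1 hx.2).2]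
      exact Nat.card_congr (Equiv.subtypeEquivRight fun a => ⟨fun p => ⟨p.2, p.1.2.symm⟩,
        fun p => ⟨⟨hx.1.1, p.2.symm⟩, p.1⟩⟩)
  have eA := card_split (Paired z) HasF
  have e5 := (h.five_main hfC hf).2.1
  rw [← hJ] at e5
  rcases (h.five_main hfC hf).1 with e | e
  · exact Or.inl ⟨by omega, e⟩
  · exact Or.inr ⟨by omega, e⟩

/-- The centralizer of an element without fixed points is abelian of odd order and inverted. -/
theorem lone_cent {x : G} (hx : Lone z x) :
    Odd (Nat.card (centralizer ({x} : Set G))) ∧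
      (∀ a ∈ centralizer ({x} : Set G), z * a * z = a⁻¹) ∧
      ∀ a ∈ centralizer ({x} : Set G), ∀ b ∈ centralizer ({x} : Set G), a * b = b * a := by
  have hodd : Odd (Nat.card (centralizer ({x} : Set G))) := by
    rw [← Nat.not_even_iff_odd, even_iff_two_dvd]
    intro h2
    obtain ⟨w, hw, hww, hw1, hwz⟩ :=
      Spor.UFourType.exists_fixed_invol h.zz _ (fun a ha => cent_norm h.zz hx.1.2.2 ha) h2
    exact hw1 (hx.2 w (mem_centralizer_singleton_iff.2 hwz) (mem_centralizer_singleton_iff.1 hw))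
  refine ⟨hodd, fixfree_inverts h.zz _ (fun a ha => hodd.of_dvd_nat (orderOf_dvd_natCard _ ha))
    (fun a ha => cent_norm h.zz hx.1.2.2 ha) fun a ha hc => ?_⟩
  exact hx.2 a (mem_centralizer_singleton_iff.2 hc.symm) (mem_centralizer_singleton_iff.1 ha)

theorem lone_inv {x : G} (hx : Lone z x) {a : G} (ha : a * x = x * a) (ha1 : a ≠ 1) : IsInv z a :=
  ⟨ha1, (h.lone_cent hx).1.of_dvd_nat (orderOf_dvd_natCard _ (mem_centralizer_singleton_iff.2 ha)),
    (h.lone_cent hx).2.1 a (mem_centralizer_singleton_iff.2 ha)⟩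

/-- The free elements commuting with an element of the class. -/
theorem card_near_three :
    Nat.card {x : G // Lone z x ∧ ∃ a, YClass a ∧ a * x = x * a} ≤ 13280 := by
  classical
  obtain ⟨y, hyC, hy⟩ := h.exists_three
  obtain ⟨t, ht, hty⟩ := h.exists_inverter (Or.inl rfl) hyC hy
  have hU : Nat.card {u : G // (IsI u ∧ u * y * u = y⁻¹)} ≤ 84 := by
    have e := card_orbit_mul (centralizer ({y} : Set G)) t
    rw [h.small y hyC hy, h.card_K hyC hy ht hty] at e
    refine le_trans (Nat.card_le_card_of_injective (fun u : {u : G // IsI u ∧ u * y * u = y⁻¹} =>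
      (⟨u.1, h.inverters_conj hyC hy ht hty u.2.1 u.2.2⟩ : {v : G // ∃ c ∈ centralizer ({y} : Set G), c * t * c⁻¹ = v}))
      fun a b e' => Subtype.ext (congrArg Subtype.val e' :)) ?_
    omega
  have hU' : Nat.card {u : G // (IsI u ∧ u * y * u = y⁻¹) ∧ ¬ u = t} ≤ 83 := by
    have e := card_split (fun u : G => IsI u ∧ u * y * u = y⁻¹) (fun u => u = t)
    rw [show Nat.card {u : G // (IsI u ∧ u * y * u = y⁻¹) ∧ u = t} = 1 from
      Nat.card_eq_one_iff_unique.2 ⟨⟨fun a b => Subtype.ext (a.2.2.trans b.2.2.symm)⟩,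
        ⟨⟨t, ⟨h.out_isI ht, hty⟩, rfl⟩⟩⟩] at e
    omega
  have key : ∀ a, YClass a ∧ z * a * z = a⁻¹ →
      Nat.card {x : G // (Lone z x ∧ a * x = x * a) ∧ (YClass a ∧ z * a * z = a⁻¹)} ≤ 83 := by
    intro a ha
    obtain ⟨g, hgy, hgz⟩ := h.yclass_data hyC hy ht hty ha.1 h.isI ha.2
    refine le_trans ?_ hU'
    refine Nat.card_le_card_of_injective (fun x => ⟨t * (g * x.1 * g⁻¹), ?_⟩) fun x x' e => ?_
    · have hxy : Commute (g * x.1 * g⁻¹) y := by
        show g * x.1 * g⁻¹ * y = y * (g * x.1 * g⁻¹)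
        rw [← hgy, show g * x.1 * g⁻¹ * (g * a * g⁻¹) = g * (x.1 * a) * g⁻¹ by group, ← x.2.1.2]; group
      have htx : t * (g * x.1 * g⁻¹) * t = (g * x.1 * g⁻¹)⁻¹ := hgz ▸ inverts_conj g x.2.1.1.1.2.2
      have hne : g * x.1 * g⁻¹ ≠ 1 := fun e => x.2.1.1.1.1 (conj_eq_one_iff.1 e)
      refine ⟨⟨⟨?_, fun e => ?_⟩, ?_⟩, fun e => hne (mul_eq_left.1 e)⟩
      · rw [← mul_assoc, htx, inv_mul_cancel]
      · have e1 : g * x.1 * g⁻¹ = t := by
          rw [eq_inv_of_mul_eq_one_right e, inv_eq_of_mul_eq_one_right ht.2.2]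
        have h2 := x.2.1.1.1.2.1
        rw [← MulEquiv.orderOf_eq (MulAut.conj g), MulAut.conj_apply, e1, isI_iff.1 (h.out_isI ht)] at h2
        exact absurd h2 (by decide)
      · set v := g * x.1 * g⁻¹
        calc t * v * y * (t * v) = t * (v * y) * t * v := by group
          _ = t * y * t * (t * v * t) * v := by rw [hxy.eq, invol_conj_mul_map ht.2.2]
          _ = y⁻¹ := by rw [hty, htx, inv_mul_cancel_right]
    · have e' := congrArg Subtype.val e
      exact Subtype.ext (mul_left_cancel (mul_right_cancel (mul_left_cancel e')))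
  have hle := double_count_le (fun (x : G) (a : G) => (Lone z x ∧ a * x = x * a) ∧ (YClass a ∧ z * a * z = a⁻¹))
    (fun x => Lone z x ∧ ∃ a, YClass a ∧ a * x = x * a) (fun a => YClass a ∧ z * a * z = a⁻¹)
    (fun x a hp => hp.2) (k := 2) (l := 83) (fun x hx => ?_) key
  · rw [h.card_yclass] at hle
    omega
  · obtain ⟨hxl, a, haY, hax⟩ := hx
    have ha1 : a ≠ 1 := fun e => by have := haY.1; rw [e, orderOf_one] at this; norm_num at this
    have hai := h.lone_inv hxl hax ha1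
    have hne : a⁻¹ ≠ a := fun e => ha1 (eq_one_of_odd_of_mul_self hai.2.1 (by
      nth_rw 1 [← e]; exact inv_mul_cancel a))
    refine le_of_eq_of_le (show 2 = Nat.card ({a, a⁻¹} : Set G) by rw [Nat.card_coe_set_eq, Set.ncard_pair hne.symm]) ?_
    refine Nat.card_le_card_of_injective (fun w => ⟨w.1, ?_⟩) fun u v e => Subtype.ext (congrArg Subtype.val e :)
    rcases w.2 with hw | hw
    · rw [hw]; exact ⟨⟨hxl, hax⟩, haY, hai.2.2⟩
    · rw [Set.mem_singleton_iff.1 hw]
      exact ⟨⟨hxl, ((show Commute a x from hax).inv_left).eq⟩, yclass_inv haY,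
        (isInv_inv h.zz hai).2.2⟩

/-- The free elements commuting with a paired element. -/
theorem card_near_five {f : G} (hfC : f ∈ centralizer ({z} : Set G)) (hf : orderOf f = 5) :
    Nat.card {x : G // Lone z x ∧ ∃ a, Paired z a ∧ a * x = x * a} * 8 + Nat.card {x : G // Paired z x} * 10 ≤
      Nat.card {x : G // Paired z x} * Nat.card (centralizer ({f} : Set G)) := by
  classical
  haveI : Fact (Nat.Prime 5) := ⟨Nat.prime_five⟩
  have hpow : ∀ a : G, Paired z a → ∀ i : Fin 4, Paired z (a ^ ((i : ℕ) + 1)) := by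
    intro a ha i
    have hco : orderOf (a ^ ((i : ℕ) + 1)) = 5 := by
      rw [Nat.Coprime.orderOf_pow (by
        rw [ha.2.1]
        exact Nat.prime_five.coprime_iff_not_dvd.2 fun hd => by
          have := Nat.le_of_dvd (Nat.succ_pos _) hd
          omega), ha.2.1]
    obtain ⟨w, hw, hwC, hwa⟩ := ha.2.2
    exact ⟨⟨fun e => by rw [e, orderOf_one] at hco; norm_num at hco, by rw [hco]; decide,
      inv_pow_inv h.zz ha.1.2.2 _⟩, hco, w, hw, hwC, ((show Commute w a from hwa).pow_right _).eq⟩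
  have key : ∀ a, Paired z a → Nat.card {x : G // (Lone z x ∧ a * x = x * a) ∧ Paired z a} ≤
      Nat.card (centralizer ({f} : Set G)) / 2 - 5 := by
    intro a ha
    have e2 := (h.paired_cent ha hfC hf).2
    rw [card_split (fun c : G => c * a = a * c ∧ Odd (orderOf c)) (fun c => c ∈ zpowers a)] at e2
    have e1 : Nat.card {c : G // (c * a = a * c ∧ Odd (orderOf c)) ∧ c ∈ zpowers a} = 5 := by
      rw [← ha.2.1, ← Nat.card_zpowers]
      refine Nat.card_congr (Equiv.subtypeEquivRight fun c => ⟨fun hc => hc.2, fun hc => ⟨⟨?_, ?_⟩, hc⟩⟩)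
      · obtain ⟨k, rfl⟩ := mem_zpowers_iff.1 hc
        exact ((Commute.refl a).zpow_left k).eq
      · exact (show Odd (orderOf a) by rw [ha.2.1]; decide).of_dvd_nat (orderOf_dvd_of_mem_zpowers hc)
    have e3 : Nat.card {x : G // (Lone z x ∧ a * x = x * a) ∧ Paired z a} ≤
        Nat.card {c : G // (c * a = a * c ∧ Odd (orderOf c)) ∧ ¬ c ∈ zpowers a} := by
      refine Nat.card_le_card_of_injective (fun x => ⟨x.1, ⟨x.2.1.2.symm, x.2.1.1.1.2.1⟩, fun hm => ?_⟩)
        fun u v e => Subtype.ext (congrArg Subtype.val e :)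
      obtain ⟨w, hw, hwC, hwa⟩ := ha.2.2
      obtain ⟨k, hk⟩ := mem_zpowers_iff.1 hm
      refine hw.2 (x.2.1.1.2 w hwC ?_)
      rw [← hk]
      exact ((show Commute w a from hwa).zpow_right k).eq
    omega
  have hle := double_count_le (fun (x : G) (a : G) => (Lone z x ∧ a * x = x * a) ∧ Paired z a)
    (fun x => Lone z x ∧ ∃ a, Paired z a ∧ a * x = x * a) (Paired z) (fun x a hp => hp.2) (k := 4) (fun x hx => ?_) key
  · rcases (h.five_main hfC hf).1 with e | e <;> rw [e] at hle ⊢ <;> omega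
  · obtain ⟨hxl, a, haP, hax⟩ := hx
    rw [← Nat.card_fin 4]
    refine Nat.card_le_card_of_injective (fun i : Fin 4 => ⟨a ^ ((i : ℕ) + 1),
      ⟨hxl, ((show Commute a x from hax).pow_left _).eq⟩, hpow a haP i⟩) fun i j e => ?_
    have e' : a ^ ((i : ℕ) + 1) = a ^ ((j : ℕ) + 1) := congrArg Subtype.val e
    rw [pow_inj_mod, haP.2.1] at e'
    have := i.2
    have := j.2
    exact Fin.ext (by omega)

/-- The free elements far from the fixed ones form a system. -/
theorem lone_sys : FreeSys z (fun x => Lone z x ∧ ∀ y, y * x = x * y → y ≠ 1 → Lone z y) where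
  ne_one x hx := hx.1.1.1
  conj x c hx hc := by
    refine ⟨lone_conj h.zz hc hx.1, fun y hy hy1 => ?_⟩
    have h1 := hx.2 (c⁻¹ * y * c) (by
      calc c⁻¹ * y * c * x = c⁻¹ * (y * (c * x * c⁻¹)) * c := by group
        _ = c⁻¹ * (c * x * c⁻¹ * y) * c := by rw [hy]
        _ = x * (c⁻¹ * y * c) := by group) (fun e => hy1 (by
      calc y = c * (c⁻¹ * y * c) * c⁻¹ := by group
        _ = 1 := by rw [e]; group))
    have h2 := lone_conj h.zz hc h1
    rwa [show c * (c⁻¹ * y * c) * c⁻¹ = y by group] at h2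
  fixfree x c hx hc hcx := hx.1.2 c hc hcx
  odd x hx := (h.lone_cent hx.1).1
  inv x hx := hx.1.1.2.2
  closed x y hx hyx hy1 := by
    refine ⟨hx.2 y hyx hy1, fun u hu hu1 => hx.2 u ?_ hu1⟩
    exact (h.lone_cent (hx.2 y hyx hy1)).2.2 u (mem_centralizer_singleton_iff.2 hu) x
      (mem_centralizer_singleton_iff.2 hyx.symm)

/-- The orders of the far centralizers are prime to `210`. -/
theorem lone_coprime {x : G} (hx : Lone z x ∧ ∀ y, y * x = x * y → y ≠ 1 → Lone z y) :
    Nat.Coprime (Nat.card (centralizer ({x} : Set G))) 30 ∧ Nat.Coprime (Nat.card (centralizer ({x} : Set G))) 7 := by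
  classical
  have S := h.lone_sys
  have hodd := (h.lone_cent hx.1).1
  have h3 : ¬ 3 ∣ Nat.card (centralizer ({x} : Set G)) := fun h3 => by
    haveI : Fact (Nat.Prime 3) := ⟨Nat.prime_three⟩
    obtain ⟨a, ha⟩ := exists_prime_orderOf_dvd_card' (G := centralizer ({x} : Set G)) 3 h3
    rw [← Subgroup.orderOf_coe] at ha
    have hL := hx.2 a (mem_centralizer_singleton_iff.1 a.2) fun e => by
      rw [e, orderOf_one] at ha; norm_num at ha
    obtain ⟨c, hc, hc1, hca⟩ := h.yclass_not_lone (h.order_three_yclass ha) hL.1.2.2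
    exact hc1 (hL.2 c hc hca)
  have hmove : ∀ r : ℕ, r.Prime → r ∣ Nat.card (centralizer ({x} : Set G)) → ∀ v : G, orderOf v = r →
      ∀ c : G, c * v = v * c → orderOf c ∣ Nat.card (centralizer ({x} : Set G)) := by
    intro r hr hrx v hv c hc
    haveI : Fact r.Prime := ⟨hr⟩
    obtain ⟨T, hT, -, -⟩ := sylow_part h.zz (S.cent_props h.zz hx).2.1 hrx
      fun v hv _ hv1 => S.cent_eq h.zz hx (mem_centralizer_singleton_iff.1 hv) hv1
    obtain ⟨P, hP⟩ := (IsPGroup.of_card (p := r) (n := 1) (G := zpowers v)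
      (by rw [Nat.card_zpowers, hv, pow_one])).exists_le_sylow
    obtain ⟨g, hg⟩ := MulAction.exists_smul_eq G P T
    have hmem : g * v * g⁻¹ ∈ (T : Subgroup G) := by
      rw [← hg, Sylow.coe_subgroup_smul, Subgroup.mem_pointwise_smul_iff_inv_smul_mem]
      have := hP (mem_zpowers v)
      simpa [mul_assoc] using this
    have hv1 : g * v * g⁻¹ ≠ 1 := fun e => by
      rw [conj_eq_one_iff] at e
      rw [e, orderOf_one] at hv
      exact hr.one_lt.ne hv
    have hgc : g * c * g⁻¹ ∈ centralizer ({x} : Set G) := by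
      rw [← S.cent_eq h.zz hx (mem_centralizer_singleton_iff.1 (hT hmem)) hv1]
      refine mem_centralizer_singleton_iff.2 ?_
      rw [show g * c * g⁻¹ * (g * v * g⁻¹) = g * (c * v) * g⁻¹ by group, hc]; group
    have := orderOf_dvd_natCard _ hgc
    rwa [← MulAut.conj_apply, MulEquiv.orderOf_eq] at this
  constructor
  · rw [show (30 : ℕ) = 2 * (3 * 5) by norm_num]
    refine Nat.Coprime.mul_right (Nat.coprime_two_right.2 hodd)
      (Nat.Coprime.mul_right (Nat.prime_three.coprime_iff_not_dvd.2 h3).symm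
        (Nat.prime_five.coprime_iff_not_dvd.2 fun h5 => ?_).symm)
    obtain ⟨f, hfC, hf⟩ := h.exists_five
    have := hmove 5 Nat.prime_five h5 f hf z (mem_centralizer_singleton_iff.1 hfC).symm
    rw [h.inv] at this
    exact absurd (hodd.of_dvd_nat this) (by decide)
  · refine (Nat.Prime.coprime_iff_not_dvd (by norm_num : Nat.Prime 7)).2 (fun h7 => ?_) |>.symm
    obtain ⟨y, hyC, hy⟩ := h.exists_three
    haveI : Fact (Nat.Prime 7) := ⟨by norm_num⟩
    obtain ⟨v, hv⟩ := exists_prime_orderOf_dvd_card' (G := centralizer ({y} : Set G)) 7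
      (by rw [h.small y hyC hy]; norm_num)
    rw [← Subgroup.orderOf_coe] at hv
    have := hmove 7 (by norm_num) h7 v hv y (mem_centralizer_singleton_iff.1 v.2).symm
    rw [hy] at this
    exact h3 this

/-- The small case does not occur. -/
theorem false_small : False := by
  classical
  obtain ⟨f, hfC, hf⟩ := h.exists_five
  set n := Nat.card {t : G // IsI t} with hndef
  have hG : Nat.card G = 1920 * n := h.card_group
  have hn : n = 9331 + Nat.card {x : G // IsInv z x} := h.card_invol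
  rw [h.card_inv_split] at hn
  have hL := card_split (Lone z) (fun x : G => ∃ a, YClass a ∧ a * x = x * a)
  have hL2 := card_split (fun x : G => Lone z x ∧ ¬ ∃ a, YClass a ∧ a * x = x * a)
    (fun x : G => ∃ a, Paired z a ∧ a * x = x * a)
  have hfar : Nat.card {x : G // (Lone z x ∧ ¬ ∃ a, YClass a ∧ a * x = x * a) ∧ ¬ ∃ a, Paired z a ∧ a * x = x * a} =
      Nat.card {x : G // Lone z x ∧ ∀ y, y * x = x * y → y ≠ 1 → Lone z y} := by
    refine Nat.card_congr (Equiv.subtypeEquivRight fun x => ⟨fun a => ⟨a.1.1, fun y hy hy1 => ?_⟩, fun a => ?_⟩)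
    · have hyi := h.lone_inv a.1.1 hy hy1
      refine ⟨hyi, fun c hc hcy => by_contra fun hc1 => ?_⟩
      by_cases hY : YClass y
      · exact a.1.2 ⟨y, hY, hy⟩
      · exact a.2 ⟨y, h.paired_of_fixed hyi hY hc hc1 hcy, hy⟩
    · refine ⟨⟨a.1, ?_⟩, ?_⟩
      · rintro ⟨b, hbY, hbx⟩
        have hb1 : b ≠ 1 := fun e => by have := hbY.1; rw [e, orderOf_one] at this; norm_num at this
        have hb := a.2 b hbx hb1
        obtain ⟨c, hc, hc1, hcb⟩ := h.yclass_not_lone hbY hb.1.2.2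
        exact hc1 (hb.2 c hc hcb)
      · rintro ⟨b, ⟨hbi, -, w, hw, hwC, hwb⟩, hbx⟩
        exact hw.2 ((a.2 b hbx hbi.1).2 w hwC hwb)
  have hd7 : 1920 ∣ Nat.card {x : G // Lone z x ∧ ∃ a, YClass a ∧ a * x = x * a} := by
    rw [← h.card_C]
    refine dvd_card_fixfree _ _ (fun c hc x hx => ?_) fun c hc x hx hcx => hx.1.2 c hc hcx
    obtain ⟨hx, a, ha, hax⟩ := hx
    refine ⟨lone_conj h.zz hc hx, c * a * c⁻¹, yclass_conj c ha, ?_⟩
    rw [show c * a * c⁻¹ * (c * x * c⁻¹) = c * (a * x) * c⁻¹ by group, hax]; group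
  have hd5 : 1920 ∣ Nat.card {x : G // (Lone z x ∧ ¬ ∃ a, YClass a ∧ a * x = x * a) ∧
      ∃ a, Paired z a ∧ a * x = x * a} := by
    rw [← h.card_C]
    refine dvd_card_fixfree _ _ (fun c hc x hx => ?_) fun c hc x hx hcx => hx.1.1.2 c hc hcx
    obtain ⟨⟨hx, hno⟩, a, ha, hax⟩ := hx
    refine ⟨⟨lone_conj h.zz hc hx, ?_⟩, c * a * c⁻¹, paired_conj h.zz hc ha, ?_⟩
    · rintro ⟨b, hb, hbx⟩
      refine hno ⟨c⁻¹ * b * c⁻¹⁻¹, yclass_conj c⁻¹ hb, ?_⟩
      calc c⁻¹ * b * c⁻¹⁻¹ * x = c⁻¹ * (b * (c * x * c⁻¹)) * c := by group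
        _ = c⁻¹ * (c * x * c⁻¹ * b) * c := by rw [hbx]
        _ = x * (c⁻¹ * b * c⁻¹⁻¹) := by group
    · rw [show c * a * c⁻¹ * (c * x * c⁻¹) = c * (a * x) * c⁻¹ by group, hax]; group
  obtain ⟨m7, hm7⟩ := hd7
  obtain ⟨m5, hm5⟩ := hd5
  have hb7 := h.card_near_three
  have hb5 := h.card_near_five hfC hf
  have hsub : Nat.card {x : G // (Lone z x ∧ ¬ ∃ a, YClass a ∧ a * x = x * a) ∧ ∃ a, Paired z a ∧ a * x = x * a} ≤
      Nat.card {x : G // Lone z x ∧ ∃ a, Paired z a ∧ a * x = x * a} :=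
    Nat.card_le_card_of_injective (fun x => ⟨x.1, x.2.1.1, x.2.2⟩) fun u v e => Subtype.ext (congrArg Subtype.val e :)
  obtain ⟨r, a, k, M, hfam, hco, hcong, hsum⟩ := h.lone_sys.families h.zz h.z_ne
  rw [h.card_C] at hfam hsum
  obtain ⟨h9, h7n⟩ := h.n_mod
  rw [← hndef] at h9 h7n
  have hcop : ∀ i, Nat.Coprime (a i) 30 ∧ Nat.Coprime (a i) 7 := fun i => by
    obtain ⟨-, -, -, -, -, x, hx, hxa, -⟩ := hfam i
    rw [← hxa]
    exact h.lone_coprime hx
  have hdvd : ∀ i, a i ∣ n := fun i => by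
    have h1 := (hfam i).2.2.2.2.1
    rw [hG] at h1
    exact (((hcop i).1.pow_right 7).coprime_dvd_right (by norm_num)).dvd_of_dvd_mul_left h1
  obtain ⟨T, hT, hT'⟩ : ∃ T, Nat.card {x : G // Paired z x} = T ∧
      ((T = 3840 ∧ m7 + m5 ≤ 6) ∨ (T = 2304 ∧ m7 + m5 ≤ 12)) := by
    rcases h.card_paired hfC hf with ⟨e1, e2⟩ | ⟨e1, e2⟩ <;> rw [e1, e2] at hb5
    · exact ⟨3840, e1, Or.inl ⟨rfl, by omega⟩⟩
    · exact ⟨2304, e1, Or.inr ⟨rfl, by omega⟩⟩
  have hn' : n = 9651 + T + 1920 * (m7 + m5 + ∑ i, M i) := by omega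
  have D : Arith.Data 1 1 n a k M :=
    { fam := fun i => ⟨(hfam i).1, (hfam i).2.1, (hfam i).2.2.1, (hfam i).2.2.2.1⟩
      cop30 := fun i => (hcop i).1
      cops := fun i => Nat.coprime_one_right _
      cop := hco
      odd := by
        rcases hT' with ⟨e, -⟩ | ⟨e, -⟩ <;> rw [e] at hn'
        · exact ⟨6745 + 960 * (m7 + m5 + ∑ i, M i), by omega⟩
        · exact ⟨5977 + 960 * (m7 + m5 + ∑ i, M i), by omega⟩
      congs := fun q hq hq1 _ => absurd (Nat.eq_one_of_dvd_one hq1) hq.one_lt.ne'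
      cong := fun i q hq hqa => by
        obtain ⟨w, hw, hw1⟩ := hcong i q hq hqa
        exact ⟨w, hG ▸ hw, hw1⟩ }
  exact Arith.no_small D hT' hn' hdvd (fun i => (hcop i).2) h7n h9

end Small

end CfsgLib.Invol.JThreeType
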