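import Cfsg.Agent.Lib.Invol.JThreeType.Count
import Cfsg.Agent.Lib.Invol.JThreeType.SmallCount
import Cfsg.Agent.Lib.Invol.JThreeType.SelfCentralizing

/-!
# The order of a group of third Janko type
-/

set_option autoImplicit false

namespace CfsgLib.Invol.JThreeType

open Subgroup

variable {G : Type*} [Group G] [Finite G] {z : G} {Q : Subgroup G}

/-- The centralizers of the elements of order three have order `1080`. -/
theorem Hyp.big (h : Hyp z Q) : Big z Q := by
  classical
  refine { toHyp := h, big := fun y hyC hy => ?_ }
  rcases h.X_cases hyC hy with ⟨e504, -⟩ | ⟨e, -⟩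
  · exfalso
    refine Small.false_small (z := z) (Q := Q) { toHyp := h, small := fun v hvC hv => ?_ }
    obtain ⟨c, -, hc⟩ := h.toPreHyp.exists_conj_three hyC hy hvC hv
    rw [← JTwo.centralizer_of_zpowers_eq hc, JTwo.card_centralizer_conj, e504]
  · exact e

/-- The order of a group of third Janko type. -/
theorem Hyp.card_eq (h : Hyp z Q) : Nat.card G = 50232960 := h.big.card_eq

/-- The hypothesis in a simple group. -/
theorem hyp_of_simple [IsSimpleGroup G] (t : G) (ht : orderOf t = 2)
    (hone : ∀ x y : G, orderOf x = 2 → orderOf y = 2 → IsConj x y)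
    (E : Subgroup (centralizer ({t} : Set G))) [E.Normal] (hE : Nat.card E = 32) (hX : Cfsg.IsExtraspecial 2 E)
    (e : (centralizer ({t} : Set G)) ⧸ E ≃* alternatingGroup (Fin 5)) :
    Hyp t (E.map (centralizer ({t} : Set G)).subtype) where
  toPreHyp := JTwo.prehyp_of t ht E (self_centralizing t ht E hE hX e) hX (by rw [hE]; norm_num) e
  one := fun u hu => hone t u ht hu

end CfsgLib.Invol.JThreeType
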