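import Cfsg.Agent.Lib.Invol.JThreeType.Hyp

/-!
# There are involutions outside the extraspecial group
-/

set_option autoImplicit false

namespace CfsgLib.Invol.JThreeType

open Subgroup
open CfsgLib.Invol.JTwo (PreHyp Frame Out cj mem_cj mem_centralizer_conj nc_eq_false)

local notation "A" => alternatingGroup (Fin 5)

theorem alt_eighth : ∀ g : A, g ^ 8 = 1 → g * g = 1 := by decide +kernel

theorem alt_three_at : ∀ i : Fin 5, ∃ g : A, g * g * g = 1 ∧ g ≠ 1 ∧ JTwo.AltFive.act g i = i := by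
  decide +kernel

theorem three_fix_at : ∀ i : Fin 5, ∀ g : {g : A // g * g * g = 1 ∧ g ≠ 1 ∧ JTwo.AltFive.act g i = i},
    ∀ v : {v : Fin 5 → Bool // JTwo.AltFive.Even5 v ∧ v i = false}, JTwo.AltFive.Fix g.1 v.1 →
      (∀ k, v.1 k = false) ∨ ∀ k, v.1 k = JTwo.AltFive.co i k := by
  decide +kernel

namespace Hyp

variable {G : Type*} [Group G] [Finite G] {z : G} {Q : Subgroup G} (h : Hyp z Q)
include h

/-- The kernel of a point pair: a four group in `Q`. -/
theorem point_cases (F : Frame z Q) (i : Fin 5) {q : G} (hq : q ∈ Q)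
    (hv : (∀ k, F.chi q k = false) ∨ ∀ k, F.chi q k = JTwo.AltFive.co i k) :
    q = 1 ∨ q = z ∨ q = F.p i ∨ q = F.p i * z := by
  rcases hv with e | e
  · rcases F.sep q hq (fun k => nc_eq_false.1 (e k)) with e' | e'
    · exact Or.inl e'
    · exact Or.inr (Or.inl e')
  · exact Or.inr (Or.inr (h.eq_or_of_chi F (F.mem i) hq ((F.chi_p i).trans (funext e).symm)))

theorem exists_out : ∃ x, Out z Q x := by
  classical
  by_contra hno
  push Not at hno
  obtain ⟨F⟩ := h.exists_frame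
  set i : Fin 5 := 0
  set p := F.p i with hp
  have hpQ : p ∈ Q := F.mem i
  have hpI : IsI p := ⟨F.inv i, F.ne_one i⟩
  obtain ⟨g, hg⟩ := h.exists_conj hpI
  have h' : Hyp p (cj g Q) := hg ▸ h.conj g
  set C := centralizer ({z} : Set G) with hC
  set Cp := centralizer ({p} : Set G) with hCp
  have hpz : p ≠ z := F.ne_z i
  -- involutions of `C` lie in `Q`
  have hinQ : ∀ u ∈ C, u * u = 1 → u ∈ Q := fun u hu huu => by
    by_contra hn
    exact hno u ⟨hu, hn, huu⟩
  have hV : ∀ u ∈ C, u ∈ Cp → u * u = 1 → u = 1 ∨ u = z ∨ u = p ∨ u = p * z := fun u hu hup huu =>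
    h.commuting_invol hpQ hpI.1 hpI.2 hpz (hinQ u hu huu) huu (mem_centralizer_singleton_iff.1 hup).symm
  -- elements over the four-group have order at most four
  have hfour : ∀ (x : G) (hx : x ∈ C), x ∈ Cp → (x ^ 4 = 1 ↔ F.π ⟨x, hx⟩ * F.π ⟨x, hx⟩ = 1) := by
    intro x hx hxp
    constructor
    · intro e
      refine alt_eighth _ ?_
      rw [← map_pow, show (⟨x, hx⟩ : C) ^ 8 = 1 from Subtype.ext (by
        show x ^ 8 = 1
        rw [show 8 = 4 * 2 from rfl, pow_mul, e, one_pow]), map_one]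
    · intro e
      have hx2 : x * x ∈ Q := (F.ker (⟨x, hx⟩ * ⟨x, hx⟩)).1 (by rw [map_mul]; exact e)
      have h8 : x ^ 8 = 1 := by
        rw [show x ^ 8 = x * x * (x * x) * (x * x * (x * x)) by
          simp only [pow_succ, pow_zero, one_mul, mul_assoc]]
        rcases h.sq _ hx2 with e' | e' <;> rw [e']
        · exact one_mul 1
        · exact h.zz
      obtain ⟨F'⟩ := h'.exists_frame
      have e2 := alt_eighth (F'.π ⟨x, hxp⟩) (by
        rw [← map_pow, show (⟨x, hxp⟩ : Cp) ^ 8 = 1 from Subtype.ext h8, map_one])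
      have hx2' : x * x ∈ cj g Q := (F'.ker (⟨x, hxp⟩ * ⟨x, hxp⟩)).1 (by rw [map_mul]; exact e2)
      have e4 : x ^ 4 = x * x * (x * x) := by simp only [pow_succ, pow_zero, one_mul, mul_assoc]
      rw [e4]
      rcases h.sq _ hx2 with e' | e'
      · exact e'
      · rcases h'.sq _ hx2' with e'' | e''
        · exact e''
        · exact absurd (e''.symm.trans e') hpz
  let S := {x : G // x ∈ C ∧ x ∈ Cp ∧ x ^ 4 = 1}
  have hS : Nat.card S = 64 := by
    have hle : F.big i ≤ C := fun r hr => ((h.mem_big F).1 hr).1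
    have e1 : F.big i ⊓ Q = Q ⊓ Cp := by
      ext q
      simp only [mem_inf]
      constructor
      · exact fun e => ⟨e.2, mem_centralizer_singleton_iff.2 ((h.mem_big F).1 e.1).2.2⟩
      · exact fun e => ⟨(h.mem_big F).2 ⟨h.le e.1, by rw [(F.ker ⟨q, h.le e.1⟩).2 e.1, one_mul],
          mem_centralizer_singleton_iff.1 e.2⟩, e.1⟩
    have e2 : ((F.big i).subgroupOf C).map F.π = JTwo.AltFive.four i := by
      refine le_antisymm ?_ fun k hk => ?_
      · rintro _ ⟨c, hc, rfl⟩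
        obtain ⟨_, h2, hcp⟩ := (h.mem_big F).1 (mem_subgroupOf.1 hc)
        exact ⟨h2, h.act_of_commute F hcp⟩
      · obtain ⟨c, rfl, hc⟩ := h.exists_lift F k i hk.2
        exact ⟨c, mem_subgroupOf.2 ((h.mem_big F).2 ⟨c.2, hk.1, hc⟩), rfl⟩
    rw [show (64 : ℕ) = Nat.card (F.big i) by
      rw [h.card_sub F hle, e1, (h.card_point F i).1, e2, JTwo.AltFive.card_four]]
    refine Nat.card_congr (Equiv.subtypeEquivRight fun x => ?_)
    rw [h.mem_big F]
    constructor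
    · rintro ⟨hx, hxp, e⟩
      exact ⟨hx, (hfour x hx hxp).1 e, mem_centralizer_singleton_iff.1 hxp⟩
    · rintro ⟨hx, e, hxp⟩
      exact ⟨hx, mem_centralizer_singleton_iff.2 hxp, (hfour x hx (mem_centralizer_singleton_iff.2 hxp)).2 e⟩
  -- a three-cycle on the four-group
  have hswap : ∀ {c : G} {R : Subgroup G}, Hyp c R → ∀ {u : G}, u ∈ R → u ≠ 1 → u ≠ c →
      ∃ q ∈ R, q * u * q⁻¹ = u * c ∧ q * c * q⁻¹ = c := by
    intro c R hR u hu hu1 huc
    obtain ⟨q, hq, hqu⟩ : ∃ q ∈ R, q * u ≠ u * q := by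
      by_contra hall
      push Not at hall
      exact (hR.cen u hu fun b hb => (hall b hb).symm).elim hu1 huc
    refine ⟨q, hq, ?_, ?_⟩
    · rw [(hR.comm q hq u hu).resolve_left hqu, ← mul_assoc, ← hR.z_comm hu]; group
    · rw [hR.z_comm hq, mul_inv_cancel_right]
  have hzp : z ∈ cj g Q := h.z_mem_cj hpQ hpz hg
  obtain ⟨a, -, haz, hap⟩ := hswap h' hzp h.z_ne hpz.symm
  obtain ⟨b, -, hbp, hbz⟩ := hswap h hpQ hpI.2 hpz
  have hpcz : p * z = z * p := h.z_comm hpQ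
  set r := b * a with hr
  have r1 : r * z * r⁻¹ = p := by
    rw [hr, show b * a * z * (b * a)⁻¹ = b * (a * z * a⁻¹) * b⁻¹ by group, haz,
      show b * (z * p) * b⁻¹ = b * z * b⁻¹ * (b * p * b⁻¹) by group, hbz, hbp, ← mul_assoc, ← hpcz, mul_assoc,
      h.zz, mul_one]
  have r2 : r * p * r⁻¹ = p * z := by
    rw [hr, show b * a * p * (b * a)⁻¹ = b * (a * p * a⁻¹) * b⁻¹ by group, hap, hbp]
  have r3 : r * (p * z) * r⁻¹ = z := by
    rw [show r * (p * z) * r⁻¹ = r * p * r⁻¹ * (r * z * r⁻¹) by group, r1, r2, hpcz, mul_assoc, hpI.1, mul_one]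
  have hrS : ∀ x : G, (x ∈ C ∧ x ∈ Cp) ↔ (r * x * r⁻¹ ∈ C ∧ r * x * r⁻¹ ∈ Cp) := by
    intro x
    have key : ∀ v, (r * x * r⁻¹ * (r * v * r⁻¹) = r * v * r⁻¹ * (r * x * r⁻¹)) ↔ x * v = v * x := fun v => by
      rw [show r * x * r⁻¹ * (r * v * r⁻¹) = r * (x * v) * r⁻¹ by group,
        show r * v * r⁻¹ * (r * x * r⁻¹) = r * (v * x) * r⁻¹ by group, mul_left_inj, mul_right_inj]
    simp only [hC, hCp, mem_centralizer_singleton_iff]
    constructor
    · rintro ⟨e1, e2⟩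
      have f2 := (key z).2 e1
      have f3 := (key (p * z)).2 ((show Commute x p from e2).mul_right e1).eq
      rw [r1] at f2; rw [r3] at f3
      exact ⟨f3, f2⟩
    · rintro ⟨e1, e2⟩
      refine ⟨(key z).1 (by rw [r1]; exact e2), (key p).1 ?_⟩
      rw [r2]
      exact ((show Commute (r * x * r⁻¹) p from e2).mul_right e1).eq
  let Fib : G → Type _ := fun v => {x : S // x.1 * x.1 = v}
  have hmove : ∀ v, Nat.card (Fib v) = Nat.card (Fib (r * v * r⁻¹)) := fun v => by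
    refine Nat.card_congr (Equiv.subtypeEquiv ((MulAut.conj r).toEquiv.subtypeEquiv fun x => ?_) fun x => ?_)
    · show _ ↔ r * x * r⁻¹ ∈ C ∧ r * x * r⁻¹ ∈ Cp ∧ (r * x * r⁻¹) ^ 4 = 1
      rw [conj_pow, conj_eq_one_iff, ← and_assoc, ← and_assoc, hrS]
    · show _ ↔ r * (x : G) * r⁻¹ * (r * (x : G) * r⁻¹) = r * v * r⁻¹
      rw [show r * (x : G) * r⁻¹ * (r * (x : G) * r⁻¹) = r * ((x : G) * x) * r⁻¹ by group, mul_left_inj,
        mul_right_inj]
  have n1 : p * z ≠ 1 := fun e => hpz (by rw [eq_inv_of_mul_eq_one_left e, inv_eq_of_mul_eq_one_right h.zz])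
  have n2 : p * z ≠ z := fun e => hpI.2 (mul_eq_right.1 e)
  have n3 : p * z ≠ p := fun e => h.z_ne (mul_eq_left.1 e)
  have hone : Nat.card (Fib 1) = 4 := by
    rw [← h.ncard_four hpI.2 hpz, ← Nat.card_coe_set_eq]
    refine Nat.card_congr
      { toFun := fun x => ⟨x.1.1, hV _ x.1.2.1 x.1.2.2.1 x.2⟩
        invFun := fun x => ⟨⟨x.1, ?_⟩, ?_⟩
        left_inv := fun x => rfl
        right_inv := fun x => rfl }
    · obtain ⟨x, hx⟩ := x
      have hzC : z ∈ C := h.z_mem_C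
      have hpC : p ∈ C := h.le hpQ
      have hzP : z ∈ Cp := mem_centralizer_singleton_iff.2 hpcz.symm
      have hpP : p ∈ Cp := mem_centralizer_singleton_iff.2 rfl
      have sq4 : ∀ a : G, a * a = 1 → a ^ 4 = 1 := fun a ha => by
        rw [show 4 = 2 * 2 from rfl, pow_mul, pow_two a, ha, one_pow]
      rcases hx with e | e | e | e <;> show x ∈ C ∧ x ∈ Cp ∧ x ^ 4 = 1 <;> rw [e]
      · exact ⟨one_mem _, one_mem _, one_pow 4⟩
      · exact ⟨hzC, hzP, sq4 _ h.zz⟩
      · exact ⟨hpC, hpP, sq4 _ hpI.1⟩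
      · exact ⟨mul_mem hpC hzC, mul_mem hpP hzP, sq4 _ (h.mul_z_inv hpQ hpI.1)⟩
    · obtain ⟨x, hx⟩ := x
      show x * x = 1
      rcases hx with e | e | e | e <;> rw [e]
      exacts [one_mul 1, h.zz, hpI.1, h.mul_z_inv hpQ hpI.1]
  have hsum : Nat.card S = Nat.card (Fib 1) + Nat.card (Fib z) + Nat.card (Fib p) + Nat.card (Fib (p * z)) := by
    rw [← Nat.card_sum, ← Nat.card_sum, ← Nat.card_sum]
    refine (Nat.card_eq_of_bijective (Sum.elim (Sum.elim (Sum.elim (fun x => x.1) fun x => x.1) fun x => x.1)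
      fun x => x.1) ⟨?_, fun x => ?_⟩).symm
    · rintro (((⟨a, ha⟩ | ⟨a, ha⟩) | ⟨a, ha⟩) | ⟨a, ha⟩) (((⟨b, hb⟩ | ⟨b, hb⟩) | ⟨b, hb⟩) | ⟨b, hb⟩) e <;>
        simp only [Sum.elim_inl, Sum.elim_inr] at e <;> subst e <;>
        first
          | rfl
          | exact absurd (ha.symm.trans hb) h.z_ne.symm
          | exact absurd (hb.symm.trans ha) h.z_ne.symm
          | exact absurd (ha.symm.trans hb) hpI.2.symm
          | exact absurd (hb.symm.trans ha) hpI.2.symm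
          | exact absurd (ha.symm.trans hb) n1.symm
          | exact absurd (hb.symm.trans ha) n1.symm
          | exact absurd (ha.symm.trans hb) hpz.symm
          | exact absurd (hb.symm.trans ha) hpz.symm
          | exact absurd (ha.symm.trans hb) n2.symm
          | exact absurd (hb.symm.trans ha) n2.symm
          | exact absurd (ha.symm.trans hb) n3.symm
          | exact absurd (hb.symm.trans ha) n3.symm
    · have h4 : x.1 * x.1 * (x.1 * x.1) = 1 := by
        have e4 := x.2.2.2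
        simpa only [pow_succ, pow_zero, one_mul, mul_assoc] using e4
      rcases hV _ (mul_mem x.2.1 x.2.1) (mul_mem x.2.2.1 x.2.2.1) h4 with e | e | e | e
      · exact ⟨Sum.inl (Sum.inl (Sum.inl ⟨x, e⟩)), rfl⟩
      · exact ⟨Sum.inl (Sum.inl (Sum.inr ⟨x, e⟩)), rfl⟩
      · exact ⟨Sum.inl (Sum.inr ⟨x, e⟩), rfl⟩
      · exact ⟨Sum.inr ⟨x, e⟩, rfl⟩
  have h20 : Nat.card (Fib z) = 20 := by
    have a1 := hmove z
    have a2 := hmove p
    rw [r1] at a1; rw [r2] at a2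
    rw [hS, hone] at hsum
    omega
  -- an element of order three of the point centralizer has no fixed point
  obtain ⟨k, hk3, hk1, hki⟩ := alt_three_at i
  obtain ⟨c, hck, hcp⟩ := h.exists_lift F k i hki
  have hcpC : (c : G) ∈ Cp := mem_centralizer_singleton_iff.2 hcp
  set y := c ^ 4 with hy
  have hyk : F.π y = k := by
    rw [hy, map_pow, hck, show k ^ 4 = k * k * k * k by simp only [pow_succ, pow_zero, one_mul], hk3, one_mul]
  have hy3 : (y : G) ^ 3 = 1 := by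
    have h3C : (c ^ 3 : C).1 ∈ C := (c ^ 3).2
    have h3 := (hfour _ h3C (by rw [Subgroup.coe_pow]; exact pow_mem hcpC 3)).2 (by
      rw [show (⟨((c ^ 3 : C) : G), h3C⟩ : C) = c ^ 3 from rfl, map_pow, hck,
        show k ^ 3 = k * k * k by simp only [pow_succ, pow_zero, one_mul], hk3, one_mul])
    rw [hy, Subgroup.coe_pow, ← pow_mul, mul_comm, pow_mul]
    rwa [Subgroup.coe_pow] at h3
  have hyp : (y : G) ∈ Cp := by rw [hy, Subgroup.coe_pow]; exact pow_mem hcpC 4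
  let f : Function.End (Fib z) := fun x => ⟨⟨(y : G) * x.1.1 * (y : G)⁻¹,
    mul_mem (mul_mem y.2 x.1.2.1) (inv_mem y.2), mul_mem (mul_mem hyp x.1.2.2.1) (inv_mem hyp), by
      rw [conj_pow, x.1.2.2.2]; group⟩, by
    show (y : G) * x.1.1 * (y : G)⁻¹ * ((y : G) * x.1.1 * (y : G)⁻¹) = z
    rw [show (y : G) * x.1.1 * (y : G)⁻¹ * ((y : G) * x.1.1 * (y : G)⁻¹) = (y : G) * (x.1.1 * x.1.1) * (y : G)⁻¹ by group,
      x.2, mem_centralizer_singleton_iff.1 y.2, mul_inv_cancel_right]⟩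
  haveI : Fintype (Fib z) := Fintype.ofFinite _
  haveI : Fact (Nat.Prime 3) := ⟨Nat.prime_three⟩
  have hf : f ^ 3 ^ 1 = 1 := funext fun x => Subtype.ext (Subtype.ext (by
    show (y : G) * ((y : G) * ((y : G) * x.1.1 * (y : G)⁻¹) * (y : G)⁻¹) * (y : G)⁻¹ = x.1.1
    rw [show (y : G) * ((y : G) * ((y : G) * x.1.1 * (y : G)⁻¹) * (y : G)⁻¹) * (y : G)⁻¹ =
      (y : G) ^ 3 * x.1.1 * ((y : G) ^ 3)⁻¹ by rw [pow_succ, pow_two]; group, hy3]
    group))
  have hmod := Equiv.Perm.card_fixedPoints_modEq hf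
  rw [Nat.ModEq, ← Nat.card_eq_fintype_card, ← Nat.card_eq_fintype_card, h20] at hmod
  have hno' : IsEmpty (Function.fixedPoints f) := ⟨fun ⟨x, hx⟩ => by
    have e : (y : G) * x.1.1 * (y : G)⁻¹ = x.1.1 := congrArg (fun w : Fib z => w.1.1) hx
    have hxy : x.1.1 * y = y * x.1.1 := (mul_inv_eq_iff_eq_mul.1 e).symm
    set xC : C := ⟨x.1.1, x.1.2.1⟩
    have hxk : F.π xC = 1 := by
      refine JTwo.AltFive.four_three _ k ((hfour _ x.1.2.1 x.1.2.2.1).1 x.1.2.2.2) hk3 hk1 i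
        (h.act_of_commute F (mem_centralizer_singleton_iff.1 x.1.2.2.1)) hki ?_
      rw [← hyk, ← map_mul, ← map_mul]
      exact congrArg F.π (Subtype.ext hxy)
    have hxQ : x.1.1 ∈ Q := (F.ker xC).1 hxk
    have hv := three_fix_at i ⟨k, hk3, hk1, hki⟩ ⟨F.chi x.1.1, h.chi_even F hxQ,
      nc_eq_false.2 (mem_centralizer_singleton_iff.1 x.1.2.2.1)⟩ (hyk ▸ (h.fix_mod_iff F y hxQ).1 (Or.inl e))
    refine h.z_ne ?_
    rw [← x.2]
    rcases h.point_cases F i hxQ hv with e' | e' | e' | e' <;> rw [e']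
    exacts [one_mul 1, h.zz, hpI.1, h.mul_z_inv hpQ hpI.1]⟩
  rw [Nat.card_of_isEmpty] at hmod
  norm_num at hmod

end Hyp

end CfsgLib.Invol.JThreeType
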