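import Cfsg.Agent.Lib.Invol.JThreeType.CoreBase
import Cfsg.Agent.Lib.Spor.UFourType.ThreeAction
import Cfsg.Agent.Lib.Coprime.Component
import Cfsg.Agent.Lib.FT.NoMinSimple

/-!
# The centralizer of an element of the set `U`
-/

set_option autoImplicit false
set_option synthInstance.maxSize 4096

namespace CfsgLib.Invol.JThreeType

open Subgroup
open CfsgLib.Invol.JTwo (PreHyp Frame Out cj mem_cj card_orbit_mul cyc mem_cyc card_cyc nc nc_conj nc_eq_false
  nc_symm mem_normalizer_of_le)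

local notation "A" => alternatingGroup (Fin 5)

theorem klein_fixed : ∀ a b : {a : A // a * a = 1 ∧ a ≠ 1}, a.1 * b.1 = b.1 * a.1 → a.1 ≠ b.1 →
    ∀ v : {v : Fin 5 → Bool // JTwo.AltFive.Even5 v}, JTwo.AltFive.Fix a.1 v.1 → JTwo.AltFive.Fix b.1 v.1 →
    (∀ i, v.1 i = false) ∨ ∃ i, ∀ k, v.1 k = JTwo.AltFive.co i k := by
  decide +kernel

theorem alt_fourth : ∀ g : A, g ^ 4 = 1 → g * g = 1 := by decide +kernel

theorem five_not_normalized : ∀ g : {g : A // g * g * g = 1 ∧ g ≠ 1}, ∀ x : {x : A // x ^ 5 = 1 ∧ x ≠ 1},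
    ∀ k : Fin 5, g.1 * x.1 * g.1⁻¹ ≠ x.1 ^ (k : ℕ) := by
  decide +kernel

/-- A subgroup with two subgroups of order three contains a four-group. -/
theorem klein_of_two (M : Subgroup A) {g g' : A} (hg : g ∈ M) (hg' : g' ∈ M) (ho : orderOf g = 3)
    (ho' : orderOf g' = 3) (hne : g' ∉ zpowers g) :
    ∃ a ∈ M, ∃ b ∈ M, a * a = 1 ∧ a ≠ 1 ∧ b * b = 1 ∧ b ≠ 1 ∧ a * b = b * a ∧ a ≠ b := by
  classical
  haveI : Fact (Nat.Prime 2) := ⟨Nat.prime_two⟩
  haveI : Fact (Nat.Prime 3) := ⟨Nat.prime_three⟩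
  haveI : Fact (Nat.Prime 5) := ⟨Nat.prime_five⟩
  have hA : Nat.card A = 60 := JTwo.AltFive.card_A
  have hd : Nat.card M ∣ 60 := hA ▸ card_subgroup_dvd_card M
  have h3 : 3 ∣ Nat.card M := ho ▸ orderOf_dvd_natCard M hg
  have h4 : 4 ∣ Nat.card M := by
    by_contra h4
    have hbig : 3 * 3 ≤ Nat.card M := by
      by_contra hlt
      exact hne (prime_unique (p := 3) (by omega) hg ho hg' (ho' ▸ pow_orderOf_eq_one g'))
    have hcases : Nat.card M = 15 ∨ Nat.card M = 30 := by
      have hmem : Nat.card M ∈ Nat.divisors 60 := Nat.mem_divisors.2 ⟨hd, by norm_num⟩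
      rw [show Nat.divisors 60 = {1, 2, 3, 4, 5, 6, 10, 12, 15, 20, 30, 60} by decide] at hmem
      simp only [Finset.mem_insert, Finset.mem_singleton] at hmem
      omega
    rcases hcases with e | e
    · obtain ⟨x, hx⟩ := exists_prime_orderOf_dvd_card' (G := M) 5 (by rw [e]; norm_num)
      rw [← Subgroup.orderOf_coe] at hx
      have hx5 : (x : A) ^ 5 = 1 := orderOf_dvd_iff_pow_eq_one.1 hx.dvd
      have hm : g * x * g⁻¹ ∈ zpowers (x : A) := prime_unique (p := 5) (by rw [e]; norm_num) x.2 hx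
        (mul_mem (mul_mem hg x.2) (inv_mem hg)) (by rw [conj_pow, hx5]; group)
      obtain ⟨k, hk⟩ := (isOfFinOrder_of_finite (x : A)).mem_powers_iff_mem_zpowers.2 hm
      have hg3 : g * g * g = 1 := by
        have := pow_orderOf_eq_one g
        rwa [ho, pow_succ, pow_two] at this
      refine five_not_normalized ⟨g, hg3, fun e => by rw [e, orderOf_one] at ho; norm_num at ho⟩
        ⟨x, hx5, fun e => by rw [e, orderOf_one] at hx; norm_num at hx⟩ ⟨k % 5, Nat.mod_lt _ (by norm_num)⟩ ?_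
      show g * (x : A) * g⁻¹ = (x : A) ^ (k % 5)
      have e5 := pow_mod_orderOf (x : A) k
      rw [hx] at e5
      rw [e5]; exact hk.symm
    · have hi : M.index = 2 := by
        have := M.card_mul_index
        rw [e, hA] at this
        omega
      haveI := normal_of_index_eq_two hi
      rcases (inferInstance : IsSimpleGroup A).eq_bot_or_eq_top_of_normal M inferInstance with e' | e'
      · rw [e', card_bot] at e; omega
      · rw [e', card_top, hA] at e; omega
  obtain ⟨T, hT⟩ := Sylow.exists_subgroup_card_pow_prime 2 (n := 2) (G := M) h4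
  have hsq : ∀ t : T, ((t : M) : A) * ((t : M) : A) = 1 := fun t => alt_fourth _ (by
    have e : t ^ 4 = 1 := orderOf_dvd_iff_pow_eq_one.1 ((_root_.orderOf_dvd_natCard t).trans (dvd_of_eq hT))
    exact congrArg (fun w : T => ((w : M) : A)) e)
  obtain ⟨a, ha⟩ : ∃ a : T, a ≠ 1 := by
    haveI : Nontrivial T := Finite.one_lt_card_iff_nontrivial.1 (by rw [hT]; norm_num)
    exact exists_ne 1
  obtain ⟨b, hb1, hba⟩ : ∃ b : T, b ≠ 1 ∧ b ≠ a := by
    by_contra hall
    push Not at hall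
    have : Nat.card T ≤ 2 := by
      refine (Nat.card_le_card_of_injective (fun t : T => decide (t = 1)) fun p q e => ?_).trans (by simp)
      have e' := decide_eq_decide.1 e
      by_cases hp : p = 1
      · rw [hp, e'.1 hp]
      · rw [hall p hp, hall q fun hq => hp (e'.2 hq)]
    rw [hT] at this
    norm_num at this
  have hne1 : ∀ t : T, t ≠ 1 → ((t : M) : A) ≠ 1 := fun t ht e => ht (Subtype.ext (Subtype.ext e))
  have hi : ∀ t : T, ((t : M) : A)⁻¹ = ((t : M) : A) := fun t => inv_eq_of_mul_eq_one_right (hsq t)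
  refine ⟨_, (a : M).2, _, (b : M).2, hsq a, hne1 a ha, hsq b, hne1 b hb1, ?_,
    fun e => hba (Subtype.ext (Subtype.ext e.symm))⟩
  calc ((a : M) : A) * ((b : M) : A) = (((a * b : T) : M) : A)⁻¹ := by rw [hi]; rfl
    _ = ((b : M) : A) * ((a : M) : A) := by
      show (((a : M) : A) * ((b : M) : A))⁻¹ = _
      rw [_root_.mul_inv_rev, hi, hi]

variable {G : Type*} [Group G] {z : G}

/-- Odd normalising elements do not invert. -/
theorem no_odd_inversion {d e : G} (hd : Odd (orderOf d)) (he : Odd (orderOf e)) (he1 : e ≠ 1)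
    (h : d * e * d⁻¹ = e⁻¹) : False := by
  obtain ⟨k, hk⟩ := hd
  have h2 : ∀ j : ℕ, d ^ (2 * j) * e * (d ^ (2 * j))⁻¹ = e := fun j => by
    induction j with
    | zero => simp
    | succ j ih =>
      rw [show 2 * (j + 1) = 1 + (2 * j + 1) by ring, pow_add, pow_one, pow_succ',
        show d * (d * d ^ (2 * j)) * e * (d * (d * d ^ (2 * j)))⁻¹ =
          d * (d * (d ^ (2 * j) * e * (d ^ (2 * j))⁻¹) * d⁻¹) * d⁻¹ by group, ih, h,
        show d * e⁻¹ * d⁻¹ = (d * e * d⁻¹)⁻¹ by group, h, inv_inv]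
  have e1 : d ^ (2 * k + 1) * e * (d ^ (2 * k + 1))⁻¹ = e⁻¹ := by
    rw [pow_succ', show d * d ^ (2 * k) * e * (d * d ^ (2 * k))⁻¹ =
      d * (d ^ (2 * k) * e * (d ^ (2 * k))⁻¹) * d⁻¹ by group, h2, h]
  rw [← hk, pow_orderOf_eq_one, one_mul, inv_one, mul_one] at e1
  exact he1 (eq_one_of_odd_of_mul_self he (by nth_rw 2 [e1]; exact mul_inv_cancel e))

/-- Every element of the set together with the given element of order three gives elements of the class. -/
def Spread (z e : G) : Prop :=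
  ∀ v, IsU z v → e * v = v * e → YClass (e * v) ∧ YClass (e⁻¹ * v)

namespace Hyp

variable [Finite G] {Q : Subgroup G} (h : Hyp z Q)
include h

/-- A subgroup of the centralizer with one involution has no four-group in the image. -/
theorem no_klein (F : Frame z Q) (N : Subgroup G) (hN : N ≤ centralizer ({z} : Set G))
    (honly : ∀ w ∈ N, IsI w → w = z) {n m : G} (hn : n ∈ N) (hm : m ∈ N)
    (ha : F.π ⟨n, hN hn⟩ * F.π ⟨n, hN hn⟩ = 1) (ha1 : F.π ⟨n, hN hn⟩ ≠ 1)
    (hb : F.π ⟨m, hN hm⟩ * F.π ⟨m, hN hm⟩ = 1) (hb1 : F.π ⟨m, hN hm⟩ ≠ 1)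
    (hab : F.π ⟨n, hN hn⟩ * F.π ⟨m, hN hm⟩ = F.π ⟨m, hN hm⟩ * F.π ⟨n, hN hn⟩)
    (hne : F.π ⟨n, hN hn⟩ ≠ F.π ⟨m, hN hm⟩) : False := by
  classical
  set a := F.π ⟨n, hN hn⟩ with hadef
  set b := F.π ⟨m, hN hm⟩ with hbdef
  have hnQ : n ∉ Q := fun e => ha1 ((F.ker _).2 e)
  have hnn : n * n ∈ Q := (F.ker (⟨n, hN hn⟩ * ⟨n, hN hn⟩)).1 (by rw [map_mul]; exact ha)
  have hseed : ∀ i, ∃ q, q ∈ N ∧ q ∈ Q ∧ (F.chi q i = true ∨ ∃ k, F.chi q k = true) := by
    intro i
    by_contra hall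
    push Not at hall
    have h0 : n * n = 1 ∨ n * n = z := F.sep _ hnn fun k => nc_eq_false.1 (by
      have := (hall _ (mul_mem hn hn) hnn).2 k
      exact (by simpa using this : F.chi (n * n) k = false))
    rcases h0 with e | e
    · exact hnQ ((honly n hn ⟨e, fun e1 => hnQ (e1 ▸ one_mem Q)⟩).symm ▸ h.zmem)
    · exact h.sq_ne_z F (hN hn) ha ha1 e
  obtain ⟨q, hqN, hqQ, hq⟩ := hseed 0
  have hq' : ∃ k, F.chi q k = true := hq.elim (fun e => ⟨0, e⟩) id
  -- make a vector fixed by a given involution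
  have step : ∀ (c : G) (hc : c ∈ N), F.π ⟨c, hN hc⟩ * F.π ⟨c, hN hc⟩ = 1 → ∀ q, q ∈ N → q ∈ Q →
      (∃ k, F.chi q k = true) → ∃ w, w ∈ N ∧ w ∈ Q ∧ (∃ k, F.chi w k = true) ∧
        JTwo.AltFive.Fix (F.π ⟨c, hN hc⟩) (F.chi w) ∧
        ∀ g : A, JTwo.AltFive.Fix g (F.chi q) → g * F.π ⟨c, hN hc⟩ = F.π ⟨c, hN hc⟩ * g →
          JTwo.AltFive.Fix g (F.chi w) := by
    intro c hc hcc q hqN hqQ hk
    set g := F.π ⟨c, hN hc⟩ with hg
    by_cases hf : JTwo.AltFive.Fix g (F.chi q)
    · exact ⟨q, hqN, hqQ, hk, hf, fun _ hs _ => hs⟩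
    have hgg : ∀ i, JTwo.AltFive.act g (JTwo.AltFive.act g i) = i := fun i => by
      have := congrArg (fun s : A => (s : Equiv.Perm (Fin 5)) i) hcc
      simpa [Subgroup.coe_mul, Equiv.Perm.mul_apply] using this
    have hcq : c * q * c⁻¹ ∈ Q := h.nrm c (hN hc) q hqQ
    have hchi : ∀ i, F.chi (q * (c * q * c⁻¹)) i = (F.chi q i ^^ F.chi q (JTwo.AltFive.act g i)) := by
      intro i
      rw [h.chi_mul F hqQ hcq i]
      congr 1
      have e := F.chi_conj h.toPreHyp ⟨c, hN hc⟩ hqQ (JTwo.AltFive.act g i)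
      rwa [← hg, hgg i] at e
    refine ⟨q * (c * q * c⁻¹), mul_mem hqN (mul_mem (mul_mem hc hqN) (inv_mem hc)), mul_mem hqQ hcq, ?_, ?_, ?_⟩
    · by_contra hzero
      push Not at hzero
      refine hf fun i => ?_
      have := hzero i
      rw [hchi] at this
      revert this
      cases F.chi q i <;> cases F.chi q (JTwo.AltFive.act g i) <;> simp
    · intro i
      rw [hchi, hchi, hgg i, Bool.xor_comm]
    · intro s hs hsg i
      have e : JTwo.AltFive.act g (JTwo.AltFive.act s i) = JTwo.AltFive.act s (JTwo.AltFive.act g i) := by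
        have := congrArg (fun s : A => (s : Equiv.Perm (Fin 5)) i) hsg
        simpa [Subgroup.coe_mul, Equiv.Perm.mul_apply] using this.symm
      rw [hchi, hchi, hs i, e, hs]
  obtain ⟨w, hwN, hwQ, hwk, hwf, -⟩ := step n hn ha q hqN hqQ hq'
  obtain ⟨v, hvN, hvQ, ⟨k, hvk⟩, hvf, hpres⟩ := step m hm hb w hwN hwQ hwk
  rcases klein_fixed ⟨a, ha, ha1⟩ ⟨b, hb, hb1⟩ hab hne ⟨F.chi v, h.chi_even F hvQ⟩ (hpres a hwf hab) hvf with
    e | ⟨i, hi⟩
  · exact Bool.false_ne_true ((e k).symm.trans hvk)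
  · have hv := h.eq_or_of_chi F (F.mem i) hvQ (by rw [F.chi_p]; exact (funext hi).symm)
    rcases hv with e | e
    · exact F.ne_z i (by rw [← e]; exact honly v hvN (e ▸ ⟨F.inv i, F.ne_one i⟩))
    · have hI : IsI v := by
        rw [e]
        refine ⟨h.mul_z_inv (F.mem i) (F.inv i), fun e1 => F.ne_z i ?_⟩
        rw [eq_inv_of_mul_eq_one_left e1, inv_eq_of_mul_eq_one_right h.zz]
      have := honly v hvN hI
      rw [e] at this
      exact F.ne_one i (mul_eq_right.1 this)

end Hyp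

namespace Big

variable [Finite G] {Q : Subgroup G} (h : Big z Q)
include h

theorem u_not_comm_self {u e : G} (hu : IsU z u) (heC : e ∈ centralizer ({z} : Set G)) {i : ℤ}
    (hm : u = e ^ i) : False := hu.1.1 (fix_inv_one hu.1.2.1 hu.1.2.2 ((invol_fix_iff h.zz u).2 (by
      rw [hm]; exact ((show Commute z e from (mem_centralizer_singleton_iff.1 heC).symm).zpow_right i).eq)))

/-- The orbit of an element of `U`. -/
theorem u_conj {u : G} (hu : IsU z u) {v : G} (hv : IsU z v) :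
    ∃ c ∈ centralizer ({z} : Set G), c * u * c⁻¹ = v := by
  classical
  obtain ⟨e, heC, heo, heu⟩ := hu.2.2.2
  have e1 := card_orbit_mul (centralizer ({z} : Set G)) u
  have hD : Nat.card (centralizer ({z} : Set G) ⊓ centralizer ({u} : Set G) : Subgroup G) = 3 := by
    rw [show centralizer ({z} : Set G) ⊓ centralizer ({u} : Set G) = zpowers e from le_antisymm
      (fun c hc => h.u_fixed hu heC heo heu hc.1 (mem_centralizer_singleton_iff.1 hc.2))
      (zpowers_le.2 ⟨heC, mem_centralizer_singleton_iff.2 heu⟩), Nat.card_zpowers, heo]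
  rw [h.card_C, hD] at e1
  let f : {w : G // ∃ c ∈ centralizer ({z} : Set G), c * u * c⁻¹ = w} → {w : G // IsU z w} := fun w =>
    ⟨w.1, by obtain ⟨c, hc, e⟩ := w.2; exact e ▸ isU_conj h.zz hc hu⟩
  have hf : Function.Injective f := fun a b e => Subtype.ext (congrArg Subtype.val e :)
  have hbij := (Nat.bijective_iff_injective_and_card f).2 ⟨hf, by rw [h.card_u]; omega⟩
  obtain ⟨w, hw⟩ := hbij.2 ⟨v, hv⟩
  obtain ⟨c, hc, e⟩ := w.2
  exact ⟨c, hc, e.trans (congrArg Subtype.val hw)⟩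

theorem u_transport {u e v f : G} (hu : IsU z u) (heC : e ∈ centralizer ({z} : Set G)) (heo : orderOf e = 3)
    (heu : e * u = u * e) (hv : IsU z v) (hfC : f ∈ centralizer ({z} : Set G)) (hfo : orderOf f = 3)
    (hfv : f * v = v * f) :
    ∃ c ∈ centralizer ({z} : Set G), c * u * c⁻¹ = v ∧ (c * e * c⁻¹ = f ∨ c * e * c⁻¹ = f⁻¹) := by
  obtain ⟨c, hc, hcv⟩ := h.u_conj hu hv
  refine ⟨c, hc, hcv, (JTwo.pow_cases_three hfo (h.u_fixed hv hfC hfo hfv
    (mul_mem (mul_mem hc heC) (inv_mem hc)) ?_)).resolve_left fun e1 => ?_⟩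
  · rw [← hcv, show c * e * c⁻¹ * (c * u * c⁻¹) = c * (e * u) * c⁻¹ by group, heu]; group
  · rw [conj_eq_one_iff] at e1
    rw [e1, orderOf_one] at heo; norm_num at heo

/-- One element of the class gives all. -/
theorem spread_of {u e : G} (hu : IsU z u) (heC : e ∈ centralizer ({z} : Set G)) (heo : orderOf e = 3)
    (heu : e * u = u * e) (hY : YClass (e * u) ∨ YClass (e⁻¹ * u)) : Spread z e := by
  have hzi : z⁻¹ = z := inv_eq_of_mul_eq_one_right h.zz
  have hze : z * e * z = e := (invol_fix_iff h.zz e).2 (mem_centralizer_singleton_iff.1 heC).symm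
  have hflip : ∀ a, (a = e ∨ a = e⁻¹) → YClass (a * u) → YClass (a * u⁻¹) := fun a ha hY' => by
    have := yclass_conj z hY'
    rwa [hzi, invol_conj_mul_map h.zz, hu.1.2.2, show z * a * z = a by
      rcases ha with rfl | rfl
      · exact hze
      · rw [invol_conj_inv_map h.zz, hze]] at this
  have hboth : YClass (e * u) ∧ YClass (e⁻¹ * u) := by
    rcases hY with hY | hY
    · refine ⟨hY, ?_⟩
      have := yclass_inv (hflip e (Or.inl rfl) hY)
      rwa [_root_.mul_inv_rev, inv_inv, ← ((show Commute e u from heu).inv_left).eq] at this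
    · refine ⟨?_, hY⟩
      have := yclass_inv (hflip e⁻¹ (Or.inr rfl) hY)
      rwa [_root_.mul_inv_rev, inv_inv, inv_inv, ← heu] at this
  intro v hv hev
  obtain ⟨c, hc, hcv, hce⟩ := h.u_transport hu heC heo heu hv heC heo hev
  have e1 := yclass_conj c hboth.1
  have e2 := yclass_conj c hboth.2
  rw [show c * (e * u) * c⁻¹ = c * e * c⁻¹ * (c * u * c⁻¹) by group, hcv] at e1
  rw [show c * (e⁻¹ * u) * c⁻¹ = (c * e * c⁻¹)⁻¹ * (c * u * c⁻¹) by group, hcv] at e2
  rcases hce with p | p <;> rw [p] at e1 e2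
  · exact ⟨e1, e2⟩
  · rw [inv_inv] at e2
    exact ⟨e2, e1⟩

/-- The two shapes of the intersection of the centralizers. -/
theorem R_cases {u e : G} (hu : IsU z u) (heC : e ∈ centralizer ({z} : Set G)) (heo : orderOf e = 3)
    (heu : e * u = u * e) :
    (Nat.card (centralizer ({u} : Set G) ⊓ centralizer ({e} : Set G) : Subgroup G) = 27 ∧
      ∀ a ∈ centralizer ({u} : Set G) ⊓ centralizer ({e} : Set G),
        ∀ b ∈ centralizer ({u} : Set G) ⊓ centralizer ({e} : Set G), a * b = b * a) ∨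
    (Nat.card (centralizer ({u} : Set G) ⊓ centralizer ({e} : Set G) : Subgroup G) = 9 ∧
      (∀ v, IsU z v → v * e = e * v → v * u = u * v → v = u ∨ v = u⁻¹) ∧
      ∃ g ∈ centralizer ({e} : Set G), g * u * g⁻¹ = u * e ∨ g * u * g⁻¹ = u * e⁻¹) := by
  classical
  haveI : Fact (Nat.Prime 3) := ⟨Nat.prime_three⟩
  set R := centralizer ({u} : Set G) ⊓ centralizer ({e} : Set G) with hR
  have hue : u ∈ centralizer ({e} : Set G) := mem_centralizer_singleton_iff.2 heu.symm
  have huR : u ∈ R := ⟨mem_centralizer_singleton_iff.2 rfl, hue⟩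
  have heR : e ∈ R := ⟨mem_centralizer_singleton_iff.2 heu, mem_centralizer_singleton_iff.2 rfl⟩
  have hd27 : Nat.card R ∣ 27 := by
    rcases (h.X_big heC heo).2.2 u hue hu.1 with ⟨e5, -, -⟩ | ⟨-, e27⟩
    · exact absurd (orderOf_eq_one_iff.1 (Nat.eq_one_of_dvd_coprimes (by norm_num : Nat.Coprime 5 3)
        (orderOf_dvd_of_pow_eq_one e5) (orderOf_dvd_of_pow_eq_one hu.2.1))) hu.1.1
    · exact e27
  let prod : Fin 3 × Fin 3 → G := fun p => u ^ (p.1 : ℕ) * e ^ (p.2 : ℕ)
  have hprod : Function.Injective prod := by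
    rintro ⟨i, j⟩ ⟨i', j'⟩ e1
    replace e1 : u ^ (i : ℕ) * e ^ (j : ℕ) = u ^ (i' : ℕ) * e ^ (j' : ℕ) := e1
    have e2 : (u ^ (i' : ℕ))⁻¹ * u ^ (i : ℕ) = e ^ (j' : ℕ) * (e ^ (j : ℕ))⁻¹ := by
      rw [eq_mul_inv_iff_mul_eq, mul_assoc, e1, inv_mul_cancel_left]
    have hfix : z * ((u ^ (i' : ℕ))⁻¹ * u ^ (i : ℕ)) * z = (u ^ (i' : ℕ))⁻¹ * u ^ (i : ℕ) :=
      (invol_fix_iff h.zz _).2 (by
        rw [e2]
        exact (((show Commute z e from (mem_centralizer_singleton_iff.1 heC).symm).pow_right _).mul_right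
          ((show Commute z e from (mem_centralizer_singleton_iff.1 heC).symm).pow_right _).inv_right).eq)
    have hm : (u ^ (i' : ℕ))⁻¹ * u ^ (i : ℕ) ∈ zpowers u :=
      mul_mem (inv_mem (npow_mem_zpowers u _)) (npow_mem_zpowers u _)
    obtain ⟨n, hn⟩ := (isOfFinOrder_of_finite u).mem_powers_iff_mem_zpowers.2 hm
    have h1 : (u ^ (i' : ℕ))⁻¹ * u ^ (i : ℕ) = 1 := fix_inv_one
      (hu.1.2.1.of_dvd_nat (orderOf_dvd_of_mem_zpowers hm))
      (by rw [← hn]; exact inv_pow_inv h.zz hu.1.2.2 n) hfix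
    rw [h1] at e2
    have hi : i = i' := Fin.ext (pow_injOn_Iio_orderOf (by simp [isU_order hu]) (by simp [isU_order hu])
      (inv_mul_eq_one.1 h1).symm)
    have hj : j = j' := Fin.ext (pow_injOn_Iio_orderOf (x := e) (by simp [heo]) (by simp [heo])
      (mul_inv_eq_one.1 e2.symm).symm)
    rw [hi, hj]
  have hprodR : ∀ p, prod p ∈ R := fun p => mul_mem (pow_mem huR _) (pow_mem heR _)
  have h9 : ∀ T : Subgroup G, (∀ p, prod p ∈ T) → 9 ≤ Nat.card T := fun T hT => by
    have := Nat.card_le_card_of_injective (fun p => (⟨prod p, hT p⟩ : T))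
      fun p q e => hprod (congrArg Subtype.val e)
    simpa using this
  obtain ⟨n, hn3, hn⟩ := (Nat.dvd_prime_pow Nat.prime_three (m := 3)).1 hd27
  have h9R := h9 R hprodR
  have hn2 : 2 ≤ n := by
    by_contra hlt
    have := Nat.pow_le_pow_right (show 3 > 0 by norm_num) (show n ≤ 1 by omega)
    omega
  rcases Nat.lt_or_ge n 3 with hlt | hge
  · obtain rfl : n = 2 := by omega
    have hsurj : ∀ a ∈ R, ∃ p, prod p = a := fun a ha => by
      have hb := (Nat.bijective_iff_injective_and_card (fun p => (⟨prod p, hprodR p⟩ : R))).2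
        ⟨fun p q e => hprod (congrArg Subtype.val e), by rw [hn, Nat.card_prod, Nat.card_fin]; norm_num⟩
      obtain ⟨p, hp⟩ := hb.2 ⟨a, ha⟩
      exact ⟨p, congrArg Subtype.val hp⟩
    refine Or.inr ⟨hn, fun v hv hve hvu => ?_, ?_⟩
    · obtain ⟨⟨i, j⟩, hp⟩ := hsurj v ⟨mem_centralizer_singleton_iff.2 hvu, mem_centralizer_singleton_iff.2 hve⟩
      replace hp : u ^ (i : ℕ) * e ^ (j : ℕ) = v := hp
      have e1 := hv.1.2.2
      rw [← hp, invol_conj_mul_map h.zz, inv_pow_inv h.zz hu.1.2.2, (invol_fix_iff h.zz _).2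
          ((show Commute z e from (mem_centralizer_singleton_iff.1 heC).symm).pow_right (j : ℕ)).eq,
        _root_.mul_inv_rev, ((show Commute e u from heu).pow_pow (j : ℕ) (i : ℕ)).inv_inv.eq] at e1
      have e2 : e ^ (j : ℕ) = 1 := eq_one_of_odd_of_mul_self
        ((show Odd (orderOf e) by rw [heo]; decide).of_dvd_nat (orderOf_pow_dvd _))
        (by nth_rw 2 [mul_left_cancel e1]; exact mul_inv_cancel _)
      rw [e2, mul_one] at hp
      rcases order_three_pow (isU_order hu) i with p | p | p <;> rw [p] at hp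
      · exact absurd hp.symm hv.1.1
      · exact Or.inl hp.symm
      · exact Or.inr hp.symm
    · -- an element of the preimage not fixing `u`
      set uX : ↥(centralizer ({e} : Set G)) := ⟨u, hue⟩
      obtain ⟨-, hall⟩ := h.cent_lift heC heo uX
      have hcX : Nat.card (centralizer ({QuotientGroup.mk' (cyc e) uX} : Set (XQ e))) = 9 := by
        rcases (h.eight heC heo).cases with ⟨e168, -, -⟩ | ⟨-, -, -, hcl⟩
        · have := h.card_X heC heo
          rw [h.big e heC heo] at this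
          exact absurd (this.trans (congrArg (3 * ·) e168)) (by norm_num)
        · rcases hcl _ (h.isInv_mk heC heo (x := uX) hu.1) with ⟨e5, -, -⟩ | ⟨-, e9⟩
          · have := h.pow_lift heC heo (x := uX) hu.1 e5
            exact absurd (orderOf_eq_one_iff.1 (Nat.eq_one_of_dvd_coprimes (by norm_num : Nat.Coprime 5 3)
              (orderOf_dvd_of_pow_eq_one this) (orderOf_dvd_of_pow_eq_one hu.2.1))) hu.1.1
          · exact e9
      by_contra hno
      push Not at hno
      have := hall fun g hg => by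
        set k := uX⁻¹ * (g * uX * g⁻¹) with hk
        have hkc : k ∈ cyc e := (QuotientGroup.eq_one_iff k).1 (by
          have e' := mem_centralizer_singleton_iff.1 hg
          rw [← QuotientGroup.mk'_apply, hk, map_mul, map_mul, map_mul, e', map_inv, map_inv,
            mul_inv_cancel_right, inv_mul_cancel])
        have eg : (g : G) * u * (g : G)⁻¹ = u * k := by rw [hk]; simp [uX]
        rcases JTwo.pow_cases_three heo (mem_cyc.1 hkc) with p | p | p
        · rw [p, mul_one] at eg; exact mul_inv_eq_iff_eq_mul.1 eg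
        · exact absurd (eg.trans (by rw [p])) (hno g g.2).1
        · exact absurd (eg.trans (by rw [p])) (hno g g.2).2
      rw [hcX, ← hR, hn] at this
      norm_num at this
  · obtain rfl : n = 3 := by omega
    refine Or.inl ⟨hn, fun a ha b hb => ?_⟩
    have hcen : ∀ p, ∀ x ∈ R, prod p * x = x * prod p := fun p x hx =>
      (((show Commute u x from (mem_centralizer_singleton_iff.1 hx.1).symm).pow_left _).mul_left
        ((show Commute e x from (mem_centralizer_singleton_iff.1 hx.2).symm).pow_left _)).eq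
    set T := R ⊓ centralizer ({a} : Set G) with hT
    have hpT : ∀ p, prod p ∈ T := fun p => ⟨hprodR p, mem_centralizer_singleton_iff.2 (hcen p a ha)⟩
    have hTd : Nat.card T ∣ 27 := (card_dvd_of_le inf_le_left).trans hd27
    obtain ⟨m, hm3, hm⟩ := (Nat.dvd_prime_pow Nat.prime_three (m := 3)).1 hTd
    by_cases hfull : m = 3
    · have e1 : T = R := eq_of_le_of_card_ge inf_le_left (by rw [hm, hn, hfull])
      exact (mem_centralizer_singleton_iff.1 (show b ∈ T by rw [e1]; exact hb).2).symm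
    · have h9T := h9 T hpT
      have hm2 : m = 2 := by
        by_contra hne
        have := Nat.pow_le_pow_right (show 3 > 0 by norm_num) (show m ≤ 1 by omega)
        omega
      subst hm2
      have hb' := (Nat.bijective_iff_injective_and_card (fun p => (⟨prod p, hpT p⟩ : T))).2
        ⟨fun p q e => hprod (congrArg Subtype.val e), by rw [hm, Nat.card_prod, Nat.card_fin]; norm_num⟩
      obtain ⟨p, hp⟩ := hb'.2 ⟨a, ha, mem_centralizer_singleton_iff.2 rfl⟩
      rw [← (show prod p = a from congrArg Subtype.val hp)]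
      exact hcen p b hb

/-- The decomposition in the intersection. -/
theorem R_decomp {u e : G} (hu : IsU z u) (heC : e ∈ centralizer ({z} : Set G)) (heo : orderOf e = 3)
    (heu : e * u = u * e) {a : G} (ha : a ∈ centralizer ({u} : Set G) ⊓ centralizer ({e} : Set G)) :
    ∃ p d, a = p * d ∧ p ∈ zpowers e ∧ z * d * z = d⁻¹ ∧ d * u = u * d ∧ d * e = e * d ∧
      (d = 1 ∨ IsU z d) := by
  have hze : z * e * z = e := (invol_fix_iff h.zz e).2 (mem_centralizer_singleton_iff.1 heC).symm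
  obtain ⟨p, -, d, hd, e1, hp, hdi⟩ := h.u_decomp hu heC heo heu
    (centralizer ({u} : Set G) ⊓ centralizer ({e} : Set G))
    (fun b hb => mem_centralizer_singleton_iff.1 hb.1) (fun b hb => ⟨cent_norm h.zz hu.1.2.2 hb.1,
      mem_centralizer_singleton_iff.2 (by
        nth_rw 1 [← hze]; rw [← invol_conj_mul_map h.zz, mem_centralizer_singleton_iff.1 hb.2,
          invol_conj_mul_map h.zz, hze])⟩) ha
  refine ⟨p, d, e1, hp, hdi, mem_centralizer_singleton_iff.1 hd.1, mem_centralizer_singleton_iff.1 hd.2, ?_⟩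
  by_cases hd1 : d = 1
  · exact Or.inl hd1
  refine Or.inr ((h.u_near hu (mem_centralizer_singleton_iff.1 hd.1) hdi hd1).resolve_right fun hf => ?_)
  rw [hf.2.2 e heC (mem_centralizer_singleton_iff.1 hd.2).symm, orderOf_one] at heo
  norm_num at heo

/-- The centralizer is a three-group or its inverted elements commute. -/
theorem u_struct {u : G} (hu : IsU z u) :
    IsPGroup 3 (centralizer ({u} : Set G)) ∨
      ∀ a b, a * u = u * a → b * u = u * b → z * a * z = a⁻¹ → z * b * z = b⁻¹ → a * b = b * a := by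
  classical
  obtain ⟨e, heC, heo, heu⟩ := hu.2.2.2
  set K := centralizer ({u} : Set G) with hK
  have hzi : z⁻¹ = z := inv_eq_of_mul_eq_one_right h.zz
  have hodd : Odd (Nat.card K) := by
    rw [← Nat.not_even_iff_odd, even_iff_two_dvd]
    intro h2
    haveI : Fact (Nat.Prime 2) := ⟨Nat.prime_two⟩
    obtain ⟨w, hw⟩ := exists_prime_orderOf_dvd_card' (G := K) 2 h2
    rw [← Subgroup.orderOf_coe] at hw
    exact u_no_invol hu (isI_iff.2 hw) (mem_centralizer_singleton_iff.1 w.2)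
  haveI : Group.IsSolvable K := CfsgLib.FT.isSolvable_of_odd K hodd
  have hzn : z ∈ normalizer (K : Set G) :=
    mem_normalizer_of_le fun a ha => by rw [hzi]; exact cent_norm h.zz hu.1.2.2 ha
  have hinvC : ∀ (C : Subgroup K), C.Characteristic → ∀ a ∈ C.map K.subtype, z * a * z ∈ C.map K.subtype := by
    rintro C hC _ ⟨a, ha, rfl⟩
    exact ⟨K.normalizerMonoidHom ⟨z, hzn⟩ a, (characteristic_iff_map_eq.1 hC _).le (mem_map_of_mem _ ha),
      by show z * (a : G) * z⁻¹ = z * (a : G) * z; rw [hzi]⟩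
  set F := Cfsg.fittingSubgroup K with hF
  haveI hFn : F.Normal := Coprime.fitting_normal
  haveI hFc : F.Characteristic := Coprime.fitting_characteristic
  have heK : e ∈ K := mem_centralizer_singleton_iff.2 heu
  have hall : ∀ (S : Subgroup K), S.Characteristic → (∀ x ∈ S, (x : G) ∈ zpowers e → x = 1) →
      ∀ x ∈ S, z * (x : G) * z = (x : G)⁻¹ := by
    intro S hS hno x hx
    obtain ⟨p, hp, d, -, e1, hpe, hdi⟩ := h.u_decomp hu heC heo heu (S.map K.subtype)
      (by rintro _ ⟨a, -, rfl⟩; exact mem_centralizer_singleton_iff.1 a.2) (hinvC S hS)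
      (mem_map_of_mem K.subtype hx)
    obtain ⟨p', hp', rfl⟩ := hp
    rw [hno p' hp' hpe, map_one, one_mul] at e1
    rw [show (x : G) = d from e1]; exact hdi
  -- an inverted element centralises an inverted normal subgroup
  have hcomm : ∀ (S : Subgroup K), S.Normal → (∀ x ∈ S, z * (x : G) * z = (x : G)⁻¹) →
      ∀ a : K, z * (a : G) * z = (a : G)⁻¹ → ∀ x ∈ S, a * x = x * a := fun S hS hi a ha x hx =>
    Subtype.ext (inverted_comm h.zz ha (u_odd hu a.2) (hi x hx)
      (hi _ (hS.conj_mem x hx a)))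
  have hCF : centralizer (F : Set K) ≤ F := Coprime.centralizer_fitting_le
  have hfull : ∀ x : K, (x : G) ∈ zpowers e → x ≠ 1 → x ∈ F → (⟨e, heK⟩ : K) ∈ F := by
    intro x hxe hx1 hxF
    rcases JTwo.pow_cases_three heo hxe with p | p | p
    · exact absurd (Subtype.ext p) hx1
    · rwa [show (⟨e, heK⟩ : K) = x from Subtype.ext p.symm]
    · rw [show (⟨e, heK⟩ : K) = x⁻¹ from Subtype.ext (by rw [Subgroup.coe_inv, p, inv_inv])]
      exact inv_mem hxF
  by_cases heF : (⟨e, heK⟩ : K) ∈ F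
  · -- the fitting subgroup is a three-group
    refine Or.inl ?_
    haveI hnil : Group.IsNilpotent F := Coprime.fitting_isNilpotent
    have hcore : ∀ p : Nat.Primes, (p : ℕ) ≠ 3 → Cfsg.pCore (p : ℕ) K = ⊥ := by
      intro p hp3
      haveI : Fact (p : ℕ).Prime := ⟨p.2⟩
      haveI : Fact (Nat.Prime 3) := ⟨Nat.prime_three⟩
      haveI hc := Coprime.pCore_characteristic (G := K) (p : ℕ)
      have hle : Cfsg.pCore (p : ℕ) K ≤ F := by
        rw [hF, Coprime.fitting_eq_iSup_pCore]; exact le_iSup (fun q : Nat.Primes => Cfsg.pCore (q : ℕ) K) p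
      have hord : ∀ b ∈ Cfsg.pCore (p : ℕ) K, ∃ j, b ^ (p : ℕ) ^ j = 1 := fun b hb => by
        obtain ⟨j, hj⟩ := Coprime.pCore_isPGroup (G := K) (p : ℕ) ⟨b, hb⟩
        exact ⟨j, congrArg Subtype.val hj⟩
      rw [eq_bot_iff]
      intro b hb
      rw [mem_bot]
      by_contra hb1
      obtain ⟨j, hj⟩ := hord b hb
      have hcop : Nat.Coprime ((p : ℕ) ^ j) 3 :=
        Nat.Coprime.pow_left j ((Nat.coprime_primes p.2 Nat.prime_three).2 hp3)
      have hbi := hall (Cfsg.pCore (p : ℕ) K) hc (fun x hx hxe => by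
        obtain ⟨i, hi⟩ := hord x hx
        refine orderOf_eq_one_iff.1 (Nat.eq_one_of_dvd_coprimes
          (Nat.Coprime.pow_left i ((Nat.coprime_primes p.2 Nat.prime_three).2 hp3))
          (orderOf_dvd_of_pow_eq_one hi) ?_)
        rw [← Subgroup.orderOf_coe, ← heo]
        exact orderOf_dvd_of_mem_zpowers hxe) b hb
      have hbe : e * (b : G) = b * e := by
        obtain ⟨P, hP⟩ := (IsPGroup.of_card (p := 3) (n := 1) (G := zpowers (⟨_, heF⟩ : F)) (by
          rw [Nat.card_zpowers, ← Subgroup.orderOf_coe, ← Subgroup.orderOf_coe, heo, pow_one])).exists_le_sylow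
        obtain ⟨T, hT⟩ := (IsPGroup.iff_card.2 (by
          have hd : orderOf (⟨b, hle hb⟩ : F) ∣ (p : ℕ) ^ j := orderOf_dvd_of_pow_eq_one (Subtype.ext hj)
          obtain ⟨i, -, hi⟩ := (Nat.dvd_prime_pow p.2).1 hd
          exact ⟨i, by rw [Nat.card_zpowers, hi]⟩) : IsPGroup (p : ℕ) (zpowers (⟨b, hle hb⟩ : F))).exists_le_sylow
        haveI := P.normal_of_normalizerCondition Group.normalizerCondition_of_isNilpotent
        haveI := T.normal_of_normalizerCondition Group.normalizerCondition_of_isNilpotent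
        exact congrArg (fun w : F => ((w : K) : G)) (Subgroup.commute_of_normal_of_disjoint _ _ inferInstance inferInstance
          (IsPGroup.disjoint_of_ne 3 (p : ℕ) (Ne.symm hp3) _ _ P.2 T.2) _ _ (hP (mem_zpowers _))
          (hT (mem_zpowers _))).eq
      have hbo : (orderOf (b : G)).Coprime 3 := Nat.Coprime.coprime_dvd_left
        (by rw [Subgroup.orderOf_coe]; exact orderOf_dvd_of_pow_eq_one hj) hcop
      have hbI : IsInv z (b : G) :=
        ⟨fun e1 => hb1 (Subtype.ext e1), u_odd hu b.2, hbi⟩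
      rcases h.d_cases hbI heC (fun e1 => by rw [e1, orderOf_one] at heo; norm_num at heo) hbe with hY | h5 | hU
      · rw [hY.1] at hbo; norm_num at hbo
      · exact h.u_no_five hu (mem_centralizer_singleton_iff.1 b.2) (by rw [h5])
      · rw [isU_order hU] at hbo; norm_num at hbo
    have hF3 : F = Cfsg.pCore 3 K := by
      rw [hF, Coprime.fitting_eq_iSup_pCore]
      refine le_antisymm (iSup_le fun p => ?_)
        (le_iSup (fun q : Nat.Primes => Cfsg.pCore (q : ℕ) K) ⟨3, Nat.prime_three⟩)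
      by_cases hp : (p : ℕ) = 3
      · rw [hp]
      · rw [hcore p hp]; exact bot_le
    haveI : Fact (Nat.Prime 3) := ⟨Nat.prime_three⟩
    have hFp : IsPGroup 3 F := hF3 ▸ Coprime.pCore_isPGroup (G := K) 3
    set V := F.map K.subtype with hV
    have hVp : IsPGroup 3 V := hFp.map _
    have hzV : ∀ v ∈ V, z * v * z ∈ V := hinvC F hFc
    have hVn : ∀ a : K, (a : G) ∈ normalizer (V : Set G) := fun a => mem_normalizer_of_le (by
      rintro _ ⟨v, hv, rfl⟩
      exact ⟨a * v * a⁻¹, hFn.conj_mem v hv a, rfl⟩)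
    have hzVn : z ∈ normalizer (V : Set G) := mem_normalizer_of_le fun v hv => by rw [hzi]; exact hzV v hv
    -- inverted elements of order prime to three are trivial
    have hkill : ∀ a : K, z * (a : G) * z = (a : G)⁻¹ → ¬ 3 ∣ orderOf (a : G) → a = 1 := by
      intro a ha h3
      let X : MulAut V := V.normalizerMonoidHom ⟨a, hVn a⟩
      let Z : MulAut V := V.normalizerMonoidHom ⟨z, hzVn⟩
      have hm : X ^ orderOf (a : G) = 1 := by
        rw [← map_pow]
        convert map_one V.normalizerMonoidHom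
        exact Subtype.ext (pow_orderOf_eq_one (a : G))
      have htriv := Spor.UFourType.trivial_of_few_fixed hVp X Z
        (fun v => Subtype.ext (by
          show z * (z * (v : G) * z⁻¹) * z⁻¹ = (v : G)
          rw [hzi, invol_conj_twice h.zz]))
        (fun v => by
          rw [show X⁻¹ = V.normalizerMonoidHom (⟨(a : G), hVn a⟩⁻¹) from (map_inv _ _).symm]
          refine Subtype.ext ?_
          show z * ((a : G) * (v : G) * (a : G)⁻¹) * z⁻¹ = (a : G)⁻¹ * (z * (v : G) * z⁻¹) * (a : G)⁻¹⁻¹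
          rw [hzi, invol_conj_mul_map h.zz, invol_conj_mul_map h.zz, invol_conj_inv_map h.zz, ha])
        hm (fun h2 => Nat.not_even_iff_odd.2 (u_odd hu a.2) (even_iff_two_dvd.2 h2)) h3 ?_
      · have hc : a ∈ centralizer (F : Set K) := mem_centralizer_iff.2 fun v hv => Subtype.ext
          (mul_inv_eq_iff_eq_mul.1 (congrArg Subtype.val (htriv ⟨_, mem_map_of_mem K.subtype hv⟩))).symm
        obtain ⟨j, hj⟩ := hFp ⟨a, hCF hc⟩
        refine orderOf_eq_one_iff.1 (Nat.eq_one_of_dvd_coprimes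
          (Nat.Coprime.pow_left j ((Nat.prime_three.coprime_iff_not_dvd).2 h3))
          (orderOf_dvd_of_pow_eq_one (congrArg Subtype.val hj)) (by rw [Subgroup.orderOf_coe]))
      · calc Nat.card {v : V // Z v = v} ≤ Nat.card (zpowers e) :=
              Nat.card_le_card_of_injective (fun v => ⟨(v.1 : G), by
                obtain ⟨w, -, hw⟩ := v.1.2
                have hf : z * (v.1 : G) * z⁻¹ = v.1 := congrArg Subtype.val v.2
                rw [hzi] at hf
                exact h.u_fixed hu heC heo heu (mem_centralizer_singleton_iff.2 ((invol_fix_iff h.zz _).1 hf).symm)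
                  (by rw [← hw]; exact mem_centralizer_singleton_iff.1 w.2)⟩) fun a b e =>
                Subtype.ext (Subtype.ext (congrArg Subtype.val e :))
          _ = 3 := by rw [Nat.card_zpowers, heo]
    have hmod : ∀ a : K, ∃ j, a ^ 3 ^ j ∈ F := by
      intro a
      obtain ⟨p, -, d, hd, e1, hpe, hdi⟩ := h.u_decomp hu heC heo heu K
        (fun b hb => mem_centralizer_singleton_iff.1 hb) (fun b hb => cent_norm h.zz hu.1.2.2 hb) a.2
      have hpF : (⟨p, zpowers_le.2 heK hpe⟩ : K) ∈ F := by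
        obtain ⟨i, hi⟩ := mem_zpowers_iff.1 hpe
        rw [show (⟨p, zpowers_le.2 heK hpe⟩ : K) = (⟨e, heK⟩ : K) ^ i from
          Subtype.ext (by rw [SubgroupClass.coe_zpow]; exact hi.symm)]
        exact zpow_mem heF i
      obtain ⟨j, m, hm3, hjm⟩ := Nat.exists_eq_pow_mul_and_not_dvd (orderOf_pos d).ne' 3 (by norm_num)
      have hd1 : (⟨d, hd⟩ : K) ^ 3 ^ j = 1 := by
        refine hkill _ ?_ ?_
        · rw [Subgroup.coe_pow]; exact inv_pow_inv h.zz hdi _
        · rw [Subgroup.coe_pow]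
          show ¬ 3 ∣ orderOf (d ^ 3 ^ j)
          rwa [orderOf_pow_of_dvd (by positivity) ⟨m, hjm⟩, hjm,
            Nat.mul_div_cancel_left _ (by positivity)]
      refine ⟨j, (QuotientGroup.eq_one_iff (N := F) _).1 ?_⟩
      have ea : a = ⟨p, zpowers_le.2 heK hpe⟩ * ⟨d, hd⟩ := Subtype.ext e1
      rw [← QuotientGroup.mk'_apply, map_pow, ea, map_mul,
        show QuotientGroup.mk' F (⟨p, zpowers_le.2 heK hpe⟩ : K) = 1 from (QuotientGroup.eq_one_iff _).2 hpF,
        one_mul, ← map_pow, hd1, map_one]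
    intro a
    obtain ⟨j, hj⟩ := hmod a
    obtain ⟨i, hi⟩ := hFp ⟨_, hj⟩
    exact ⟨j + i, by rw [pow_add, pow_mul]; exact congrArg Subtype.val hi⟩
  · refine Or.inr fun a b ha hb hai hbi => ?_
    have hFi := hall F hFc fun x hx hxe => by_contra fun hx1 => heF (hfull x hxe hx1 hx)
    have hin : ∀ c, c * u = u * c → z * c * z = c⁻¹ → ∃ hc : c ∈ K, (⟨c, hc⟩ : K) ∈ F := fun c hc hci =>
      ⟨mem_centralizer_singleton_iff.2 hc, hCF (mem_centralizer_iff.2 fun x hx =>
        (hcomm F hFn hFi ⟨c, mem_centralizer_singleton_iff.2 hc⟩ hci x hx).symm)⟩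
    obtain ⟨haK, haF⟩ := hin a ha hai
    obtain ⟨hbK, hbF⟩ := hin b hb hbi
    exact congrArg Subtype.val (hcomm F hFn hFi ⟨a, haK⟩ hai ⟨b, hbK⟩ hbF)

/-- Growing a proper invariant subgroup. -/
theorem grow {u e : G} (hu : IsU z u) (heC : e ∈ centralizer ({z} : Set G)) (heo : orderOf e = 3)
    (heu : e * u = u * e) (hp : IsPGroup 3 (centralizer ({u} : Set G))) (S : Subgroup G)
    (hS : S ≤ centralizer ({u} : Set G)) (hSz : ∀ a ∈ S, z * a * z ∈ S)
    (hlt : ∃ a ∈ centralizer ({u} : Set G), a ∉ S) :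
    ∃ p d, p ∈ zpowers e ∧ z * d * z = d⁻¹ ∧ d * u = u * d ∧ (∀ a ∈ S, d * a * d⁻¹ ∈ S) ∧
      (∀ a ∈ S, p * a * p⁻¹ ∈ S) ∧ (p ∉ S ∨ d ∉ S) := by
  classical
  haveI : Fact (Nat.Prime 3) := ⟨Nat.prime_three⟩
  set K := centralizer ({u} : Set G)
  haveI := hp.isNilpotent
  have hne : S.subgroupOf K < ⊤ := lt_top_iff_ne_top.2 fun e1 => by
    obtain ⟨a, ha, han⟩ := hlt
    exact han (mem_subgroupOf.1 (e1 ▸ mem_top (⟨a, ha⟩ : K)))
  obtain ⟨g, hg, hgS⟩ := SetLike.exists_of_lt (Group.normalizerCondition_of_isNilpotent _ hne)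
  have hgn : (g : G) ∈ normalizer (S : Set G) := mem_normalizer_of_le fun a ha => by
    have := (mem_normalizer_iff.1 hg ⟨a, hS ha⟩).1 (mem_subgroupOf.2 ha)
    exact mem_subgroupOf.1 this
  set T := K ⊓ normalizer (S : Set G)
  have hzi : z⁻¹ = z := inv_eq_of_mul_eq_one_right h.zz
  have hzS : z ∈ normalizer (S : Set G) := mem_normalizer_of_le fun a ha => by rw [hzi]; exact hSz a ha
  obtain ⟨p, hpT, d, hdT, e1, hpe, hdi⟩ := h.u_decomp hu heC heo heu T
    (fun b hb => mem_centralizer_singleton_iff.1 hb.1)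
    (fun b hb => ⟨cent_norm h.zz hu.1.2.2 hb.1, mul_mem (mul_mem hzS hb.2) hzS⟩) (a := (g : G)) ⟨g.2, hgn⟩
  refine ⟨p, d, hpe, hdi, mem_centralizer_singleton_iff.1 hdT.1, fun a ha => (mem_normalizer_iff.1 hdT.2 a).1 ha,
    fun a ha => (mem_normalizer_iff.1 hpT.2 a).1 ha, ?_⟩
  by_contra hboth
  push Not at hboth
  exact hgS (mem_subgroupOf.2 (e1 ▸ mul_mem hboth.1 hboth.2))

theorem u_class_cent {u e v : G} (hu : IsU z u) (heC : e ∈ centralizer ({z} : Set G)) (heo : orderOf e = 3)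
    (heu : e * u = u * e) (hv : IsU z v) (hve : v * e = e * v) (hvu : v * u = u * v) {a : G}
    (ha : a * u = u * a) : a * v = v * a := by
  classical
  rcases h.R_cases hu heC heo heu with ⟨-, hRab⟩ | ⟨-, honly, -⟩
  swap
  · rcases honly v hv hve hvu with rfl | rfl
    · exact ha
    · exact (show Commute a u from ha).inv_right.eq
  rcases h.u_struct hu with hp | hab
  swap
  · obtain ⟨p, -, d, hd, rfl, hpe, hdi⟩ := h.u_decomp hu heC heo heu (centralizer ({u} : Set G))
      (fun b hb => mem_centralizer_singleton_iff.1 hb) (fun b hb => cent_norm h.zz hu.1.2.2 hb)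
      (mem_centralizer_singleton_iff.2 ha)
    obtain ⟨i, rfl⟩ := mem_zpowers_iff.1 hpe
    exact (((show Commute e v from hve.symm).zpow_left i).mul_left
      (show Commute d v from hab d v (mem_centralizer_singleton_iff.1 hd) hvu hdi hv.1.2.2)).eq
  by_contra hav
  set R := centralizer ({u} : Set G) ⊓ centralizer ({e} : Set G) with hR
  have hze : z * e * z = e := (invol_fix_iff h.zz e).2 (mem_centralizer_singleton_iff.1 heC).symm
  have hvR : v ∈ R := ⟨mem_centralizer_singleton_iff.2 hvu, mem_centralizer_singleton_iff.2 hve⟩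
  have heR : e ∈ R := ⟨mem_centralizer_singleton_iff.2 heu, mem_centralizer_singleton_iff.2 rfl⟩
  have hzR : ∀ b ∈ R, z * b * z ∈ R := fun b hb => ⟨cent_norm h.zz hu.1.2.2 hb.1,
    mem_centralizer_singleton_iff.2 (by
      nth_rw 1 [← hze]; rw [← invol_conj_mul_map h.zz, mem_centralizer_singleton_iff.1 hb.2,
        invol_conj_mul_map h.zz, hze])⟩
  have he1 : e ≠ 1 := fun e1 => by rw [e1, orderOf_one] at heo; norm_num at heo
  have heY : YClass e := ⟨heo, z, h.isI, mem_centralizer_singleton_iff.2 (mem_centralizer_singleton_iff.1 heC).symm⟩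
  have hback : ∀ d b : G, YClass (d * b * d⁻¹) → YClass b := fun d b hY => by
    have := yclass_conj d⁻¹ hY
    rwa [show d⁻¹ * (d * b * d⁻¹) * d⁻¹⁻¹ = b by group] at this
  -- some element moves `e`
  have hspread : Spread z e := by
    obtain ⟨p, d, hpe, hdi, hdu, hdR, -, hnot⟩ := h.grow hu heC heo heu hp R inf_le_left hzR
      ⟨a, mem_centralizer_singleton_iff.2 ha, fun hm => hav
        (hRab a hm v hvR)⟩
    have hdn : d ∉ R := hnot.resolve_left fun hn => hn (zpowers_le.2 heR hpe)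
    obtain ⟨r, w, e1, hr, hwi, -, hwe, hw⟩ := h.R_decomp hu heC heo heu (hdR e heR)
    rcases JTwo.pow_cases_three heo hr with rfl | hr'
    · rw [one_mul] at e1
      rcases hw with rfl | hw
      · exact absurd (conj_eq_one_iff.1 e1) he1
      · exact absurd (e1 ▸ yclass_conj d heY) hw.2.2.1
    rcases hw with rfl | hw
    · rw [mul_one] at e1
      refine absurd ⟨mem_centralizer_singleton_iff.2 hdu, mem_centralizer_singleton_iff.2 ?_⟩ hdn
      rcases hr' with rfl | rfl
      · exact mul_inv_eq_iff_eq_mul.1 e1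
      · exact absurd e1 fun e1 => no_odd_inversion (u_odd hu (mem_centralizer_singleton_iff.2 hdu))
          (by rw [heo]; decide) he1 e1
    have hY : YClass (r * w) := e1 ▸ yclass_conj d heY
    refine h.spread_of hw heC heo hwe.symm ?_
    rcases hr' with rfl | rfl
    · exact Or.inl hY
    · exact Or.inr hY
  set Y := centralizer ({u} : Set G) ⊓ centralizer ({v} : Set G) with hY
  have hRY : R ≤ Y := fun b hb => ⟨hb.1, mem_centralizer_singleton_iff.2 (hRab b hb v hvR)⟩
  obtain ⟨p, d, hpe, hdi, hdu, hdY, -, hnot⟩ := h.grow hu heC heo heu hp Y inf_le_left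
    (fun b hb => ⟨cent_norm h.zz hu.1.2.2 hb.1, cent_norm h.zz hv.1.2.2 hb.2⟩)
    ⟨a, mem_centralizer_singleton_iff.2 ha, fun hm => hav (mem_centralizer_singleton_iff.1 hm.2)⟩
  have hdn : d ∉ Y := hnot.resolve_left fun hn => hn (zpowers_le.2 (hRY heR) hpe)
  have hdnY : d ∈ normalizer (Y : Set G) := mem_normalizer_of_le hdY
  have hvv : d * v * d⁻¹ ∈ R := by
    refine ⟨(hdY v (hRY hvR)).1, mem_centralizer_singleton_iff.2 ?_⟩
    have hm : d⁻¹ * e * d⁻¹⁻¹ ∈ Y := (mem_normalizer_iff.1 (inv_mem hdnY) e).1 (hRY heR)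
    have hc := mem_centralizer_singleton_iff.1 hm.2
    calc d * v * d⁻¹ * e = d * (v * (d⁻¹ * e * d⁻¹⁻¹)) * d⁻¹ := by group
      _ = d * (d⁻¹ * e * d⁻¹⁻¹ * v) * d⁻¹ := by rw [hc]
      _ = e * (d * v * d⁻¹) := by group
  obtain ⟨r, w, e1, hr, hwi, -, hwe, hw⟩ := h.R_decomp hu heC heo heu hvv
  rcases JTwo.pow_cases_three heo hr with rfl | hr'
  · rw [one_mul] at e1
    refine hdn ⟨mem_centralizer_singleton_iff.2 hdu, mem_centralizer_singleton_iff.2 ?_⟩
    exact inverted_comm h.zz hdi (u_odd hu (mem_centralizer_singleton_iff.2 hdu)) hv.1.2.2 (by rw [e1, hwi])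
  · refine hv.2.2.1 (hback d v ?_)
    rw [e1]
    rcases hw with rfl | hw
    · rw [mul_one]
      rcases hr' with rfl | rfl
      · exact heY
      · exact yclass_inv heY
    · rcases hr' with rfl | rfl
      · exact (hspread w hw hwe.symm).1
      · exact (hspread w hw hwe.symm).2

/-- The data of two commuting elements of `U` with different fixed subgroups. -/
theorem pair_facts {u e u' e' : G} (hu : IsU z u) (heC : e ∈ centralizer ({z} : Set G)) (heo : orderOf e = 3)
    (heu : e * u = u * e) (hu' : IsU z u') (he'C : e' ∈ centralizer ({z} : Set G)) (he'o : orderOf e' = 3)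
    (he'u : e' * u' = u' * e') (hcom : u * u' = u' * u) (hne : e' ∉ zpowers e) :
    (∀ a, a * u = u * a → a * u' = u' * a → z * a * z = a⁻¹) ∧
    (∀ a b, a * u = u * a → a * u' = u' * a → b * u = u * b → b * u' = u' * b → a * b = b * a) ∧
    e ∈ normalizer ((centralizer ({u} : Set G) ⊓ centralizer ({u'} : Set G) : Subgroup G) : Set G) ∧
    e' ∈ normalizer ((centralizer ({u} : Set G) ⊓ centralizer ({u'} : Set G) : Subgroup G) : Set G) ∧
    ∀ w ∈ centralizer ({z} : Set G),
      w ∈ normalizer ((centralizer ({u} : Set G) ⊓ centralizer ({u'} : Set G) : Subgroup G) : Set G) →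
      IsI w → w = z := by
  classical
  set L := centralizer ({u} : Set G) ⊓ centralizer ({u'} : Set G) with hL
  have hzL : ∀ a ∈ L, z * a * z ∈ L := fun a ha => ⟨cent_norm h.zz hu.1.2.2 ha.1, cent_norm h.zz hu'.1.2.2 ha.2⟩
  have hfix : ∀ c ∈ centralizer ({z} : Set G), c * u = u * c → c * u' = u' * c → c = 1 := by
    intro c hc hcu hcu'
    have h1 := h.u_fixed hu heC heo heu hc hcu
    have h2 := h.u_fixed hu' he'C he'o he'u hc hcu'
    rcases JTwo.pow_cases_three he'o h2 with p | p | p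
    · exact p
    · exact absurd (p ▸ h1) hne
    · exact absurd (by have := inv_mem h1; rwa [p, inv_inv] at this) hne
  have hodd : ∀ a ∈ L, Odd (orderOf a) := fun a ha => u_odd hu ha.1
  obtain ⟨hinv, hab⟩ := fixfree_inverts h.zz L hodd hzL fun a ha hc => hfix a
    (mem_centralizer_singleton_iff.2 hc.symm) (mem_centralizer_singleton_iff.1 ha.1)
    (mem_centralizer_singleton_iff.1 ha.2)
  have huL : u ∈ L := ⟨mem_centralizer_singleton_iff.2 rfl, mem_centralizer_singleton_iff.2 hcom⟩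
  have hu'L : u' ∈ L := ⟨mem_centralizer_singleton_iff.2 hcom.symm, mem_centralizer_singleton_iff.2 rfl⟩
  have hnorm : ∀ {x f x' : G}, IsU z x → f ∈ centralizer ({z} : Set G) → orderOf f = 3 → f * x = x * f →
      IsU z x' → x' ∈ L → L = centralizer ({x} : Set G) ⊓ centralizer ({x'} : Set G) → f * x' ≠ x' * f →
      f ∈ normalizer (L : Set G) := by
    intro x f x' hx hfC hfo hfx hx' hx'L hLeq hfx'
    have hzf : z * f * z = f := (invol_fix_iff h.zz f).2 (mem_centralizer_singleton_iff.1 hfC).symm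
    have hx'x : x' * x = x * x' := by
      rw [hLeq] at hx'L
      exact mem_centralizer_singleton_iff.1 hx'L.1
    rcases h.u_struct hx with hp | hJ
    · obtain ⟨p, d, hpe, hdi, hdx, hdL, hpL, hnot⟩ := h.grow hx hfC hfo hfx hp L (hLeq ▸ inf_le_left) hzL
        ⟨f, mem_centralizer_singleton_iff.2 hfx, fun hm => by
          have := fix_inv_one (by rw [hfo]; decide) (hinv f hm) hzf
          rw [this, orderOf_one] at hfo; norm_num at hfo⟩
      have hdin : d ∈ L := by
        rw [hLeq]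
        exact ⟨mem_centralizer_singleton_iff.2 hdx, mem_centralizer_singleton_iff.2
          (inverted_comm h.zz hdi (u_odd hx (mem_centralizer_singleton_iff.2 hdx)) hx'.1.2.2
            (hinv _ (hdL x' hx'L)))⟩
      have hpn : p ∉ L := hnot.resolve_right fun hn => hn hdin
      have hpN : p ∈ normalizer (L : Set G) := mem_normalizer_of_le hpL
      rcases JTwo.pow_cases_three hfo hpe with rfl | rfl | rfl
      · exact absurd (one_mem L) hpn
      · exact hpN
      · exact inv_mem_iff.1 hpN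
    · refine mem_normalizer_of_le fun a ha => ?_
      have hax : a ∈ centralizer ({x} : Set G) := by
        rw [hLeq] at ha
        exact ha.1
      have hzi : f * a * f⁻¹ * x = x * (f * a * f⁻¹) :=
        mem_centralizer_singleton_iff.1 (mul_mem (mul_mem (mem_centralizer_singleton_iff.2 hfx) hax)
          (inv_mem (mem_centralizer_singleton_iff.2 hfx)))
      rw [hLeq]
      refine ⟨mem_centralizer_singleton_iff.2 hzi, mem_centralizer_singleton_iff.2 (hJ _ x' hzi hx'x ?_ hx'.1.2.2)⟩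
      rw [invol_conj_mul_map h.zz, invol_conj_mul_map h.zz, invol_conj_inv_map h.zz, hzf, hinv a ha]
      group
  have heu' : e * u' ≠ u' * e := fun e1 => by
    rw [hfix e heC heu e1, orderOf_one] at heo; norm_num at heo
  have he'u0 : e' * u ≠ u * e' := fun e1 => by
    rw [hfix e' he'C e1 he'u, orderOf_one] at he'o; norm_num at he'o
  refine ⟨fun a a1 a2 => hinv a ⟨mem_centralizer_singleton_iff.2 a1, mem_centralizer_singleton_iff.2 a2⟩,
    fun a b a1 a2 b1 b2 => hab a ⟨mem_centralizer_singleton_iff.2 a1, mem_centralizer_singleton_iff.2 a2⟩ b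
      ⟨mem_centralizer_singleton_iff.2 b1, mem_centralizer_singleton_iff.2 b2⟩,
    hnorm hu heC heo heu hu' hu'L rfl heu', hnorm hu' he'C he'o he'u hu huL (inf_comm _ _) he'u0, ?_⟩
  intro w hwC hwN hw
  by_contra hwz
  have hwi : w⁻¹ = w := inv_eq_of_mul_eq_one_right hw.1
  have hfree : ∀ a ∈ L, w * a = a * w → a = 1 := by
    intro a ha hc
    by_contra ha1
    rcases h.u_near hu (mem_centralizer_singleton_iff.1 ha.1) (hinv a ha) ha1 with hU | hF
    · exact u_no_invol hU hw hc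
    · exact hw.2 (hF.2.2 w hwC hc)
  obtain ⟨hwinv, -⟩ := fixfree_inverts hw.1 L hodd (fun a ha => by
    have := (mem_normalizer_iff.1 hwN a).1 ha
    rwa [hwi] at this) hfree
  have hzw : ∀ a ∈ L, z * w * a = a * (z * w) := fun a ha => by
    have e1 : w * a = a⁻¹ * w := by rw [← hwinv a ha, mul_assoc (w * a), hw.1, mul_one]
    have e2 : z * a⁻¹ = a * z := by rw [← hinv a ha, ← mul_assoc, ← mul_assoc, h.zz, one_mul]
    rw [mul_assoc, e1, ← mul_assoc, e2, mul_assoc]
  have := hfix (z * w) (mul_mem h.z_mem_C hwC) (hzw u huL) (hzw u' hu'L)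
  exact hwz (by rw [eq_inv_of_mul_eq_one_right this, inv_eq_of_mul_eq_one_right h.zz])

/-- The elements of `U` commuting with `e` fall into two commuting sets. -/
theorem two_sets {u e : G} (hu : IsU z u) (heC : e ∈ centralizer ({z} : Set G)) (heo : orderOf e = 3)
    (heu : e * u = u * e) (h27 : Nat.card (centralizer ({u} : Set G) ⊓ centralizer ({e} : Set G) : Subgroup G) = 27) :
    Nat.card {v : G // (IsU z v ∧ v * e = e * v) ∧ v * u = u * v} = 8 ∧
    ∀ v v', IsU z v → v * e = e * v → ¬ v * u = u * v → IsU z v' → v' * e = e * v' → ¬ v' * u = u * v' →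
      v * v' = v' * v := by
  classical
  haveI : Fact (Nat.Prime 3) := ⟨Nat.prime_three⟩
  have h8 : ∀ {x : G}, IsU z x → x * e = e * x →
      Nat.card (centralizer ({x} : Set G) ⊓ centralizer ({e} : Set G) : Subgroup G) = 27 →
      Nat.card {v : G // (IsU z v ∧ v * e = e * v) ∧ v * x = x * v} = 8 := by
    intro x hx hxe hx27
    set R := centralizer ({x} : Set G) ⊓ centralizer ({e} : Set G) with hR
    let J := {a : G // a ∈ R ∧ z * a * z = a⁻¹}
    have heR : e ∈ R := ⟨mem_centralizer_singleton_iff.2 hxe.symm, mem_centralizer_singleton_iff.2 rfl⟩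
    have hJ : Nat.card J * 3 = 27 := by
      rw [← hx27, show (3 : ℕ) = Nat.card (zpowers e) by rw [Nat.card_zpowers, heo], ← Nat.card_prod]
      refine Nat.card_eq_of_bijective (fun q : J × zpowers e =>
        (⟨q.2.1 * q.1.1, mul_mem (zpowers_le.2 heR q.2.2) q.1.2.1⟩ : R)) ⟨?_, ?_⟩
      · rintro ⟨⟨d, hd, hdi⟩, ⟨p, hp⟩⟩ ⟨⟨d', hd', hdi'⟩, ⟨p', hp'⟩⟩ e1
        replace e1 : p * d = p' * d' := congrArg Subtype.val e1
        obtain ⟨i, hi⟩ := mem_zpowers_iff.1 (mul_mem (inv_mem hp') hp)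
        have hf : z * (p'⁻¹ * p) * z = p'⁻¹ * p := (invol_fix_iff h.zz _).2 (by
          rw [← hi]; exact ((show Commute z e from (mem_centralizer_singleton_iff.1 heC).symm).zpow_right i).eq)
        have hmR : p'⁻¹ * p ∈ R := mul_mem (inv_mem (zpowers_le.2 heR hp')) (zpowers_le.2 heR hp)
        have e2 : p'⁻¹ * p = d' * d⁻¹ := by rw [eq_mul_inv_iff_mul_eq, mul_assoc, e1, inv_mul_cancel_left]
        have hcd : d' * d⁻¹ = d⁻¹ * d' := by
          rcases h.R_cases hx heC heo hxe.symm with ⟨-, hab⟩ | ⟨h9, -⟩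
          · exact hab d' hd' d⁻¹ (inv_mem hd)
          · rw [← hR, hx27] at h9; norm_num at h9
        have h1 : p'⁻¹ * p = 1 := fix_inv_one
          ((show Odd (orderOf e) by rw [heo]; decide).of_dvd_nat
            (orderOf_dvd_of_mem_zpowers (mul_mem (inv_mem hp') hp)))
          (by rw [e2, invol_conj_mul_map h.zz, invol_conj_inv_map h.zz, hdi', hdi, inv_inv,
            _root_.mul_inv_rev, inv_inv]
              exact ((show Commute d'⁻¹ d by
                have := (show Commute d' d⁻¹ from hcd).inv_inv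
                rwa [inv_inv] at this)).eq) hf
        obtain rfl : p' = p := inv_mul_eq_one.1 h1
        obtain rfl : d = d' := mul_left_cancel e1
        rfl
      · rintro ⟨a, ha⟩
        obtain ⟨p, d, e1, hp, hdi, hdu, hde, -⟩ := h.R_decomp hx heC heo hxe.symm ha
        exact ⟨⟨⟨d, ⟨mem_centralizer_singleton_iff.2 hdu, mem_centralizer_singleton_iff.2 hde⟩, hdi⟩, ⟨p, hp⟩⟩,
          Subtype.ext e1.symm⟩
    have hsplit := card_split (fun a => a ∈ R ∧ z * a * z = a⁻¹) (fun a => a = 1)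
    have e1 : Nat.card {a : G // (a ∈ R ∧ z * a * z = a⁻¹) ∧ a = 1} = 1 :=
      Nat.card_eq_one_iff_unique.2 ⟨⟨fun a b => Subtype.ext (a.2.2.trans b.2.2.symm)⟩,
        ⟨⟨1, ⟨one_mem R, by rw [mul_one, h.zz, inv_one]⟩, rfl⟩⟩⟩
    rw [e1, show Nat.card {a : G // a ∈ R ∧ z * a * z = a⁻¹} = Nat.card J from rfl] at hsplit
    rw [show 8 = Nat.card {a : G // (a ∈ R ∧ z * a * z = a⁻¹) ∧ ¬ a = 1} by omega]
    refine Nat.card_congr (Equiv.subtypeEquivRight fun v => ⟨fun hv => ?_, fun hv => ?_⟩)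
    · exact ⟨⟨⟨mem_centralizer_singleton_iff.2 hv.2, mem_centralizer_singleton_iff.2 hv.1.2⟩, hv.1.1.1.2.2⟩,
        hv.1.1.1.1⟩
    · obtain ⟨⟨hvR, hvi⟩, hv1⟩ := hv
      refine ⟨⟨(h.u_near hx (mem_centralizer_singleton_iff.1 hvR.1) hvi hv1).resolve_right fun hf => ?_,
        mem_centralizer_singleton_iff.1 hvR.2⟩, mem_centralizer_singleton_iff.1 hvR.1⟩
      rw [hf.2.2 e heC (mem_centralizer_singleton_iff.1 hvR.2).symm, orderOf_one] at heo
      norm_num at heo
  refine ⟨h8 hu heu.symm h27, fun v v' hv hve hvu hv' hv'e hv'u => ?_⟩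
  have hv27 : Nat.card (centralizer ({v} : Set G) ⊓ centralizer ({e} : Set G) : Subgroup G) = 27 := by
    obtain ⟨c, hc, hcv, hce⟩ := h.u_transport hu heC heo heu hv heC heo hve.symm
    rw [← h27]
    have hce' : centralizer ({c * e * c⁻¹} : Set G) = centralizer ({e} : Set G) := by
      rcases hce with p | p <;> rw [p]
      exact JTwo.centralizer_of_zpowers_eq zpowers_inv
    refine Eq.trans (congrArg (fun S : Subgroup G => Nat.card S) ?_) (Nat.card_congr ((MulAut.conj c).toEquiv.subtypeEquiv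
      (p := fun a => a ∈ centralizer ({u} : Set G) ⊓ centralizer ({e} : Set G))
      (q := fun a => a ∈ centralizer ({c * u * c⁻¹} : Set G) ⊓ centralizer ({c * e * c⁻¹} : Set G)) fun a => ?_)).symm
    · rw [hce', hcv]
    show _ ↔ c * a * c⁻¹ ∈ _
    simp only [mem_inf, mem_centralizer_singleton_iff]
    have key : ∀ w : G, a * w = w * a ↔ c * a * c⁻¹ * (c * w * c⁻¹) = c * w * c⁻¹ * (c * a * c⁻¹) := fun w => by
      rw [show c * a * c⁻¹ * (c * w * c⁻¹) = c * (a * w) * c⁻¹ by group,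
        show c * w * c⁻¹ * (c * a * c⁻¹) = c * (w * a) * c⁻¹ by group, mul_left_inj, mul_right_inj]
    exact and_congr (key u) (key e)
  have hv8 := h8 hv hve hv27
  have h16 : Nat.card {w : G // IsU z w ∧ w * e = e * w} = 16 := by
    obtain ⟨h32, h16, hcl⟩ := h.X_big heC heo
    have hs := card_split (fun x => x ∈ centralizer ({e} : Set G) ∧ IsInv z x) (fun x => x ^ 5 = 1)
    rw [h32, h16] at hs
    rw [show 16 = Nat.card {x : G // (x ∈ centralizer ({e} : Set G) ∧ IsInv z x) ∧ ¬ x ^ 5 = 1} by omega]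
    refine Nat.card_congr (Equiv.subtypeEquivRight fun x => ⟨fun a => ?_, fun a => ?_⟩)
    · refine ⟨⟨mem_centralizer_singleton_iff.2 a.2, a.1.1⟩, fun h5 => a.1.1.1 ?_⟩
      exact orderOf_eq_one_iff.1 (Nat.eq_one_of_dvd_coprimes (by norm_num : Nat.Coprime 5 3)
        (orderOf_dvd_of_pow_eq_one h5) (orderOf_dvd_of_pow_eq_one a.1.2.1))
    · have hc := (mem_centralizer_singleton_iff.1 a.1.1).symm
      rcases hcl x a.1.1 a.1.2 with ⟨h5, -⟩ | ⟨h3, -⟩
      · exact absurd h5 a.2
      · refine ⟨⟨a.1.2, h3, fun hY => ?_, e, heC, heo, hc⟩, hc.symm⟩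
        obtain ⟨-, -, -, -, -, hno⟩ := h.yclass_fixed hY a.1.2.2.2
        exact hno e heC hc heo
  have hs := card_split (fun w : G => IsU z w ∧ w * e = e * w) (fun w => w * u = u * w)
  rw [h16, h8 hu heu.symm h27] at hs
  let f : {w : G // (IsU z w ∧ w * e = e * w) ∧ w * v = v * w} →
      {w : G // (IsU z w ∧ w * e = e * w) ∧ ¬ w * u = u * w} := fun w => ⟨w.1, w.2.1, fun hwu => hvu
    (h.u_class_cent w.2.1.1 heC heo w.2.1.2.symm hu heu.symm hwu.symm (a := v) w.2.2.symm)⟩
  have hf : Function.Injective f := fun a b e =>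
    Subtype.ext (show (f a).1 = (f b).1 by rw [e])
  have hb := (Nat.bijective_iff_injective_and_card f).2 ⟨hf, by rw [hv8]; omega⟩
  obtain ⟨w, hw⟩ := hb.2 ⟨v', ⟨hv', hv'e⟩, hv'u⟩
  have hw' : w.1 = v' := congrArg Subtype.val hw
  rw [← hw']
  exact w.2.2.symm

/-- Commuting elements of `U` have the same fixed subgroup. -/
theorem u_same {u e u' e' : G} (hu : IsU z u) (heC : e ∈ centralizer ({z} : Set G)) (heo : orderOf e = 3)
    (heu : e * u = u * e) (hu' : IsU z u') (he'C : e' ∈ centralizer ({z} : Set G)) (he'o : orderOf e' = 3)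
    (he'u : e' * u' = u' * e') (hcom : u * u' = u' * u) : e' ∈ zpowers e := by
  classical
  by_contra hne
  obtain ⟨F⟩ := h.exists_frame
  haveI : Fact (Nat.Prime 3) := ⟨Nat.prime_three⟩
  obtain ⟨-, -, heN, he'N, honly⟩ := h.pair_facts hu heC heo heu hu' he'C he'o he'u hcom hne
  set L := centralizer ({u} : Set G) ⊓ centralizer ({u'} : Set G) with hL
  set N := centralizer ({z} : Set G) ⊓ normalizer (L : Set G) with hN
  have hπ : ∀ {f : G} (hf : f ∈ centralizer ({z} : Set G)), orderOf f = 3 → orderOf (F.π ⟨f, hf⟩) = 3 :=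
    fun {f} hf hfo => orderOf_eq_prime (by
      rw [pow_succ, pow_two]; exact (h.pi_three hf hfo F).1) (h.pi_three hf hfo F).2
  have hhom : ∀ a : ↥(centralizer ({z} : Set G)), (a : G) ∈ N → F.π a ∈ (N.subgroupOf _).map F.π :=
    fun a ha => mem_map_of_mem _ (mem_subgroupOf.2 ha)
  have himg : F.π ⟨e', he'C⟩ ∈ zpowers (F.π ⟨e, heC⟩) := by
    by_contra hni
    obtain ⟨a, ha, b, hb, a1, a2, b1, b2, hab, hne2⟩ := klein_of_two ((N.subgroupOf _).map F.π)
      (hhom ⟨e, heC⟩ ⟨heC, heN⟩) (hhom ⟨e', he'C⟩ ⟨he'C, he'N⟩) (hπ heC heo) (hπ he'C he'o) hni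
    obtain ⟨n, hn, rfl⟩ := ha
    obtain ⟨m, hm, rfl⟩ := hb
    exact h.no_klein F N inf_le_left (fun w hw hI => honly w hw.1 hw.2 hI) (mem_subgroupOf.1 hn)
      (mem_subgroupOf.1 hm) a1 a2 b1 b2 hab hne2
  -- normalise the image
  obtain ⟨f, hfC, hfo, hfu, hfN, hfne, hfπ⟩ : ∃ f, ∃ hfC : f ∈ centralizer ({z} : Set G), orderOf f = 3 ∧
      f * u' = u' * f ∧ f ∈ normalizer (L : Set G) ∧ f ∉ zpowers e ∧ F.π ⟨f, hfC⟩ = F.π ⟨e, heC⟩ := by
    rcases JTwo.pow_cases_three (hπ heC heo) himg with p | p | p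
    · exact absurd p (h.pi_three he'C he'o F).2
    · exact ⟨e', he'C, he'o, he'u, he'N, hne, p⟩
    · refine ⟨e'⁻¹, inv_mem he'C, by rw [orderOf_inv, he'o], (show Commute e' u' from he'u).inv_left.eq,
        inv_mem he'N, fun hm => hne (inv_mem_iff.1 hm), ?_⟩
      rw [show (⟨e'⁻¹, inv_mem he'C⟩ : ↥(centralizer ({z} : Set G))) = ⟨e', he'C⟩⁻¹ from rfl, map_inv, p, inv_inv]
  set q := e⁻¹ * f with hq
  have hf : f = e * q := by rw [hq, mul_inv_cancel_left]
  have hqQ : q ∈ Q := (F.ker (⟨e, heC⟩⁻¹ * ⟨f, hfC⟩)).1 (by rw [map_mul, map_inv, hfπ, inv_mul_cancel])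
  have hqC : q ∈ centralizer ({z} : Set G) := h.le hqQ
  have hqN : q ∈ normalizer (L : Set G) := mul_mem (inv_mem heN) hfN
  have hq1 : q ≠ 1 := fun e1 => hfne (by rw [hf, e1, mul_one]; exact mem_zpowers e)
  have he3 : e * e * e = 1 := by
    have := pow_orderOf_eq_one e
    rwa [heo, pow_succ, pow_two] at this
  have hf3 : e * q * (e * q) * (e * q) = 1 := by
    have := pow_orderOf_eq_one f
    rwa [hfo, pow_succ, pow_two, hf] at this
  have hqe : e * q ≠ q * e := fun hc => by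
    have h3 : q * q * q = 1 := by
      calc q * q * q = (e * e * e) * (q * q * q) := by rw [he3, one_mul]
        _ = e * (e * (e * q) * q) * q := by group
        _ = e * (e * (q * e) * q) * q := by rw [hc]
        _ = e * ((e * q) * (e * q)) * q := by group
        _ = e * ((q * e) * (e * q)) * q := by nth_rw 1 [hc]
        _ = e * q * (e * (e * q)) * q := by group
        _ = e * q * (e * (q * e)) * q := by rw [hc]
        _ = e * q * (e * q) * (e * q) := by group
        _ = 1 := hf3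
    have hd := orderOf_dvd_natCard Q hqQ
    rw [h.card] at hd
    exact hq1 (orderOf_eq_one_iff.1 (Nat.eq_one_of_dvd_coprimes (by norm_num : Nat.Coprime 32 3) hd
      (orderOf_dvd_of_pow_eq_one (by rw [pow_succ, pow_two]; exact h3))))
  have hzq : q * q = z := by
    refine (h.sq q hqQ).resolve_left fun e1 => hqe ?_
    rw [honly q hqC hqN ⟨e1, hq1⟩]
    exact mem_centralizer_singleton_iff.1 heC
  have hzu : z * u * z⁻¹ = u⁻¹ := by rw [inv_eq_of_mul_eq_one_right h.zz]; exact hu.1.2.2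
  -- the pair moved by `q`
  set u₁ := q * u * q⁻¹ with hu₁
  set e₁ := q * e * q⁻¹ with he₁
  have hu₁U : IsU z u₁ := isU_conj h.zz hqC hu
  have he₁C : e₁ ∈ centralizer ({z} : Set G) := mul_mem (mul_mem hqC heC) (inv_mem hqC)
  have he₁o : orderOf e₁ = 3 := by rw [he₁, ← MulAut.conj_apply, MulEquiv.orderOf_eq, heo]
  have he₁u : e₁ * u₁ = u₁ * e₁ := by
    rw [he₁, hu₁, show q * e * q⁻¹ * (q * u * q⁻¹) = q * (e * u) * q⁻¹ by group, heu]; group
  have he₁ne : e₁ ∉ zpowers e := fun hm => by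
    rcases JTwo.pow_cases_three heo hm with p | p | p
    · rw [p, orderOf_one] at he₁o; norm_num at he₁o
    · exact hqe (mul_inv_eq_iff_eq_mul.1 p).symm
    · have e1 : F.π (⟨q, hqC⟩ * ⟨e, heC⟩ * ⟨q, hqC⟩⁻¹) = F.π ⟨e, heC⟩⁻¹ := congrArg F.π (Subtype.ext p)
      rw [map_mul, map_mul, map_inv, (F.ker _).2 hqQ, one_mul, inv_one, mul_one, map_inv] at e1
      have := eq_one_of_odd_of_mul_self (show Odd (orderOf (F.π ⟨e, heC⟩)) by rw [hπ heC heo]; decide)
        (by nth_rw 2 [e1]; exact mul_inv_cancel _)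
      exact (h.pi_three heC heo F).2 this
  have hu₁L : u₁ ∈ L := (mem_normalizer_iff.1 hqN u).1
    ⟨mem_centralizer_singleton_iff.2 rfl, mem_centralizer_singleton_iff.2 hcom⟩
  have hcom₁ : u * u₁ = u₁ * u := (mem_centralizer_singleton_iff.1 hu₁L.1).symm
  obtain ⟨hinv₁, hab₁, heN₁, -, honly₁⟩ :=
    h.pair_facts hu heC heo heu hu₁U he₁C he₁o he₁u hcom₁ he₁ne
  set L₁ := centralizer ({u} : Set G) ⊓ centralizer ({u₁} : Set G) with hL₁
  have hL₁c : ∀ a ∈ L₁, ∀ b ∈ L₁, Commute a b := fun a ha b hb =>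
    hab₁ a b (mem_centralizer_singleton_iff.1 ha.1) (mem_centralizer_singleton_iff.1 ha.2)
      (mem_centralizer_singleton_iff.1 hb.1) (mem_centralizer_singleton_iff.1 hb.2)
  have hσ : ∀ a ∈ L₁, e * a * e⁻¹ ∈ L₁ := fun a ha => (mem_normalizer_iff.1 heN₁ a).1 ha
  have heu₁ : e * u₁ ≠ u₁ * e := fun e1 => he₁ne (by
    have hm := h.u_fixed hu₁U he₁C he₁o he₁u heC e1
    rcases JTwo.pow_cases_three he₁o hm with p | p | p
    · rw [p, orderOf_one] at heo; norm_num at heo
    · rw [← p]; exact mem_zpowers e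
    · rw [show e₁ = e⁻¹ by rw [p, inv_inv]]; exact inv_mem (mem_zpowers e))
  -- an element moving `e` by an element of `U` commuting with it
  obtain ⟨g, w, hgL, hwL, hw1, hwe, hgw⟩ : ∃ g w, g ∈ L₁ ∧ w ∈ L₁ ∧ w ≠ 1 ∧ e * w = w * e ∧
      g⁻¹ * e * g = w * e := by
    have hu₁L₁ : u₁ ∈ L₁ := ⟨mem_centralizer_singleton_iff.2 hcom₁.symm, mem_centralizer_singleton_iff.2 rfl⟩
    set v := u₁⁻¹ * (e * u₁ * e⁻¹) with hv
    have hvL : v ∈ L₁ := mul_mem (inv_mem hu₁L₁) (hσ u₁ hu₁L₁)
    have hv1 : v ≠ 1 := fun e1 => heu₁ (mul_inv_eq_iff_eq_mul.1 (inv_mul_eq_one.1 e1).symm)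
    have hgv : u₁⁻¹ * e * u₁ = v * e := by rw [hv]; group
    by_cases hev : e * v = v * e
    · exact ⟨u₁, v, hu₁L₁, hvL, hv1, hev, hgv⟩
    set v2 := v⁻¹ * (e * v * e⁻¹) with hv2
    have hv2L : v2 ∈ L₁ := mul_mem (inv_mem hvL) (hσ v hvL)
    refine ⟨v, v2, hvL, hv2L, fun e1 => hev (mul_inv_eq_iff_eq_mul.1 (inv_mul_eq_one.1 e1).symm), ?_,
      by rw [hv2]; group⟩
    set a := u₁ with haU
    set b := e * a * e⁻¹ with hb
    set c := e * b * e⁻¹ with hc
    have hbL : b ∈ L₁ := hσ a hu₁L₁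
    have hcL : c ∈ L₁ := hσ b hbL
    have hca : e * c * e⁻¹ = a := by
      rw [hc, hb, show e * (e * (e * a * e⁻¹) * e⁻¹) * e⁻¹ = e * e * e * a * (e * e * e)⁻¹ by group, he3]
      group
    have hb3 : b * b * b = 1 := by
      rw [hb, show e * a * e⁻¹ * (e * a * e⁻¹) * (e * a * e⁻¹) = e * (a * a * a) * e⁻¹ by group,
        show a * a * a = 1 by have := hu₁U.2.1; rwa [pow_succ, pow_two] at this]
      group
    have hv2e : v2 = a * b * c := by
      have e1 : e * v * e⁻¹ = b⁻¹ * c := by rw [hv, hc, hb]; group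
      rw [hv2, e1, show v = a⁻¹ * b from hv, _root_.mul_inv_rev, inv_inv,
        show b⁻¹ * a * (b⁻¹ * c) = b⁻¹ * (a * b⁻¹) * c by group, ((hL₁c a hu₁L₁ _ (inv_mem hbL))).eq,
        show b⁻¹ * (b⁻¹ * a) * c = (b * b * b)⁻¹ * (b * a) * c by group, hb3, (hL₁c b hbL a hu₁L₁).eq]
      group
    refine mul_inv_eq_iff_eq_mul.1 ?_
    calc e * v2 * e⁻¹ = e * a * e⁻¹ * (e * b * e⁻¹) * (e * c * e⁻¹) := by rw [hv2e]; group
      _ = b * c * a := by rw [hca]
      _ = a * (b * c) := (hL₁c a hu₁L₁ (b * c) (mul_mem hbL hcL)).eq.symm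
      _ = v2 := by rw [hv2e]; exact (mul_assoc a b c).symm
  have hwU : IsU z w := by
    refine (h.u_near hu (mem_centralizer_singleton_iff.1 hwL.1)
      (hinv₁ w (mem_centralizer_singleton_iff.1 hwL.1) (mem_centralizer_singleton_iff.1 hwL.2)) hw1).resolve_right
      fun hf => ?_
    rw [hf.2.2 e heC hwe, orderOf_one] at heo; norm_num at heo
  have heY : YClass e := ⟨heo, z, h.isI, mem_centralizer_singleton_iff.2 (mem_centralizer_singleton_iff.1 heC).symm⟩
  have hsp : Spread z e := h.spread_of hwU heC heo hwe (Or.inl (by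
    have := yclass_conj g⁻¹ heY
    rw [inv_inv, hgw, ← hwe] at this
    exact this))
  rcases h.R_cases hu heC heo heu with ⟨h27, -⟩ | ⟨-, -, g₀, -, hg₀⟩
  swap
  · obtain ⟨hY1, hY2⟩ := hsp u hu heu
    refine hu.2.2.1 ?_
    rcases hg₀ with e1 | e1
    · have := yclass_conj g₀⁻¹ hY1
      rwa [heu, ← e1, show g₀⁻¹ * (g₀ * u * g₀⁻¹) * g₀⁻¹⁻¹ = u by group] at this
    · have := yclass_conj g₀⁻¹ hY2
      rwa [((show Commute e u from heu).inv_left).eq, ← e1, show g₀⁻¹ * (g₀ * u * g₀⁻¹) * g₀⁻¹⁻¹ = u by group] at this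
  -- an element of order four normalising the pair
  obtain ⟨-, htwo⟩ := h.two_sets hu heC heo heu h27
  obtain ⟨s, hsQ, hse, hs1, hsz, hsu⟩ : ∃ s, s ∈ Q ∧ s * e = e * s ∧ s ≠ 1 ∧ s ≠ z ∧
      s * u * s⁻¹ * u = u * (s * u * s⁻¹) := by
    have hD := h.card_fixed_part heC heo
    obtain ⟨d1, hd1⟩ : ∃ d : {d : G // d ∈ Q ∧ d * e = e * d}, d.1 ∉ ({1, z} : Set G) := by
      by_contra hall
      push Not at hall
      have : Nat.card {d : G // d ∈ Q ∧ d * e = e * d} ≤ Nat.card ({1, z} : Set G) :=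
        Nat.card_le_card_of_injective (fun d => ⟨d.1, hall d⟩)
          fun a b e => Subtype.ext (congrArg Subtype.val e :)
      rw [hD, Nat.card_coe_set_eq, Set.ncard_pair h.z_ne.symm] at this
      norm_num at this
    obtain ⟨d2, hd2⟩ : ∃ d : {d : G // d ∈ Q ∧ d * e = e * d}, d.1 ∉ ({1, z, d1.1, d1.1 * z} : Set G) := by
      by_contra hall
      push Not at hall
      have : Nat.card {d : G // d ∈ Q ∧ d * e = e * d} ≤ Nat.card ({1, z, d1.1, d1.1 * z} : Set G) :=
        Nat.card_le_card_of_injective (fun d => ⟨d.1, hall d⟩)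
          fun a b e => Subtype.ext (congrArg Subtype.val e :)
      have h4 : ({1, z, d1.1, d1.1 * z} : Set G).ncard ≤ 4 := by
        refine (Set.ncard_insert_le _ _).trans (Nat.succ_le_succ ((Set.ncard_insert_le _ _).trans
          (Nat.succ_le_succ ((Set.ncard_insert_le _ _).trans ?_))))
        rw [Set.ncard_singleton]
      rw [hD, Nat.card_coe_set_eq] at this
      omega
    simp only [Set.mem_insert_iff, Set.mem_singleton_iff, not_or] at hd1 hd2
    by_cases c1 : d1.1 * u * d1.1⁻¹ * u = u * (d1.1 * u * d1.1⁻¹)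
    · exact ⟨d1.1, d1.2.1, d1.2.2, hd1.1, hd1.2, c1⟩
    by_cases c2 : d2.1 * u * d2.1⁻¹ * u = u * (d2.1 * u * d2.1⁻¹)
    · exact ⟨d2.1, d2.2.1, d2.2.2, hd2.1, hd2.2.1, c2⟩
    have hcm : ∀ d : {d : G // d ∈ Q ∧ d * e = e * d}, d.1 * u * d.1⁻¹ * e = e * (d.1 * u * d.1⁻¹) := fun d =>
      (((show Commute d.1 e from d.2.2).mul_left (show Commute u e from heu.symm)).mul_left
        (show Commute d.1 e from d.2.2).inv_left).eq
    have hc12 := htwo _ _ (isU_conj h.zz (h.le d1.2.1) hu) (hcm d1) c1 (isU_conj h.zz (h.le d2.2.1) hu) (hcm d2) c2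
    refine ⟨d1.1⁻¹ * d2.1, mul_mem (inv_mem d1.2.1) d2.2.1,
      ((show Commute d1.1 e from d1.2.2).inv_left.mul_left (show Commute d2.1 e from d2.2.2)).eq,
      fun e1 => hd2.2.2.1 (inv_mul_eq_one.1 e1).symm, fun e1 => hd2.2.2.2 (by rw [← e1, mul_inv_cancel_left]), ?_⟩
    calc d1.1⁻¹ * d2.1 * u * (d1.1⁻¹ * d2.1)⁻¹ * u
        = d1.1⁻¹ * (d2.1 * u * d2.1⁻¹ * (d1.1 * u * d1.1⁻¹)) * d1.1 := by group
      _ = d1.1⁻¹ * (d1.1 * u * d1.1⁻¹ * (d2.1 * u * d2.1⁻¹)) * d1.1 := by rw [hc12]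
      _ = u * (d1.1⁻¹ * d2.1 * u * (d1.1⁻¹ * d2.1)⁻¹) := by group
  have hsC : s ∈ centralizer ({z} : Set G) := h.le hsQ
  -- `s` commutes with `q`
  have hcy : ∀ a : G, nc (e * a * e⁻¹) s = nc a s := fun a => by
    nth_rw 1 [show s = e * s * e⁻¹ by rw [← hse, mul_inv_cancel_right]]
    exact nc_conj e a s
  have hqs : Commute q s := nc_eq_false.1 (by
    have hq'Q : e * q * e⁻¹ ∈ Q := h.nrm e heC q hqQ
    have hq''Q : e * (e * q * e⁻¹) * e⁻¹ ∈ Q := h.nrm e heC _ hq'Q
    have e1 : (e * q * e⁻¹) * (e * (e * q * e⁻¹) * e⁻¹) * q = 1 := by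
      calc (e * q * e⁻¹) * (e * (e * q * e⁻¹) * e⁻¹) * q
          = e * q * (e * q) * (e * q) * (q⁻¹ * (e * e * e)⁻¹ * q) := by group
        _ = 1 := by rw [hf3, he3]; group
    have e2 : nc ((e * q * e⁻¹) * (e * (e * q * e⁻¹) * e⁻¹) * q) s = nc 1 s := congrArg (fun a => nc a s) e1
    rw [h.nc_mul (mul_mem hq'Q hq''Q) hqQ hsQ, h.nc_mul hq'Q hq''Q hsQ, hcy, hcy, hcy,
      show nc (1 : G) s = false from nc_eq_false.2 (by simp)] at e2
    revert e2
    cases nc q s <;> simp)
  set v := s * u * s⁻¹ with hv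
  have hvU : IsU z v := isU_conj h.zz hsC hu
  have hve : v * e = e * v := (((show Commute s e from hse).mul_left (show Commute u e from heu.symm)).mul_left
    (show Commute s e from hse).inv_left).eq
  have hCv : centralizer ({v} : Set G) = centralizer ({u} : Set G) := Subgroup.ext fun a => by
    rw [mem_centralizer_singleton_iff, mem_centralizer_singleton_iff]
    exact ⟨fun ha => h.u_class_cent hvU heC heo hve.symm hu heu.symm hsu.symm ha,
      fun ha => h.u_class_cent hu heC heo heu hvU hve hsu ha⟩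
  have key : ∀ (c a w : G), a * w = w * a → c * a * c⁻¹ * (c * w * c⁻¹) = c * w * c⁻¹ * (c * a * c⁻¹) :=
    fun c a w e1 => by
      rw [show c * a * c⁻¹ * (c * w * c⁻¹) = c * (a * w) * c⁻¹ by group, e1]; group
  have hsN : s ∈ normalizer (L₁ : Set G) := mem_normalizer_of_le fun a ha => by
    refine ⟨hCv ▸ mem_centralizer_singleton_iff.2 (key s a u (mem_centralizer_singleton_iff.1 ha.1)),
      mem_centralizer_singleton_iff.2 ?_⟩
    have hsu₁ : s * u₁ * s⁻¹ = q * v * q⁻¹ := by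
      rw [hu₁, hv, show s * (q * u * q⁻¹) * s⁻¹ = (s * q) * u * (s * q)⁻¹ by group, ← hqs.eq]; group
    have hm := key s a u₁ (mem_centralizer_singleton_iff.1 ha.2)
    rw [hsu₁] at hm
    have hm' : q⁻¹ * (s * a * s⁻¹) * q⁻¹⁻¹ ∈ centralizer ({u} : Set G) := hCv ▸ mem_centralizer_singleton_iff.2 (by
      have := key q⁻¹ _ _ hm
      rwa [show q⁻¹ * (q * v * q⁻¹) * q⁻¹⁻¹ = v by group] at this)
    have := key q _ _ (mem_centralizer_singleton_iff.1 hm')
    rwa [show q * (q⁻¹ * (s * a * s⁻¹) * q⁻¹⁻¹) * q⁻¹ = s * a * s⁻¹ by group] at this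
  have hqN₁ : q ∈ normalizer (L₁ : Set G) := mem_normalizer_of_le fun a ha => by
    refine ⟨mem_centralizer_singleton_iff.2 ?_,
      mem_centralizer_singleton_iff.2 (key q a u (mem_centralizer_singleton_iff.1 ha.1))⟩
    have hm := key q a u₁ (mem_centralizer_singleton_iff.1 ha.2)
    rw [hu₁, show q * (q * u * q⁻¹) * q⁻¹ = (q * q) * u * (q * q)⁻¹ by group, hzq, hzu] at hm
    have := (show Commute (q * a * q⁻¹) u⁻¹ from hm).inv_right
    rwa [inv_inv] at this
  by_cases hss : s * s = 1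
  · exact hsz (honly₁ s hsC hsN ⟨hss, hs1⟩)
  have hss' : s * s = z := (h.sq s hsQ).resolve_left hss
  have hw2 : q * s * (q * s) = 1 := by
    rw [show q * s * (q * s) = q * (s * q) * s by group, ← hqs.eq,
      show q * (q * s) * s = q * q * (s * s) by group, hzq, hss', h.zz]
  have hw1' : q * s ≠ 1 := fun e1 => hqe (by
    rw [eq_inv_of_mul_eq_one_left e1]
    exact ((show Commute e s from hse.symm).inv_right).eq)
  have := honly₁ (q * s) (mul_mem hqC hsC) (mul_mem hqN₁ hsN) ⟨hw2, hw1'⟩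
  refine hqe ?_
  rw [show q = z * s⁻¹ by rw [← this]; group]
  exact ((show Commute e z from mem_centralizer_singleton_iff.1 heC).mul_right
    (show Commute e s from hse.symm).inv_right).eq

/-- Commuting elements of `U` have the same centralizer. -/
theorem u_cent_eq {u u' : G} (hu : IsU z u) (hu' : IsU z u') (hcom : u * u' = u' * u) :
    centralizer ({u'} : Set G) = centralizer ({u} : Set G) := by
  obtain ⟨e, heC, heo, heu⟩ := hu.2.2.2
  obtain ⟨e', he'C, he'o, he'u⟩ := hu'.2.2.2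
  obtain ⟨i, hi⟩ := mem_zpowers_iff.1 (h.u_same hu' he'C he'o he'u hu heC heo heu hcom.symm)
  have heu' : e * u' = u' * e := by
    rw [← hi]; exact ((show Commute e' u' from he'u).zpow_left i).eq
  ext a
  rw [mem_centralizer_singleton_iff, mem_centralizer_singleton_iff]
  exact ⟨fun ha => h.u_class_cent hu' heC heo heu' hu heu.symm hcom ha,
    fun ha => h.u_class_cent hu heC heo heu hu' heu'.symm hcom.symm ha⟩

end Big

end CfsgLib.Invol.JThreeType
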