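import Cfsg.Agent.Lib.Invol.JThreeType.Elements
import Cfsg.Agent.Lib.Invol.JTwo.Count

/-!
# Counting involutions by their products with the central one
-/

set_option autoImplicit false
set_option synthInstance.maxSize 4096

namespace CfsgLib.Invol.JThreeType

open Subgroup
open CfsgLib.Invol.JTwo (PreHyp Frame Out cj mem_cj mem_centralizer_conj nc_eq_false card_orbit_mul commute_of_mem_zpowers)

local notation "A" => alternatingGroup (Fin 5)

theorem invol_pair_cases : ∀ a b : {a : A // a * a = 1 ∧ a ≠ 1}, a.1 * b.1 = 1 ∨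
    (a.1 * b.1 * (a.1 * b.1) = 1 ∧ a.1 * b.1 ≠ 1 ∧ ∃ i, JTwo.AltFive.act a.1 i = i ∧ JTwo.AltFive.act b.1 i = i) ∨
    ((a.1 * b.1) ^ 3 = 1 ∨ (a.1 * b.1) ^ 5 = 1) ∧ a.1 * b.1 ≠ 1 := by
  decide +kernel

theorem fix_four_cases : ∀ i : Fin 5, ∀ a b : {a : A // a * a = 1 ∧ a ≠ 1 ∧ JTwo.AltFive.act a i = i}, a.1 ≠ b.1 →
    ∀ v : {v : Fin 5 → Bool // JTwo.AltFive.Even5 v}, JTwo.AltFive.Fix a.1 v.1 → JTwo.AltFive.Fix b.1 v.1 →
      (∀ k, v.1 k = false) ∨ ∀ k, v.1 k = JTwo.AltFive.co i k := by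
  decide +kernel

theorem fix_point_count : ∀ i : Fin 5, Fintype.card {g : A // (g * g = 1 ∧ g ≠ 1) ∧ JTwo.AltFive.act g i = i} = 3 := by
  decide +kernel

theorem odd_partner_count : ∀ a : {a : A // a * a = 1 ∧ a ≠ 1},
    Fintype.card {g : A // (g * g = 1 ∧ g ≠ 1) ∧ ((a.1 * g) ^ 3 = 1 ∨ (a.1 * g) ^ 5 = 1) ∧ a.1 * g ≠ 1} = 12 := by
  decide +kernel

theorem odd_pow_order : ∀ g : {g : A // (g ^ 3 = 1 ∨ g ^ 5 = 1) ∧ g ≠ 1}, g.1 * g.1 ≠ 1 ∧
    (g.1 ^ 3 = 1 ∨ g.1 ^ 5 = 1) := by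
  decide +kernel

theorem card_split {α : Type*} [Finite α] (p q : α → Prop) :
    Nat.card {t : α // p t} = Nat.card {t : α // p t ∧ q t} + Nat.card {t : α // p t ∧ ¬ q t} := by
  classical
  rw [← Nat.card_sum]
  refine Nat.card_congr ((Equiv.sumCompl fun t : {t : α // p t} => q t).symm.trans ?_)
  exact Equiv.sumCongr (Equiv.subtypeSubtypeEquivSubtypeInter p q)
    (Equiv.subtypeSubtypeEquivSubtypeInter p fun t => ¬ q t)

/-- The partners of an involution with a power of the product equal to the central one. -/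
def Partner {G : Type*} [Group G] (z u d : G) : Prop := IsI d ∧ u * d ≠ d * u ∧ z ∈ zpowers (u * d)

theorem exists_invol_half {G : Type*} [Group G] [Finite G] {x : G} (h : Even (orderOf x)) :
    x ^ (orderOf x / 2) * x ^ (orderOf x / 2) = 1 ∧ x ^ (orderOf x / 2) ≠ 1 := by
  obtain ⟨k, hk⟩ := h
  have hm := orderOf_pos x
  rw [show orderOf x / 2 = k by omega]
  refine ⟨by rw [← pow_add, ← hk, pow_orderOf_eq_one], fun he => ?_⟩
  have := Nat.le_of_dvd (by omega) (orderOf_dvd_of_pow_eq_one he)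
  omega

/-- A cyclic group has one involution. -/
theorem zpowers_invol {G : Type*} [Group G] [Finite G] {x c : G} (hc : c ∈ zpowers x) (hI : IsI c) :
    Even (orderOf x) ∧ c = x ^ (orderOf x / 2) := by
  have hd : 2 ∣ orderOf x := (isI_iff.1 hI) ▸ orderOf_dvd_of_mem_zpowers hc
  refine ⟨even_iff_two_dvd.2 hd, invol_zpowers_unique (w := x) (isI_iff.1 hI) ?_ hc (npow_mem_zpowers x _)⟩
  exact isI_iff.1 (exists_invol_half (even_iff_two_dvd.2 hd))

namespace Hyp

variable {G : Type*} [Group G] [Finite G] {z : G} {Q : Subgroup G} (h : Hyp z Q)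
include h

theorem invol_type {d : G} (hd : IsI d) (hdC : d ∈ centralizer ({z} : Set G)) :
    (d ∈ Q ∧ d * d = 1 ∧ d ≠ 1) ∨ Out z Q d := by
  by_cases hq : d ∈ Q
  · exact Or.inl ⟨hq, hd⟩
  · exact Or.inr ⟨hdC, hq, hd.1⟩

theorem card_invol_Q : Nat.card {u : G // u ∈ Q ∧ u * u = 1 ∧ u ≠ 1} = 11 := by
  obtain ⟨f, hfC, hfo, hfix⟩ := h.five_elt
  exact (HallJanko.invol_data h.card h.zmem h.z_ne h.zz (fun _ => h.z_comm) h.comm h.sq h.cen
    f (by rw [← hfo, pow_orderOf_eq_one]) (h.nrm f hfC) (mem_centralizer_singleton_iff.1 hfC) hfix).1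

/-- An involution of `Q` and one of the centralizer not commuting with it. -/
theorem mem_zpowers_of_noncomm {u v : G} (hu : u ∈ Q) (huu : u * u = 1) (hvC : v ∈ centralizer ({z} : Set G))
    (hv : v * v = 1) (huv : u * v ≠ v * u) : z ∈ zpowers (u * v) := by
  have hw := HallJanko.comm_square huu hv
  have hvz := mem_centralizer_singleton_iff.1 hvC
  set u' := v * u * v⁻¹ with hu'
  have hu'Q : u' ∈ Q := h.nrm v hvC u hu
  have hu'2 : u' * u' = 1 := by
    calc u' * u' = v * (u * u) * v⁻¹ := by rw [hu']; group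
      _ = 1 := by rw [huu]; group
  have hu1 : u ≠ 1 := fun e => huv (by rw [e, one_mul, mul_one])
  have huz : u ≠ z := fun e => huv (by rw [e]; exact hvz.symm)
  have hu'1 : u' ≠ 1 := fun e => hu1 (conj_eq_one_iff.1 e)
  have hu'z : u' ≠ z := fun e => huz (by
    calc u = v⁻¹ * u' * v := by rw [hu']; group
      _ = z := by rw [e, mul_assoc, ← hvz, inv_mul_cancel_left])
  by_cases hcm : u * u' = u' * u
  · rcases h.commuting_invol hu huu hu1 huz hu'Q hu'2 hcm with e | e | e | e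
    · exact absurd e hu'1
    · exact absurd e hu'z
    · exact absurd (show u * v = v * u from (mul_inv_eq_iff_eq_mul.1 (hu' ▸ e)).symm) huv
    · refine mem_zpowers_iff.2 ⟨2, ?_⟩
      show (u * v) ^ (2 : ℤ) = z
      rw [show (2 : ℤ) = ((2 : ℕ) : ℤ) from rfl, zpow_natCast, hw, e, ← mul_assoc, huu, one_mul]
  · have e := (h.comm u hu u' hu'Q).resolve_left hcm
    refine mem_zpowers_iff.2 ⟨4, ?_⟩
    show (u * v) ^ (4 : ℤ) = z
    rw [show (4 : ℤ) = ((4 : ℕ) : ℤ) from rfl, zpow_natCast, show 4 = 2 * 2 from rfl, pow_mul, hw, pow_two]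
    calc u * u' * (u * u') = z * (u' * u) * (u * u') := by rw [e]
      _ = z * (u' * (u * u) * u') := by group
      _ = z := by rw [huu, mul_one, hu'2, mul_one]

theorem card_fibre_over (F : Frame z Q) {g : A} (hg : g * g = 1) (hg1 : g ≠ 1) :
    Nat.card {y : G // ∃ hy : Out z Q y, F.π ⟨y, hy.1⟩ = g} = 8 := by
  obtain ⟨x, hx, rfl⟩ := h.exists_out_over F hg hg1
  exact h.card_fiber F hx

/-- Summing over a set of involutions of the quotient. -/
theorem card_out_over (F : Frame z Q) (P : A → Prop) [DecidablePred P] :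
    Nat.card {d : G // ∃ hd : Out z Q d, P (F.π ⟨d, hd.1⟩)} =
      8 * Fintype.card {g : A // (g * g = 1 ∧ g ≠ 1) ∧ P g} := by
  classical
  haveI := Fintype.ofFinite G
  let e : {d : G // ∃ hd : Out z Q d, P (F.π ⟨d, hd.1⟩)} ≃
      Σ g : {g : A // (g * g = 1 ∧ g ≠ 1) ∧ P g}, {y : G // ∃ hy : Out z Q y, F.π ⟨y, hy.1⟩ = g.1} :=
    { toFun := fun d => ⟨⟨F.π ⟨d.1, d.2.1.1⟩, h.pi_invol F d.2.1, d.2.2⟩, ⟨d.1, d.2.1, rfl⟩⟩
      invFun := fun s => ⟨s.2.1, s.2.2.1, by rw [s.2.2.2]; exact s.1.2.2⟩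
      left_inv := fun d => rfl
      right_inv := fun s => by
        obtain ⟨⟨g, hg'⟩, ⟨y, hy, e⟩⟩ := s
        obtain rfl : F.π ⟨y, hy.1⟩ = g := e
        rfl }
  rw [Nat.card_congr e, Nat.card_sigma,
    Finset.sum_congr rfl fun g _ => h.card_fibre_over F g.2.1.1 g.2.1.2, Finset.sum_const, Finset.card_univ,
    smul_eq_mul, mul_comm]

theorem partner_mem {u d : G} (hu : IsI u) (huC : u ∈ centralizer ({z} : Set G)) (hp : Partner z u d) :
    d ∈ centralizer ({z} : Set G) :=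
  mem_centralizer_singleton_iff.2 (commute_of_mem_zpowers hu.1 hp.1.1 hp.2.2 h.zz).2

/-- The partners of an involution of `Q`. -/
theorem card_partners_in {u : G} (hu : u ∈ Q) (huu : u * u = 1) (hu1 : u ≠ 1) (huz : u ≠ z) :
    Nat.card {d : G // Partner z u d} = 104 := by
  classical
  obtain ⟨F⟩ := h.exists_frame
  obtain ⟨i, hi⟩ := F.all u hu huu hu1 huz
  have hcp : ∀ {c : G}, c ∈ centralizer ({z} : Set G) → (u * c = c * u ↔ c * F.p i = F.p i * c) := by
    intro c hc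
    rcases hi with rfl | rfl
    · exact ⟨Eq.symm, Eq.symm⟩
    · exact ⟨fun e => (h.centralizer_mul_z hc).1 e.symm, fun e => ((h.centralizer_mul_z hc).2 e).symm⟩
  rw [card_split _ fun d => d ∈ Q]
  have h1 : Nat.card {d : G // Partner z u d ∧ d ∈ Q} = 8 := by
    have hs := card_split (fun d : G => d ∈ Q ∧ d * d = 1 ∧ d ≠ 1) fun d => u * d = d * u
    have h3 : Nat.card {d : G // (d ∈ Q ∧ d * d = 1 ∧ d ≠ 1) ∧ u * d = d * u} = 3 := by
      have e : ({z, u, u * z} : Set G).ncard = 3 := by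
        have n3 : u * z ≠ u := fun e => h.z_ne (mul_eq_left.1 e)
        rw [Set.ncard_insert_of_notMem, Set.ncard_pair n3.symm]
        simp only [Set.mem_insert_iff, Set.mem_singleton_iff, not_or]
        exact ⟨huz.symm, fun e => hu1 (mul_eq_right.1 e.symm)⟩
      rw [← e, ← Nat.card_coe_set_eq]
      refine Nat.card_congr (Equiv.subtypeEquivRight fun d => ?_)
      simp only [Set.mem_insert_iff, Set.mem_singleton_iff]
      constructor
      · rintro ⟨⟨hd, hdd, hd1⟩, hc⟩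
        exact (h.commuting_invol hu huu hu1 huz hd hdd hc).resolve_left hd1
      · rintro (rfl | rfl | rfl)
        · exact ⟨⟨h.zmem, h.zz, h.z_ne⟩, h.z_comm hu⟩
        · exact ⟨⟨hu, huu, hu1⟩, rfl⟩
        · refine ⟨⟨mul_mem hu h.zmem, h.mul_z_inv hu huu, fun e => huz ?_⟩, ?_⟩
          · rw [eq_inv_of_mul_eq_one_left e, inv_eq_of_mul_eq_one_right h.zz]
          · rw [mul_assoc u z u, ← h.z_comm hu]
    rw [h.card_invol_Q, h3] at hs
    rw [show 8 = Nat.card {d : G // (d ∈ Q ∧ d * d = 1 ∧ d ≠ 1) ∧ ¬ u * d = d * u} by omega]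
    refine Nat.card_congr (Equiv.subtypeEquivRight fun d => ⟨?_, ?_⟩)
    · rintro ⟨⟨hd, hn, -⟩, hq⟩
      exact ⟨⟨hq, hd⟩, hn⟩
    · rintro ⟨⟨hq, hd⟩, hn⟩
      exact ⟨⟨hd, hn, h.mem_zpowers_of_noncomm hu huu (h.le hq) hd.1 hn⟩, hq⟩
  have h2 : Nat.card {d : G // Partner z u d ∧ ¬ d ∈ Q} = 96 := by
    have e24 : Nat.card {d : G // Out z Q d ∧ u * d = d * u} = 24 := by
      rw [show (24 : ℕ) = 8 * 3 from rfl, ← fix_point_count i,
        ← h.card_out_over F fun g => JTwo.AltFive.act g i = i]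
      refine Nat.card_congr (Equiv.subtypeEquivRight fun d => ⟨?_, ?_⟩)
      · rintro ⟨hd, hc⟩
        exact ⟨hd, h.act_of_commute F ((hcp hd.1).1 hc)⟩
      · rintro ⟨hd, hfix⟩
        exact ⟨hd, (hcp hd.1).2 (h.commute_point F hd hfix)⟩
    obtain ⟨x, hx⟩ := h.exists_out
    have hs := card_split (fun d : G => Out z Q d) fun d => u * d = d * u
    rw [h.card_out hx, e24] at hs
    rw [show 96 = Nat.card {d : G // Out z Q d ∧ ¬ u * d = d * u} by omega]
    refine Nat.card_congr (Equiv.subtypeEquivRight fun d => ⟨?_, ?_⟩)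
    · rintro ⟨hp, hq⟩
      exact ⟨⟨h.partner_mem ⟨huu, hu1⟩ (h.le hu) hp, hq, hp.1.1⟩, hp.2.1⟩
    · rintro ⟨hd, hn⟩
      exact ⟨⟨h.out_isI hd, hn, h.mem_zpowers_of_noncomm hu huu hd.1 hd.2.2 hn⟩, hd.2.1⟩
  rw [h1, h2]

/-- Nothing over an involution squares to the central one. -/
theorem sq_ne_z (F : Frame z Q) {x : G} (hx : x ∈ centralizer ({z} : Set G))
    (hπ : F.π ⟨x, hx⟩ * F.π ⟨x, hx⟩ = 1) (hπ1 : F.π ⟨x, hx⟩ ≠ 1) : x * x ≠ z := by
  intro hxx
  obtain ⟨e, he, heπ⟩ := h.exists_out_over F hπ hπ1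
  set q := e * x with hq
  have hqQ : q ∈ Q := (F.ker (⟨e, he.1⟩ * ⟨x, hx⟩)).1 (by rw [map_mul, heπ, hπ])
  have hei : e⁻¹ = e := inv_eq_of_mul_eq_one_right he.2.2
  have h1 : e * q * e = q⁻¹ * z ∨ False := Or.inl (by
    calc e * q * e = x * e := by rw [hq, ← mul_assoc e e x, he.2.2, one_mul]
      _ = x⁻¹ * (x * x) * e := by group
      _ = x⁻¹ * (z * e) := by rw [hxx, mul_assoc]
      _ = x⁻¹ * e⁻¹ * z := by rw [hei, ← mem_centralizer_singleton_iff.1 he.1, mul_assoc]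
      _ = q⁻¹ * z := by rw [hq, _root_.mul_inv_rev])
  replace h1 := h1.resolve_right id
  have hf : JTwo.AltFive.Fix (F.π ⟨e, he.1⟩) (F.chi q) := (h.fix_mod_iff F ⟨e, he.1⟩ hqQ).1 (by
    show e * q * e⁻¹ = q ∨ e * q * e⁻¹ = q * z
    rw [hei, h1]
    rcases h.sq q hqQ with e' | e'
    · exact Or.inr (by rw [inv_eq_of_mul_eq_one_right e'])
    · refine Or.inl ?_
      rw [show q⁻¹ = q * z from inv_eq_of_mul_eq_one_right (by rw [← mul_assoc, e', h.zz]), mul_assoc, h.zz,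
        mul_one])
  rw [h.inverts F he hqQ hf] at h1
  exact h.z_ne (mul_eq_left.1 h1.symm)

/-- The partners of an outer involution. -/
theorem card_partners_out {u : G} (hu : Out z Q u) : Nat.card {d : G // Partner z u d} = 68 := by
  classical
  obtain ⟨F⟩ := h.exists_frame
  obtain ⟨ha, ha1⟩ := h.pi_invol F hu
  set a := F.π ⟨u, hu.1⟩ with hadef
  obtain ⟨i, hi, -⟩ := JTwo.AltFive.invol_fixed _ ha ha1
  rw [card_split _ fun d => d ∈ Q]
  have h1 : Nat.card {d : G // Partner z u d ∧ d ∈ Q} = 8 := by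
    have h3 : Nat.card {d : G // (d ∈ Q ∧ d * d = 1 ∧ d ≠ 1) ∧ u * d = d * u} = 3 := by
      have e : ({z, F.p i, F.p i * z} : Set G).ncard = 3 := by
        have n3 : F.p i * z ≠ F.p i := fun e => h.z_ne (mul_eq_left.1 e)
        rw [Set.ncard_insert_of_notMem, Set.ncard_pair n3.symm]
        simp only [Set.mem_insert_iff, Set.mem_singleton_iff, not_or]
        exact ⟨(F.ne_z i).symm, fun e => F.ne_one i (mul_eq_right.1 e.symm)⟩
      rw [← e, ← Nat.card_coe_set_eq]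
      refine Nat.card_congr (Equiv.subtypeEquivRight fun d => ?_)
      simp only [Set.mem_insert_iff, Set.mem_singleton_iff]
      constructor
      · rintro ⟨⟨hd, -, hd1⟩, hc⟩
        exact ((h.inf_outer F hu hi d).1 ⟨hd, hc.symm⟩).resolve_left hd1
      · intro hd
        obtain ⟨hq, hc⟩ := (h.inf_outer F hu hi d).2 (Or.inr hd)
        refine ⟨⟨hq, ?_⟩, hc.symm⟩
        rcases hd with rfl | rfl | rfl
        · exact ⟨h.zz, h.z_ne⟩
        · exact ⟨F.inv i, F.ne_one i⟩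
        · exact ⟨h.mul_z_inv (F.mem i) (F.inv i), fun e => F.ne_z i (by
            rw [eq_inv_of_mul_eq_one_left e, inv_eq_of_mul_eq_one_right h.zz])⟩
    have hs := card_split (fun d : G => d ∈ Q ∧ d * d = 1 ∧ d ≠ 1) fun d => u * d = d * u
    rw [h.card_invol_Q, h3] at hs
    rw [show 8 = Nat.card {d : G // (d ∈ Q ∧ d * d = 1 ∧ d ≠ 1) ∧ ¬ u * d = d * u} by omega]
    refine Nat.card_congr (Equiv.subtypeEquivRight fun d => ⟨?_, ?_⟩)
    · rintro ⟨⟨hd, hn, -⟩, hq⟩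
      exact ⟨⟨hq, hd⟩, hn⟩
    · rintro ⟨⟨hq, hd⟩, hn⟩
      refine ⟨⟨hd, hn, ?_⟩, hq⟩
      have hz := h.mem_zpowers_of_noncomm hq hd.1 hu.1 hu.2.2 fun e => hn e.symm
      rwa [← zpowers_inv, _root_.mul_inv_rev, inv_eq_of_mul_eq_one_right hu.2.2,
        inv_eq_of_mul_eq_one_right hd.1] at hz
  let Own : G → Prop := fun d => ∃ hd : Out z Q d, F.π ⟨d, hd.1⟩ = a
  let Odd' : G → Prop := fun d => ∃ hd : Out z Q d,
    ((a * F.π ⟨d, hd.1⟩) ^ 3 = 1 ∨ (a * F.π ⟨d, hd.1⟩) ^ 5 = 1) ∧ a * F.π ⟨d, hd.1⟩ ≠ 1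
  have hprod : ∀ {d : G} (hd : Out z Q d),
      a * F.π ⟨d, hd.1⟩ = F.π ⟨u * d, mul_mem hu.1 hd.1⟩ := fun {d} hd => by
    rw [hadef, ← map_mul]; rfl
  have hself : ∀ {d : G}, Own d → (u * d ∈ Q ∧ u * (u * d) * u = (u * d)⁻¹) := by
    rintro d ⟨hd, e⟩
    refine ⟨(F.ker ⟨u * d, mul_mem hu.1 hd.1⟩).1 (by rw [← hprod hd, e, ha]), ?_⟩
    rw [← mul_assoc u u d, hu.2.2, one_mul, _root_.mul_inv_rev, inv_eq_of_mul_eq_one_right hu.2.2,
      inv_eq_of_mul_eq_one_right hd.2.2]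
  have own4 : Nat.card {d : G // Own d ∧ u * d = d * u} = 4 := by
    rw [← h.ncard_four (F.ne_one i) (F.ne_z i), ← Nat.card_coe_set_eq]
    refine Nat.card_congr ((Equiv.mulLeft u).subtypeEquiv fun d => ?_)
    show _ ↔ u * d ∈ ({1, z, F.p i, F.p i * z} : Set G)
    simp only [Set.mem_insert_iff, Set.mem_singleton_iff]
    rw [← h.inf_outer F hu hi]
    constructor
    · rintro ⟨ho, hc⟩
      exact ⟨(hself ho).1, by rw [mul_assoc u d u, ← hc]⟩
    · rintro ⟨hq, hc⟩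
      have hc' : u * d = d * u := by
        rw [mul_assoc u d u] at hc
        exact (mul_left_cancel hc).symm
      have hqq : u * d * (u * d) = 1 := by
        rcases (h.inf_outer F hu hi _).1 ⟨hq, hc⟩ with e | e | e | e <;> rw [e]
        exacts [one_mul 1, h.zz, F.inv i, h.mul_z_inv (F.mem i) (F.inv i)]
      have hdd : d * d = 1 := by
        calc d * d = u * u * (d * d) := by rw [hu.2.2, one_mul]
          _ = u * (u * d) * d := by group
          _ = u * (d * u) * d := by rw [hc']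
          _ = 1 := by rw [← hqq]; group
      have hdC : d ∈ centralizer ({z} : Set G) := by
        have := mul_mem hu.1 (h.le hq)
        rwa [← mul_assoc, hu.2.2, one_mul] at this
      refine ⟨⟨⟨hdC, fun hdQ => hu.2.1 ?_, hdd⟩, ?_⟩, hc'⟩
      · have := mul_mem hq (inv_mem hdQ); rwa [mul_inv_cancel_right] at this
      · have e1 : F.π (⟨u, hu.1⟩ * ⟨d, hdC⟩) = 1 := (F.ker (⟨u, hu.1⟩ * ⟨d, hdC⟩)).2 hq
        rw [map_mul] at e1
        rw [hadef, eq_inv_of_mul_eq_one_right e1, inv_eq_of_mul_eq_one_right ha]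
  have own8 : Nat.card {d : G // Own d} = 8 := h.card_fibre_over F ha ha1
  -- the odd part
  have hdata : ∀ {d : G}, Odd' d → (z ∈ zpowers (u * d) ↔ ¬ (u * d) ^ 15 = 1) ∧ u * d ≠ d * u := by
    rintro d ⟨hd, hg, hg1⟩
    have hx := hprod hd
    have hg2 : a * F.π ⟨d, hd.1⟩ * (a * F.π ⟨d, hd.1⟩) ≠ 1 := (odd_pow_order ⟨_, hg, hg1⟩).1
    rw [hx] at hg hg1 hg2
    have hxC : u * d ∈ centralizer ({z} : Set G) := mul_mem hu.1 hd.1
    have hnc : u * d ≠ d * u := fun e => hg2 (by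
      rw [← map_mul, show (⟨u * d, hxC⟩ : ↥(centralizer ({z} : Set G))) * ⟨u * d, hxC⟩ = 1 from Subtype.ext (by
        show u * d * (u * d) = 1
        nth_rw 1 [e]
        rw [mul_assoc, ← mul_assoc u u, hu.2.2, one_mul, hd.2.2]), map_one])
    refine ⟨⟨fun hz h15 => ?_, fun h15 => ?_⟩, hnc⟩
    · have h2 := orderOf_dvd_of_mem_zpowers hz
      rw [h.inv] at h2
      have := h2.trans (orderOf_dvd_of_pow_eq_one h15)
      norm_num at this
    · obtain ⟨k, hk, hk15, hkπ⟩ : ∃ k, (k = 3 ∨ k = 5) ∧ k ∣ 15 ∧ F.π ⟨u * d, hxC⟩ ^ k = 1 := by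
        rcases hg with e | e
        exacts [⟨3, Or.inl rfl, by norm_num, e⟩, ⟨5, Or.inr rfl, by norm_num, e⟩]
      set q := (u * d) ^ k with hq
      have hqQ : q ∈ Q := (F.ker (⟨u * d, hxC⟩ ^ k)).1 (by rw [map_pow, hkπ])
      rcases h.sq q hqQ with hqq | hqq
      · -- `q` is one or an involution commuting with the product and inverted by `u`
        by_cases hq1 : q = 1
        · obtain ⟨j, hj⟩ := hk15
          rw [hj, pow_mul, ← hq, hq1, one_pow] at h15
          exact absurd rfl h15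
        by_cases hqz : q = z
        · exact hqz ▸ npow_mem_zpowers _ _
        exfalso
        obtain ⟨j, hj⟩ := F.all q hqQ hqq hq1 hqz
        have hcx : (u * d) * q = q * (u * d) := (Commute.self_pow (u * d) k).eq
        have hinv : u * q * u = q⁻¹ := by
          have e : u * (u * d) * u⁻¹ = (u * d)⁻¹ := invol_conj_mul hu.order hd.order
          rw [hq, ← inv_pow, ← e, conj_pow, inv_eq_of_mul_eq_one_right hu.2.2]
        rw [inv_eq_of_mul_eq_one_right hqq] at hinv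
        have hcu : u * q = q * u := by
          nth_rw 2 [← hinv]
          rw [mul_assoc (u * q), hu.2.2, mul_one]
        have hcd : d * q = q * d := by
          calc d * q = u * (u * d * q) := by rw [← mul_assoc u, ← mul_assoc u u, hu.2.2, one_mul]
            _ = u * q * (u * d) := by rw [hcx]; group
            _ = q * d := by rw [hcu, mul_assoc, ← mul_assoc u u, hu.2.2, one_mul]
        have hfix : ∀ {c : G} (hc : c ∈ centralizer ({z} : Set G)), c * q = q * c →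
            JTwo.AltFive.act (F.π ⟨c, hc⟩) j = j := by
          intro c hc e
          refine h.act_of_commute F ?_
          rcases hj with e' | e' <;> rw [e'] at e
          · exact e
          · exact (h.centralizer_mul_z hc).1 e
        have i1 := hfix hu.1 hcu
        have i2 := hfix hd.1 hcd
        obtain ⟨hb, -⟩ := h.pi_invol F hd
        have hsq := (JTwo.AltFive.four_mul _ _ ha hb j i1 i2).2.1
        rw [hx] at hsq
        exact hg2 hsq
      · exact hqq ▸ mem_zpowers_iff.2 ⟨((2 * k : ℕ) : ℤ), by rw [zpow_natCast, mul_comm, pow_mul, pow_two]⟩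
  have odd96 : Nat.card {d : G // Odd' d} = 96 := by
    rw [show (96 : ℕ) = 8 * 12 from rfl, ← odd_partner_count ⟨a, ha, ha1⟩]
    exact h.card_out_over F fun g => ((a * g) ^ 3 = 1 ∨ (a * g) ^ 5 = 1) ∧ a * g ≠ 1
  have odd40 : Nat.card {d : G // Odd' d ∧ (u * d) ^ 15 = 1} = 40 := by
    rw [show (40 : ℕ) = 8 + 32 from rfl, ← h.card_inverted_three hu, ← h.card_inverted_five hu, ← Nat.card_sum]
    have hui : u⁻¹ = u := inv_eq_of_mul_eq_one_right hu.2.2
    have hback : ∀ {p : ℕ}, p = 3 ∨ p = 5 → ∀ y, (y ∈ centralizer ({z} : Set G) ∧ orderOf y = p) ∧ u * y * u = y⁻¹ →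
        Odd' (u * y) ∧ (u * (u * y)) ^ 15 = 1 := by
      rintro p hp y ⟨⟨hyC, hy⟩, hyu⟩
      have hyp : F.π ⟨y, hyC⟩ ^ p = 1 := by
        rw [← map_pow, show (⟨y, hyC⟩ : ↥(centralizer ({z} : Set G))) ^ p = 1 from Subtype.ext (by
          show y ^ p = 1
          rw [← hy, pow_orderOf_eq_one]), map_one]
      have hy1 : F.π ⟨y, hyC⟩ ≠ 1 := fun e => by
        have := orderOf_dvd_natCard Q ((F.ker _).1 e)
        rw [hy, h.card] at this
        rcases hp with rfl | rfl <;> norm_num at this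
      have hd : Out z Q (u * y) := by
        refine ⟨mul_mem hu.1 hyC, fun hq => ?_, by rw [← mul_assoc, hyu, inv_mul_cancel]⟩
        have e : F.π (⟨u, hu.1⟩ * ⟨y, hyC⟩) = 1 := (F.ker (⟨u, hu.1⟩ * ⟨y, hyC⟩)).2 hq
        rw [map_mul] at e
        have e2 : F.π ⟨y, hyC⟩ * F.π ⟨y, hyC⟩ = 1 := by
          rw [eq_inv_of_mul_eq_one_right e, ← _root_.mul_inv_rev, ha, inv_one]
        exact (odd_pow_order ⟨_, by rcases hp with rfl | rfl <;> simp [hyp], hy1⟩).1 e2
      have hux : u * (u * y) = y := by rw [← mul_assoc, hu.2.2, one_mul]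
      have hπ : a * F.π ⟨u * y, hd.1⟩ = F.π ⟨y, hyC⟩ := by
        rw [hprod hd]
        exact congrArg F.π (Subtype.ext hux)
      refine ⟨⟨hd, ?_⟩, ?_⟩
      · rw [hπ]
        exact ⟨by rcases hp with rfl | rfl <;> simp [hyp], hy1⟩
      · rw [hux, ← orderOf_dvd_iff_pow_eq_one, hy]
        rcases hp with rfl | rfl <;> norm_num
    symm
    refine Nat.card_eq_of_bijective (Sum.elim
      (fun y => (⟨u * y.1, hback (Or.inl rfl) y.1 y.2⟩ : {d : G // Odd' d ∧ (u * d) ^ 15 = 1}))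
      fun y => ⟨u * y.1, hback (Or.inr rfl) y.1 y.2⟩) ⟨?_, ?_⟩
    · rintro (y | y) (y' | y') e <;>
        simp only [Sum.elim_inl, Sum.elim_inr, Subtype.mk.injEq, mul_right_inj] at e
      · exact congrArg Sum.inl (Subtype.ext e)
      · exact absurd (congrArg orderOf e) (by rw [y.2.1.2, y'.2.1.2]; norm_num)
      · exact absurd (congrArg orderOf e) (by rw [y.2.1.2, y'.2.1.2]; norm_num)
      · exact congrArg Sum.inr (Subtype.ext e)
    · rintro ⟨d, ⟨hd, hg, hg1⟩, h15⟩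
      have hx := hprod hd
      have hxC : u * d ∈ centralizer ({z} : Set G) := mul_mem hu.1 hd.1
      have hinv : u * (u * d) * u = (u * d)⁻¹ := by
        rw [← mul_assoc u u, hu.2.2, one_mul, _root_.mul_inv_rev, hui, inv_eq_of_mul_eq_one_right hd.2.2]
      have hback' : u * (u * d) = d := by rw [← mul_assoc, hu.2.2, one_mul]
      have hord : orderOf (u * d) ∈ Nat.divisors 15 :=
        Nat.mem_divisors.2 ⟨orderOf_dvd_of_pow_eq_one h15, by norm_num⟩
      have hn15 : orderOf (u * d) ≠ 15 := by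
        intro e15
        obtain ⟨k, hk, hkπ⟩ : ∃ k, (k = 3 ∨ k = 5) ∧ F.π ⟨u * d, hxC⟩ ^ k = 1 := by
          rw [hx] at hg
          rcases hg with e | e
          exacts [⟨3, Or.inl rfl, e⟩, ⟨5, Or.inr rfl, e⟩]
        have hq : (u * d) ^ k ∈ Q := (F.ker (⟨u * d, hxC⟩ ^ k)).1 (by rw [map_pow, hkπ])
        have h1 := orderOf_dvd_natCard Q hq
        have h2 : orderOf ((u * d) ^ k) ∣ 15 := by rw [← e15]; exact orderOf_pow_dvd k
        rw [h.card] at h1
        have h3 := orderOf_eq_one_iff.1 (Nat.eq_one_of_dvd_coprimes (by norm_num : Nat.Coprime 32 15) h1 h2)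
        have h4 := orderOf_dvd_of_pow_eq_one h3
        rw [e15] at h4
        rcases hk with rfl | rfl <;> norm_num at h4
      have hne1 : orderOf (u * d) ≠ 1 := fun e1 => by
        rw [hx] at hg1
        refine hg1 ?_
        rw [show (⟨u * d, hxC⟩ : ↥(centralizer ({z} : Set G))) = 1 from Subtype.ext (orderOf_eq_one_iff.1 e1),
          map_one]
      have : orderOf (u * d) = 3 ∨ orderOf (u * d) = 5 := by
        have key : ∀ m ∈ Nat.divisors 15, m ≠ 15 → m ≠ 1 → m = 3 ∨ m = 5 := by decide +kernel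
        exact key _ hord hn15 hne1
      rcases this with e | e
      · exact ⟨Sum.inl ⟨u * d, ⟨hxC, e⟩, hinv⟩, Subtype.ext hback'⟩
      · exact ⟨Sum.inr ⟨u * d, ⟨hxC, e⟩, hinv⟩, Subtype.ext hback'⟩
  have h2 : Nat.card {d : G // Partner z u d ∧ ¬ d ∈ Q} = 60 := by
    have s1 := card_split Own fun d => u * d = d * u
    have s2 := card_split Odd' fun d => (u * d) ^ 15 = 1
    rw [own8, own4] at s1
    rw [odd96, odd40] at s2
    rw [show 60 = Nat.card {d : G // Own d ∧ ¬ u * d = d * u} + Nat.card {d : G // Odd' d ∧ ¬ (u * d) ^ 15 = 1} by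
      omega, ← Nat.card_sum]
    symm
    have hown : ∀ d, Own d ∧ ¬ u * d = d * u → Partner z u d ∧ ¬ d ∈ Q := by
      rintro d ⟨ho, hn⟩
      obtain ⟨hd, he⟩ := ho
      obtain ⟨hq, -⟩ := hself ⟨hd, he⟩
      refine ⟨⟨h.out_isI hd, hn, ?_⟩, hd.2.1⟩
      rcases h.sq _ hq with e | e
      · refine absurd ?_ hn
        calc u * d = (u * d)⁻¹ := (inv_eq_of_mul_eq_one_right e).symm
          _ = d * u := by
            rw [_root_.mul_inv_rev, inv_eq_of_mul_eq_one_right hu.2.2, inv_eq_of_mul_eq_one_right hd.2.2]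
      · exact e ▸ mul_mem (mem_zpowers _) (mem_zpowers _)
    have hodd : ∀ d, Odd' d ∧ ¬ (u * d) ^ 15 = 1 → Partner z u d ∧ ¬ d ∈ Q := fun d ⟨ho, h15⟩ => by
      obtain ⟨hd, hrest⟩ := ho
      exact ⟨⟨h.out_isI hd, (hdata ⟨hd, hrest⟩).2, (hdata ⟨hd, hrest⟩).1.2 h15⟩, hd.2.1⟩
    refine Nat.card_eq_of_bijective (Sum.elim
      (fun d => (⟨d.1, hown d.1 d.2⟩ : {d : G // Partner z u d ∧ ¬ d ∈ Q})) fun d => ⟨d.1, hodd d.1 d.2⟩) ⟨?_, ?_⟩
    · rintro (⟨d, ⟨hd, he⟩, hn⟩ | ⟨d, ⟨hd, he⟩, hn⟩) (⟨d', ⟨hd', he'⟩, hn'⟩ | ⟨d', ⟨hd', he'⟩, hn'⟩) e <;>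
        simp only [Sum.elim_inl, Sum.elim_inr, Subtype.mk.injEq] at e <;> subst e
      · rfl
      · exact absurd (show a * F.π ⟨d, hd.1⟩ = 1 by rw [he, ha]) he'.2
      · exact absurd (show a * F.π ⟨d, hd.1⟩ = 1 by rw [he', ha]) he.2
      · rfl
    · rintro ⟨d, hp, hq⟩
      have hd : Out z Q d := ⟨h.partner_mem (h.out_isI hu) hu.1 hp, hq, hp.1.1⟩
      rcases invol_pair_cases ⟨a, ha, ha1⟩ ⟨_, h.pi_invol F hd⟩ with e | ⟨e, e1, j, hj1, hj2⟩ | e
      · refine ⟨Sum.inl ⟨d, ⟨hd, ?_⟩, hp.2.1⟩, rfl⟩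
        have e' : a * F.π ⟨d, hd.1⟩ = 1 := e
        rw [eq_inv_of_mul_eq_one_right e', inv_eq_of_mul_eq_one_right ha]
      · exfalso
        rw [hprod hd] at e e1
        set x := u * d with hx
        have hxC : x ∈ centralizer ({z} : Set G) := mul_mem hu.1 hd.1
        have hqQ : x * x ∈ Q := (F.ker (⟨x, hxC⟩ * ⟨x, hxC⟩)).1 (by rw [map_mul, e])
        have hinv : u * x * u = x⁻¹ := by
          rw [hx, ← mul_assoc u u, hu.2.2, one_mul, _root_.mul_inv_rev, inv_eq_of_mul_eq_one_right hu.2.2,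
            inv_eq_of_mul_eq_one_right hd.2.2]
        have hinv' : d * x * d = x⁻¹ := by
          rw [hx, mul_assoc d, mul_assoc u d d, hd.2.2, mul_one, _root_.mul_inv_rev,
            inv_eq_of_mul_eq_one_right hu.2.2, inv_eq_of_mul_eq_one_right hd.2.2]
        have f1 := (h.inverted_iff_fix F hu hqQ).1 (by
          rw [invol_conj_mul_map hu.2.2, hinv, ← _root_.mul_inv_rev])
        have f2 := (h.inverted_iff_fix F hd hqQ).1 (by
          rw [invol_conj_mul_map hd.2.2, hinv', ← _root_.mul_inv_rev])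
        have hb := h.pi_invol F hd
        have hne : a ≠ F.π ⟨d, hd.1⟩ := fun e' => e1 (by rw [← hprod hd, ← e', ha])
        have hv := fix_four_cases j ⟨a, ha, ha1, hj1⟩ ⟨_, hb.1, hb.2, hj2⟩ hne
          ⟨_, h.chi_even F hqQ⟩ f1 f2
        have hzx : z ∈ zpowers x := hp.2.2
        have hxx : x * x * (x * x) = 1 := by
          rcases h.point_cases F j hqQ hv with e' | e' | e' | e' <;> rw [e']
          exacts [one_mul 1, h.zz, F.inv j, h.mul_z_inv (F.mem j) (F.inv j)]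
        have h4 : x ^ 4 = 1 := by simpa only [pow_succ, pow_zero, one_mul, mul_assoc] using hxx
        obtain ⟨k, hk⟩ := (isOfFinOrder_of_finite x).mem_powers_iff_mem_zpowers.2 hzx
        dsimp only at hk
        rw [← pow_mod_orderOf] at hk
        have hlt : k % orderOf x < 4 := lt_of_lt_of_le (Nat.mod_lt _ (orderOf_pos x))
          (Nat.le_of_dvd (by norm_num) (orderOf_dvd_of_pow_eq_one h4))
        have hz3 : F.π ⟨z, h.z_mem_C⟩ = 1 := (F.ker ⟨z, h.z_mem_C⟩).2 h.zmem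
        interval_cases hn : k % orderOf x
        · rw [pow_zero] at hk; exact h.z_ne hk.symm
        · rw [pow_one] at hk
          refine e1 ?_
          rw [← hz3]
          exact congrArg F.π (Subtype.ext hk)
        · rw [pow_two] at hk
          exact h.sq_ne_z F hxC e e1 hk
        · refine e1 ?_
          have e3 : F.π (⟨x, hxC⟩ ^ 3) = 1 := by
            rw [← hz3]
            exact congrArg F.π (Subtype.ext hk)
          rw [map_pow, pow_succ, pow_two, e, one_mul] at e3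
          exact e3
      · refine ⟨Sum.inr ⟨d, ⟨hd, e⟩, ?_⟩, rfl⟩
        exact (hdata ⟨hd, e⟩).1.1 hp.2.2
  rw [h1, h2]

open Classical in
/-- The fibre over a commuting involution. -/
theorem card_fibre {c : G} (hc : IsI c) (hcC : c ∈ centralizer ({z} : Set G)) (hcz : c ≠ z) :
    Nat.card {t : G // IsI t ∧ t * z ≠ z * t ∧ c ∈ zpowers (z * t)} = if c ∈ Q then 104 else 68 := by
  classical
  obtain ⟨g, hg⟩ := h.exists_conj hc
  have hne : g * z * g⁻¹ ≠ z := hg ▸ hcz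
  set w := g⁻¹ * z * g with hw
  have hwI : IsI w := by
    have := isI_conj g⁻¹ h.isI
    rwa [inv_inv] at this
  have hwC : w ∈ centralizer ({z} : Set G) := mem_centralizer_singleton_iff.2 (by
    have e := mem_centralizer_singleton_iff.1 (hg ▸ hcC)
    calc w * z = g⁻¹ * (z * (g * z * g⁻¹)) * g := by rw [hw]; group
      _ = g⁻¹ * (g * z * g⁻¹ * z) * g := by rw [e]
      _ = z * w := by rw [hw]; group)
  have hwz : w ≠ z := fun e => hne (by
    calc g * z * g⁻¹ = g * w * g⁻¹ := by rw [e]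
      _ = z := by rw [hw]; group)
  have ht : (w ∈ Q) ↔ c ∈ Q := hg ▸ h.type_iff hne (hg ▸ hcC)
  have hif : (if c ∈ Q then 104 else 68) = Nat.card {d : G // Partner z w d} := by
    split_ifs with hq
    · exact (h.card_partners_in (ht.2 hq) hwI.1 hwI.2 hwz).symm
    · exact (h.card_partners_out ⟨hwC, fun e => hq (ht.1 e), hwI.1⟩).symm
  rw [hif]
  refine Nat.card_congr ((MulAut.conj g⁻¹).toEquiv.subtypeEquiv fun t => ?_)
  show _ ↔ Partner z w (g⁻¹ * t * g⁻¹⁻¹)
  have e1 : w * (g⁻¹ * t * g⁻¹⁻¹) = g⁻¹ * (z * t) * g⁻¹⁻¹ := by rw [hw]; group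
  have e2 : g⁻¹ * t * g⁻¹⁻¹ * w = g⁻¹ * (t * z) * g⁻¹⁻¹ := by rw [hw]; group
  have e3 : z ∈ zpowers (g⁻¹ * (z * t) * g⁻¹⁻¹) ↔ c ∈ zpowers (z * t) := by
    rw [mem_zpowers_iff, mem_zpowers_iff]
    refine exists_congr fun k => ?_
    rw [conj_zpow, ← hg]
    constructor
    · intro e
      calc (z * t) ^ k = g * (g⁻¹ * (z * t) ^ k * g⁻¹⁻¹) * g⁻¹ := by group
        _ = g * z * g⁻¹ := by rw [e]
    · intro e
      rw [e]; group
  rw [Partner, e1, e2, e3, Ne, Ne, mul_left_inj, mul_right_inj]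
  refine ⟨fun ⟨a, b, cc⟩ => ⟨isI_conj _ a, fun e => b e.symm, cc⟩, fun ⟨a, b, cc⟩ => ⟨?_, fun e => b e.symm, cc⟩⟩
  have := isI_conj g a
  rwa [show g * (g⁻¹ * t * g⁻¹⁻¹) * g⁻¹ = t by group] at this

/-- The number of involutions. -/
theorem card_invol : Nat.card {t : G // IsI t} = 9331 + Nat.card {x : G // IsInv z x} := by
  classical
  haveI : Fintype G := Fintype.ofFinite G
  obtain ⟨x₀, hx₀⟩ := h.exists_out
  rw [card_split _ fun t => t * z = z * t, card_split (fun t => IsI t ∧ ¬ t * z = z * t) fun t => Even (orderOf (z * t))]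
  have hC : Nat.card {t : G // IsI t ∧ t * z = z * t} = 131 := by
    rw [card_split _ fun t => t ∈ Q, show (131 : ℕ) = 11 + 120 from rfl]
    congr 1
    · rw [← h.card_invol_Q]
      exact Nat.card_congr (Equiv.subtypeEquivRight fun t =>
        ⟨fun e => ⟨e.2, e.1.1⟩, fun e => ⟨⟨e.2, h.z_comm e.1⟩, e.1⟩⟩)
    · rw [← h.card_out hx₀]
      exact Nat.card_congr (Equiv.subtypeEquivRight fun t =>
        ⟨fun e => ⟨mem_centralizer_singleton_iff.2 e.1.2, e.2, e.1.1.1⟩,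
          fun e => ⟨⟨h.out_isI e, mem_centralizer_singleton_iff.1 e.1⟩, e.2.1⟩⟩)
  have hE : Nat.card {t : G // (IsI t ∧ ¬ t * z = z * t) ∧ Even (orderOf (z * t))} = 9200 := by
    let L := {c : G // IsI c ∧ c ∈ centralizer ({z} : Set G) ∧ c ≠ z}
    let S := Σ c : L, {t : G // IsI t ∧ t * z ≠ z * t ∧ c.1 ∈ zpowers (z * t)}
    have e : Nat.card {t : G // (IsI t ∧ ¬ t * z = z * t) ∧ Even (orderOf (z * t))} = Nat.card S := by
      refine (Nat.card_eq_of_bijective
        (fun s : S => (⟨s.2.1, ⟨s.2.2.1, s.2.2.2.1⟩, (zpowers_invol s.2.2.2.2 s.1.2.1).1⟩ :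
          {t : G // (IsI t ∧ ¬ t * z = z * t) ∧ Even (orderOf (z * t))})) ⟨?_, ?_⟩).symm
      · rintro ⟨c, t, ht, htz, hj⟩ ⟨c', t', ht', htz', hj'⟩ he
        obtain rfl : t = t' := congrArg Subtype.val he
        obtain rfl : c = c' := Subtype.ext
          ((zpowers_invol hj c.2.1).2.trans (zpowers_invol hj' c'.2.1).2.symm)
        rfl
      · rintro ⟨t, ⟨ht, htz⟩, he⟩
        have hu := exists_invol_half he
        have hm : (z * t) ^ (orderOf (z * t) / 2) ∈ zpowers (z * t) := npow_mem_zpowers _ _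
        obtain ⟨c1, c2⟩ := commute_of_mem_zpowers h.zz ht.1 hm hu.1
        refine ⟨⟨⟨_, hu, mem_centralizer_singleton_iff.2 c1.symm, fun e => htz ?_⟩, ⟨t, ht, htz, hm⟩⟩, rfl⟩
        rw [e] at c2
        exact c2
    rw [e, Nat.card_sigma, Finset.sum_congr rfl fun c _ => h.card_fibre c.2.1 c.2.2.1 c.2.2.2,
      Finset.sum_ite, Finset.sum_const, Finset.sum_const, smul_eq_mul, smul_eq_mul]
    have hQ : ({c : L | c.1 ∈ Q} : Finset L).card = 10 := by
      rw [← Fintype.card_subtype, ← Nat.card_eq_fintype_card]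
      have hs := card_split (fun u : G => u ∈ Q ∧ u * u = 1 ∧ u ≠ 1) fun u => u = z
      rw [h.card_invol_Q, show Nat.card {u : G // (u ∈ Q ∧ u * u = 1 ∧ u ≠ 1) ∧ u = z} = 1 from
        Nat.card_eq_one_iff_unique.2 ⟨⟨fun a b => Subtype.ext (a.2.2.trans b.2.2.symm)⟩,
          ⟨⟨z, ⟨h.zmem, h.zz, h.z_ne⟩, rfl⟩⟩⟩] at hs
      rw [show 10 = Nat.card {u : G // (u ∈ Q ∧ u * u = 1 ∧ u ≠ 1) ∧ ¬ u = z} by omega]
      exact Nat.card_congr
        { toFun := fun c => ⟨c.1.1, ⟨c.2, c.1.2.1⟩, c.1.2.2.2⟩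
          invFun := fun u => ⟨⟨u.1, u.2.1.2, h.le u.2.1.1, u.2.2⟩, u.2.1.1⟩
          left_inv := fun c => rfl
          right_inv := fun u => rfl }
    have hO : ({c : L | ¬ c.1 ∈ Q} : Finset L).card = 120 := by
      rw [← Fintype.card_subtype, ← Nat.card_eq_fintype_card, ← h.card_out hx₀]
      exact Nat.card_congr
        { toFun := fun c => ⟨c.1.1, c.1.2.2.1, c.2, c.1.2.1.1⟩
          invFun := fun u => ⟨⟨u.1, h.out_isI u.2, u.2.1, h.out_ne_z u.2⟩, u.2.2.1⟩
          left_inv := fun c => rfl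
          right_inv := fun u => rfl }
    rw [hQ, hO]
  have hI : Nat.card {t : G // (IsI t ∧ ¬ t * z = z * t) ∧ ¬ Even (orderOf (z * t))} =
      Nat.card {x : G // IsInv z x} := by
    refine Nat.card_congr ((Equiv.mulLeft z).subtypeEquiv fun t => ?_)
    show _ ↔ IsInv z (z * t)
    have hzi : z⁻¹ = z := inv_eq_of_mul_eq_one_right h.zz
    constructor
    · rintro ⟨⟨ht, htz⟩, ho⟩
      refine ⟨fun e => htz ?_, Nat.not_even_iff_odd.1 ho, ?_⟩
      · rw [show t = z by rw [← inv_eq_of_mul_eq_one_right e, hzi]]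
      · rw [_root_.mul_inv_rev, hzi, inv_eq_of_mul_eq_one_right ht.1, ← mul_assoc z z t, h.zz, one_mul]
    · rintro ⟨h1, ho, hi⟩
      rw [_root_.mul_inv_rev, hzi, ← mul_assoc z z t, h.zz, one_mul] at hi
      have ht : t⁻¹ = t := (mul_right_cancel hi).symm
      have htt : t * t = 1 := by nth_rw 1 [← ht]; exact inv_mul_cancel t
      refine ⟨⟨⟨htt, ?_⟩, fun e => h1 ?_⟩, Nat.not_even_iff_odd.2 ho⟩
      · rintro rfl
        rw [mul_one, h.inv] at ho
        exact absurd ho (by decide)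
      · refine eq_one_of_odd_of_mul_self ho ?_
        rw [mul_assoc, ← mul_assoc t, e, mul_assoc z t t, htt, mul_one, h.zz]
  rw [hC, hE, hI]
  omega

end Hyp

end CfsgLib.Invol.JThreeType
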