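import Cfsg.Agent.Lib.Invol.JThreeType.SylowPrime
import Cfsg.Agent.Lib.Invol.JThreeType.ArithFinal

/-!
# The normalizers of the elements of order seventeen and nineteen
-/

set_option autoImplicit false
set_option synthInstance.maxSize 4096

namespace CfsgLib.Invol.JThreeType

open Subgroup
open CfsgLib.Invol.JTwo (PreHyp Frame Out cj mem_normalizer_of_le)

variable {G : Type*} [Group G] [Finite G] {z : G} {Q : Subgroup G}

theorem index_cases_nineteen {c e N : ℕ} (hc : c ∣ 3 ^ 5 * 17) (he : e ∣ 18) (hN : c * e * N = 2643840)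
    (h1 : N % 19 = 1) : e % 2 = 1 ∧ (17 ∣ c ∨ (c = 1 ∧ e = 9) ∨ (3 ∣ c ∧ c * e = 9)) := by
  obtain ⟨a, b, ha, hb, rfl⟩ := Nat.dvd_mul.1 hc
  obtain ⟨i, hi, rfl⟩ := (Nat.dvd_prime_pow Nat.prime_three).1 ha
  have hb' := (Nat.dvd_prime (by norm_num : Nat.Prime 17)).1 hb
  have he' : e ∈ Nat.divisors 18 := Nat.mem_divisors.2 ⟨he, by norm_num⟩
  rw [show Nat.divisors 18 = {1, 2, 3, 6, 9, 18} by decide +kernel] at he'
  simp only [Finset.mem_insert, Finset.mem_singleton] at he'
  interval_cases i <;> rcases hb' with rfl | rfl <;> rcases he' with rfl | rfl | rfl | rfl | rfl | rfl <;>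
    norm_num at hN <;> omega

theorem index_cases_seventeen {c e N : ℕ} (hc : c ∣ 3 ^ 5 * 19) (he : e ∣ 16) (hN : c * e * N = 2954880)
    (h1 : N % 17 = 1) : (c = 1 ∧ e = 8) ∨ e = 16 ∨ (19 ∣ c ∧ c ∣ 171 ∧ 2 ∣ e) := by
  obtain ⟨a, b, ha, hb, rfl⟩ := Nat.dvd_mul.1 hc
  obtain ⟨i, hi, rfl⟩ := (Nat.dvd_prime_pow Nat.prime_three).1 ha
  have hb' := (Nat.dvd_prime (by norm_num : Nat.Prime 19)).1 hb
  obtain ⟨k, hk, rfl⟩ := (Nat.dvd_prime_pow Nat.prime_two).1 (show e ∣ 2 ^ 4 from he)
  interval_cases i <;> rcases hb' with rfl | rfl <;> interval_cases k <;>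
    norm_num at hN <;> first | omega | norm_num

theorem four_exp : ∀ g : alternatingGroup (Fin 5), g ^ 16 = 1 → g ^ 2 = 1 := by decide +kernel

theorem inter_card_gt {W D : Subgroup G} (hle : W ≤ D) {y : G} (hy : y ∈ D) (hyW : y ∉ W) :
    Nat.card W < Nat.card D := by
  by_contra h
  exact hyW ((eq_of_le_of_card_ge hle (not_lt.1 h)).symm ▸ hy)

namespace Hyp

variable (h : Hyp z Q)
include h

theorem invol_card {w : G} (hw : IsI w) : Nat.card (centralizer ({w} : Set G)) = 1920 := by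
  obtain ⟨g, rfl⟩ := h.exists_conj hw
  rw [JTwo.card_centralizer_conj, h.card_C]

theorem cent_odd {p : ℕ} {x : G} (hx : orderOf x = p) (hp : ¬ p ∣ 1920) :
    Odd (Nat.card (centralizer ({x} : Set G))) := by
  rw [← Nat.not_even_iff_odd, even_iff_two_dvd]
  intro h2
  haveI : Fact (Nat.Prime 2) := ⟨Nat.prime_two⟩
  obtain ⟨w, hw⟩ := exists_prime_orderOf_dvd_card' _ h2
  rw [← Subgroup.orderOf_coe] at hw
  refine hp ?_
  rw [← h.invol_card (isI_iff.2 hw), ← hx]
  exact orderOf_dvd_natCard _ (mem_centralizer_singleton_iff.2 (mem_centralizer_singleton_iff.1 w.2).symm)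

theorem cent_no_five {p : ℕ} {x : G} (hx : orderOf x = p) (hp : ¬ p ∣ 30) :
    ¬ 5 ∣ Nat.card (centralizer ({x} : Set G)) := by
  intro h5
  haveI : Fact (Nat.Prime 5) := ⟨Nat.prime_five⟩
  obtain ⟨v, hv⟩ := exists_prime_orderOf_dvd_card' _ h5
  rw [← Subgroup.orderOf_coe] at hv
  obtain ⟨u, b, D⟩ := h.big.five_data hv
  refine hp ?_
  rw [← D.card, ← hx]
  exact orderOf_dvd_natCard _ (mem_centralizer_singleton_iff.2 (mem_centralizer_singleton_iff.1 v.2).symm)

theorem no_sixteen (g : G) : ¬ 16 ∣ orderOf g := by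
  intro hd
  obtain ⟨a, ha⟩ : ∃ a : G, orderOf a = 16 := ⟨g ^ (orderOf g / 16), by
    rw [orderOf_pow_of_dvd (Nat.div_ne_zero_iff.2 ⟨by norm_num, Nat.le_of_dvd (orderOf_pos g) hd⟩)
      (Nat.div_dvd_of_dvd hd), Nat.div_div_self hd (orderOf_pos g).ne']⟩
  have hw : IsI (a ^ 8) := isI_iff.2 (by rw [orderOf_pow, ha]; norm_num)
  obtain ⟨c, hc⟩ := h.exists_conj hw
  set b := c⁻¹ * a * c with hb
  have hbo : orderOf b = 16 := by
    rw [hb, show c⁻¹ * a * c = c⁻¹ * a * c⁻¹⁻¹ by group, ← MulAut.conj_apply, MulEquiv.orderOf_eq, ha]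
  have hb8 : b ^ 8 = z := by
    rw [hb, show c⁻¹ * a * c = c⁻¹ * a * c⁻¹⁻¹ by group, conj_pow, ← hc]; group
  have hbC : b ∈ centralizer ({z} : Set G) :=
    mem_centralizer_singleton_iff.2 (by rw [← hb8]; exact ((Commute.refl b).pow_right 8).eq)
  obtain ⟨φ, -, hφ⟩ := h.quot
  have h2 : φ (⟨b, hbC⟩ ^ 2) = 1 := by
    rw [map_pow]
    refine four_exp _ ?_
    rw [← map_pow, show (⟨b, hbC⟩ : ↥(centralizer ({z} : Set G))) ^ 16 = 1 from
      Subtype.ext (by rw [Subgroup.coe_pow, ← hbo]; exact pow_orderOf_eq_one b), map_one]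
  have hq : b ^ 2 ∈ Q := (hφ _).1 h2
  have h8 : b ^ 8 = 1 := by
    rw [show b ^ 8 = (b ^ 2 * b ^ 2) * (b ^ 2 * b ^ 2) by group]
    rcases h.sq _ hq with e | e <;> rw [e]
    · exact one_mul _
    · exact h.zz
  exact h.z_ne (hb8 ▸ h8)

/-- A Sylow subgroup for the prime three with large centre. -/
theorem exists_large_centre : ∃ S W : Subgroup G, Nat.card S = 243 ∧ W ≤ S ∧
    (∀ a ∈ W, ∀ b ∈ S, a * b = b * a) ∧ 9 ≤ Nat.card W := by
  classical
  obtain ⟨u, r, j, s, m0, a, k, m, hu, hjdef, hK, D, hj, hsj, hn, hsn, hdvd, -, -⟩ := h.big.arith_data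
  obtain ⟨hj8, hs81⟩ := D.final h.big.card_invol_eq hj hsj hn hsn hdvd
  rw [hs81] at hK
  set W := centralizer (centralizer ({u} : Set G) : Set G) ⊓ centralizer ({u} : Set G) with hW
  refine ⟨centralizer ({u} : Set G), W, hK, inf_le_right,
    fun a ha b hb => (mem_centralizer_iff.1 ha.1 b hb).symm, ?_⟩
  have hsub : insert 1 {w : G | IsU z w ∧ w * u = u * w} ⊆ (W : Set G) := by
    rintro w (rfl | ⟨hw, hwu⟩)
    · exact one_mem W
    · refine ⟨mem_centralizer_iff.2 fun b hb => ?_, mem_centralizer_singleton_iff.2 hwu⟩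
      rw [← h.big.u_cent_eq hu hw hwu.symm] at hb
      exact mem_centralizer_singleton_iff.1 hb
  have e := Set.ncard_le_ncard hsub (Set.toFinite _)
  rw [Set.ncard_insert_of_notMem (fun e1 => e1.1.1.1 rfl) (Set.toFinite _), ← Nat.card_coe_set_eq,
    ← Nat.card_coe_set_eq] at e
  have e2 : Nat.card {w : G // IsU z w ∧ w * u = u * w} + 1 ≤ Nat.card W := e
  omega

/-- The index condition. -/
theorem sylow_eq {p m : ℕ} [Fact p.Prime] (P : Sylow p G) {c : ℕ} (hm : 50232960 = p * m)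
    (hc : Nat.card (centralizer ((P : Subgroup G) : Set G)) = p * c) (hP : Nat.card P = p) :
    c * Nat.card (P : Subgroup G).normalizerMonoidHom.range * Nat.card (Sylow p G) = m ∧
      Nat.card (Sylow p G) % p = 1 := by
  obtain ⟨-, -, hN⟩ := norm_data hP
  have e := (normalizer ((P : Subgroup G) : Set G)).card_mul_index
  rw [show (normalizer ((P : Subgroup G) : Set G)).index = Nat.card (Sylow p G) from
    P.card_eq_index_normalizer.symm, h.card_eq, hN, hc, hm] at e
  refine ⟨Nat.eq_of_mul_eq_mul_left (Fact.out : p.Prime).pos (by rw [← e]; ring), ?_⟩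
  have := card_sylow_modEq_one p G
  rwa [Nat.ModEq, Nat.one_mod_eq_one.2 (Fact.out : p.Prime).one_lt.ne'] at this

/-- The part of a centralizer prime to thirty. -/
theorem cent_part {p m : ℕ} [hp : Fact p.Prime] {x : G} (hx : orderOf x = p) (h1920 : ¬ p ∣ 1920) (h30 : ¬ p ∣ 30)
    (hm : 50232960 = 2 ^ 7 * (5 * (p * m))) :
    ∃ c, Nat.card (centralizer ({x} : Set G)) = p * c ∧ c ∣ m := by
  obtain ⟨c, hc⟩ := hx ▸ orderOf_dvd_natCard (centralizer ({x} : Set G)) (mem_centralizer_singleton_iff.2 rfl : x ∈ _)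
  refine ⟨c, hc, Nat.dvd_of_mul_dvd_mul_left hp.out.pos ?_⟩
  rw [← hc]
  refine (Nat.prime_five.coprime_iff_not_dvd.2 (h.cent_no_five hx h30)).symm.dvd_of_dvd_mul_left ?_
  refine ((Nat.coprime_two_right.2 (h.cent_odd hx h1920)).pow_right 7).dvd_of_dvd_mul_left ?_
  rw [← hm, ← h.card_eq]
  exact card_subgroup_dvd_card _

/-- A generator for a Sylow subgroup of order nineteen with the action. -/
theorem nineteen_data {x : G} (hx : orderOf x = 19) : ∃ c e, Nat.card (centralizer ({x} : Set G)) = 19 * c ∧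
    e % 2 = 1 ∧ Nat.card (normalizer (zpowers x : Set G)) = 19 * c * e ∧
    e = Nat.card (zpowers x).normalizerMonoidHom.range ∧
    (17 ∣ c ∨ (c = 1 ∧ e = 9) ∨ (3 ∣ c ∧ c * e = 9)) := by
  haveI : Fact (Nat.Prime 19) := ⟨by norm_num⟩
  have hK : Nat.card (zpowers x) = 19 := by rw [Nat.card_zpowers, hx]
  obtain ⟨c, hc, hcm⟩ := h.cent_part hx (m := 3 ^ 5 * 17) (by norm_num) (by norm_num) (by norm_num)
  obtain ⟨P, hP⟩ := (IsPGroup.of_card (p := 19) (n := 1) (G := zpowers x) (by rw [hK, pow_one])).exists_le_sylow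
  have hPc : Nat.card P = 19 := sylow_card_prime P (m := 2643840) (by rw [h.card_eq]) (by norm_num)
  have eP : zpowers x = P := eq_of_le_of_card_ge hP (by rw [hK]; exact hPc.le)
  obtain ⟨e1, e2⟩ := h.sylow_eq P (m := 2643840) (c := c) (by norm_num)
    (by rw [← eP, centralizer_zpowers_eq, hc]) hPc
  rw [← eP] at e1
  obtain ⟨-, hd, hN⟩ := norm_data hK
  obtain ⟨h1, h2⟩ := index_cases_nineteen hcm hd e1 e2
  exact ⟨c, _, hc, h1, by rw [hN, centralizer_zpowers_eq, hc], rfl, h2⟩

theorem nineteen_not_inverted {x w : G} (hx : orderOf x = 19) (hw : w * w = 1) (hwx : w * x * w = x⁻¹) : False := by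
  haveI : Fact (Nat.Prime 19) := ⟨by norm_num⟩
  obtain ⟨c, e, -, hodd, -, he, -⟩ := h.nineteen_data hx
  have hK : Nat.card (zpowers x) = 19 := by rw [Nat.card_zpowers, hx]
  have hwn : w ∈ normalizer (zpowers x : Set G) := by
    refine mem_normalizer_of_le fun v hv => ?_
    obtain ⟨k, rfl⟩ := mem_zpowers_iff.1 hv
    rw [← conj_zpow, inv_eq_of_mul_eq_one_right hw, hwx]
    exact zpow_mem (inv_mem (mem_zpowers x)) k
  have hd := orderOf_map_dvd (zpowers x).normalizerMonoidHom.rangeRestrict ⟨w, hwn⟩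
  have hd2 : orderOf (⟨w, hwn⟩ : normalizer (zpowers x : Set G)) ∣ 2 :=
    orderOf_dvd_of_pow_eq_one (Subtype.ext (by rw [Subgroup.coe_pow, pow_two]; exact hw))
  have h1 : (zpowers x).normalizerMonoidHom.rangeRestrict ⟨w, hwn⟩ = 1 := orderOf_eq_one_iff.1 (Nat.dvd_one.1 (by
    have := Nat.dvd_gcd (hd.trans hd2)
      (he ▸ orderOf_dvd_natCard ((zpowers x).normalizerMonoidHom.rangeRestrict ⟨w, hwn⟩))
    rwa [show Nat.gcd 2 e = 1 from Nat.coprime_two_left.2 (Nat.odd_iff.2 hodd)] at this))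
  have h2 : (⟨w, hwn⟩ : normalizer (zpowers x : Set G)) ∈ (zpowers x).normalizerMonoidHom.ker :=
    MonoidHom.mem_ker.2 (congrArg Subtype.val h1)
  rw [normalizerMonoidHom_ker, mem_subgroupOf, centralizer_zpowers_eq, mem_centralizer_singleton_iff] at h2
  have h3 : x⁻¹ = x := by
    rw [← hwx]
    calc w * x * w = x * w * w := by rw [h2]
      _ = x := by rw [mul_assoc, hw, mul_one]
  have h4 : x * x = 1 := by nth_rw 1 [← h3]; exact inv_mul_cancel x
  have h5 := orderOf_dvd_of_pow_eq_one (show x ^ 2 = 1 by rw [pow_two, h4])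
  rw [hx] at h5
  norm_num at h5

/-- The normalizer of a group of order seventeen. -/
theorem seventeen_data {x : G} (hx : orderOf x = 17) :
    Nat.card (centralizer ({x} : Set G)) = 17 ∧ Nat.card (zpowers x).normalizerMonoidHom.range = 8 := by
  haveI : Fact (Nat.Prime 17) := ⟨by norm_num⟩
  have hK : Nat.card (zpowers x) = 17 := by rw [Nat.card_zpowers, hx]
  obtain ⟨c, hc, hcm⟩ := h.cent_part hx (m := 3 ^ 5 * 19) (by norm_num) (by norm_num) (by norm_num)
  obtain ⟨P, hP⟩ := (IsPGroup.of_card (p := 17) (n := 1) (G := zpowers x) (by rw [hK, pow_one])).exists_le_sylow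
  have hPc : Nat.card P = 17 := sylow_card_prime P (m := 2954880) (by rw [h.card_eq]) (by norm_num)
  have eP : zpowers x = P := eq_of_le_of_card_ge hP (by rw [hK]; exact hPc.le)
  obtain ⟨e1, e2⟩ := h.sylow_eq P (m := 2954880) (c := c) (by norm_num)
    (by rw [← eP, centralizer_zpowers_eq, hc]) hPc
  rw [← eP] at e1
  obtain ⟨-, hd, -⟩ := norm_data hK
  rcases index_cases_seventeen hcm hd e1 e2 with ⟨rfl, h8⟩ | h16 | ⟨h19, h171, he⟩
  · exact ⟨by rw [hc], h8⟩
  · obtain ⟨g, hg⟩ := exists_orderOf_dvd hK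
    exact absurd (h16 ▸ hg) (h.no_sixteen g)
  · exfalso
    haveI : Fact (Nat.Prime 19) := ⟨by norm_num⟩
    obtain ⟨w, hww, hwx⟩ := exists_inverting hx (by norm_num) he (h.cent_odd hx (by norm_num))
    obtain ⟨v, hv⟩ := exists_prime_orderOf_dvd_card' (G := centralizer ({x} : Set G)) 19
      (by rw [hc]; exact h19.mul_left 17)
    rw [← Subgroup.orderOf_coe] at hv
    have hvx := mem_centralizer_singleton_iff.1 v.2
    have hcard : Nat.card (centralizer ({x} : Set G)) ∣ 19 * 153 := by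
      rw [hc]; exact (mul_dvd_mul_left 17 h171).trans (by norm_num)
    have hun := unique_in (p := 19) hcard (by norm_num) v.2 hv
      (mem_centralizer_singleton_iff.2 (rfl : x * x = x * x)) hvx.symm (by rw [hx]; norm_num) (fun n hn h1 => by
        rw [hx, show (153 : ℕ) = 17 * 9 from rfl] at hn
        have := Nat.le_of_dvd (by norm_num) (Nat.dvd_of_mul_dvd_mul_left (by norm_num) hn)
        omega)
    set y : G := w * v * w with hy
    have hwi : w⁻¹ = w := inv_eq_of_mul_eq_one_right hww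
    have hyc : y = w * v * w⁻¹ := by rw [hy, hwi]
    have hyx : y ∈ centralizer ({x} : Set G) := cent_norm hww hwx v.2
    obtain ⟨i, hi⟩ := mem_zpowers_iff.1 (hun y hyx (by
      rw [hyc, ← MulAut.conj_apply, MulEquiv.orderOf_eq, hv]))
    have hvv : w * y * w = v := by
      rw [hy, ← mul_assoc, ← mul_assoc, hww, one_mul, mul_assoc, hww, mul_one]
    have hii : (v : G) ^ (i * i - 1) = 1 := by
      rw [zpow_sub, zpow_one, zpow_mul, hi, hyc, conj_zpow, hi, hwi, hvv, mul_inv_cancel]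
    rw [← orderOf_dvd_iff_zpow_eq_one, hv, show i * i - 1 = (i - 1) * (i + 1) by ring] at hii
    rcases (Nat.prime_iff_prime_int.1 (by norm_num : Nat.Prime 19)).dvd_or_dvd hii with hd' | hd' <;>
      rw [← hv, orderOf_dvd_iff_zpow_eq_one] at hd'
    · rw [zpow_sub, zpow_one, mul_inv_eq_one, hi] at hd'
      have hw : IsI w := ⟨hww, fun e => by
        rw [e, one_mul, mul_one] at hwx
        have h5 := orderOf_dvd_of_pow_eq_one (show x ^ 2 = 1 by
          rw [pow_two]; nth_rw 1 [hwx]; exact inv_mul_cancel x)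
        rw [hx] at h5
        norm_num at h5⟩
      have hd19 : orderOf (v : G) ∣ Nat.card (centralizer ({w} : Set G)) := by
        refine orderOf_dvd_natCard _ (mem_centralizer_singleton_iff.2 ?_)
        calc (v : G) * w = y * w := by rw [hd']
          _ = w * v := by rw [hy, mul_assoc, hww, mul_one]
      rw [hv, h.invol_card hw] at hd19
      norm_num at hd19
    · rw [zpow_add, zpow_one, hi] at hd'
      exact h.nineteen_not_inverted hv hww (eq_inv_of_mul_eq_one_left hd')

/-- No element of order three commutes with one of order nineteen. -/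
theorem no_three_nineteen {x y : G} (hx : orderOf x = 19) (hy : orderOf y = 3) (hyx : y * x = x * y)
    (hN : Nat.card (normalizer (zpowers x : Set G)) = 171) : False := by
  haveI : Fact (Nat.Prime 3) := ⟨Nat.prime_three⟩
  haveI : Fact (Nat.Prime 19) := ⟨by norm_num⟩
  have hxK : x ∈ centralizer ({y} : Set G) := mem_centralizer_singleton_iff.2 hyx.symm
  have hyy : y ∈ centralizer ({y} : Set G) := mem_centralizer_singleton_iff.2 rfl
  have hodd : Odd (Nat.card (centralizer ({y} : Set G))) := by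
    rw [← Nat.not_even_iff_odd, even_iff_two_dvd]
    intro h2
    haveI : Fact (Nat.Prime 2) := ⟨Nat.prime_two⟩
    obtain ⟨w, hw⟩ := exists_prime_orderOf_dvd_card' _ h2
    rw [← Subgroup.orderOf_coe] at hw
    obtain ⟨g, hg⟩ := h.exists_conj (isI_iff.2 hw)
    have hyC : g⁻¹ * y * g ∈ centralizer ({z} : Set G) := by
      refine JTwo.mem_centralizer_conj.1 ?_
      rw [hg]
      exact mem_centralizer_singleton_iff.2 (mem_centralizer_singleton_iff.1 w.2).symm
    have e := h.big.big _ hyC (by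
      rw [show g⁻¹ * y * g = g⁻¹ * y * g⁻¹⁻¹ by group, ← MulAut.conj_apply, MulEquiv.orderOf_eq, hy])
    rw [show g⁻¹ * y * g = g⁻¹ * y * g⁻¹⁻¹ by group, JTwo.card_centralizer_conj] at e
    have := orderOf_dvd_natCard _ hxK
    rw [hx, e] at this
    norm_num at this
  have h5 : ¬ 5 ∣ Nat.card (centralizer ({y} : Set G)) := fun h5 => by
    haveI : Fact (Nat.Prime 5) := ⟨Nat.prime_five⟩
    obtain ⟨v, hv⟩ := exists_prime_orderOf_dvd_card' _ h5
    rw [← Subgroup.orderOf_coe] at hv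
    obtain ⟨u, b, D⟩ := h.big.five_data hv
    have hb : YClass y := by
      rcases three_in_five hv D hy (mem_centralizer_singleton_iff.1 v.2).symm with rfl | rfl
      · exact D.yclass
      · exact yclass_inv D.yclass
    obtain ⟨-, u', hu', hu'y⟩ := hb
    have := h.cent_odd hx (p := 19) (by norm_num)
    have := orderOf_dvd_natCard _ hu'y
    rw [isI_iff.1 hu'] at this
    exact absurd (hodd.of_dvd_nat this) (by decide)
  have h17 : ¬ 17 ∣ Nat.card (centralizer ({y} : Set G)) := fun h17 => by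
    haveI : Fact (Nat.Prime 17) := ⟨by norm_num⟩
    obtain ⟨v, hv⟩ := exists_prime_orderOf_dvd_card' _ h17
    rw [← Subgroup.orderOf_coe] at hv
    have := orderOf_dvd_natCard (centralizer ({(v : G)} : Set G)) (x := y)
      (mem_centralizer_singleton_iff.2 (mem_centralizer_singleton_iff.1 v.2).symm)
    rw [(h.seventeen_data hv).1, hy] at this
    norm_num at this
  have hKd : Nat.card (centralizer ({y} : Set G)) ∣ 19 * 243 := by
    refine ((Nat.Prime.coprime_iff_not_dvd (by norm_num : Nat.Prime 17)).2 h17).symm.dvd_of_dvd_mul_left ?_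
    refine (Nat.prime_five.coprime_iff_not_dvd.2 h5).symm.dvd_of_dvd_mul_left ?_
    refine ((Nat.coprime_two_right.2 hodd).pow_right 7).dvd_of_dvd_mul_left ?_
    rw [show 2 ^ 7 * (5 * (17 * (19 * 243))) = 50232960 by norm_num, ← h.card_eq]
    exact card_subgroup_dvd_card _
  have hun := unique_in (p := 19) hKd (by norm_num) hxK hx hyy hyx (by rw [hy]; norm_num) (fun n hn h1 => by
    rw [hy, show (243 : ℕ) = 3 * 3 ^ 4 from rfl] at hn
    obtain ⟨i, hi, rfl⟩ := (Nat.dvd_prime_pow Nat.prime_three).1 (Nat.dvd_of_mul_dvd_mul_left (by norm_num) hn)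
    interval_cases i <;> omega)
  have h171 : Nat.card (centralizer ({y} : Set G)) ∣ 171 := by
    rw [← hN]
    refine card_dvd_of_le fun g hg => mem_normalizer_of_le fun v hv => ?_
    obtain ⟨k, rfl⟩ := mem_zpowers_iff.1 hv
    rw [← conj_zpow]
    refine zpow_mem (hun _ (mul_mem (mul_mem hg hxK) (inv_mem hg)) ?_) k
    rw [← MulAut.conj_apply, MulEquiv.orderOf_eq, hx]
  obtain ⟨S, W, hS, hWS, hWc, hW⟩ := h.exists_large_centre
  obtain ⟨P, hP⟩ := (IsPGroup.of_card (p := 3) (n := 1) (G := zpowers y)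
    (by rw [Nat.card_zpowers, hy, pow_one])).exists_le_sylow
  have hP243 : Nat.card P = 243 := by
    rw [P.card_eq_multiplicity, h.card_eq, show 50232960 = 3 ^ 5 * 206720 by norm_num,
      Nat.factorization_mul (by norm_num) (by norm_num), Finsupp.add_apply,
      Nat.Prime.factorization_pow Nat.prime_three, Nat.factorization_eq_zero_of_not_dvd (by norm_num :
        ¬ 3 ∣ 206720)]
    simp
  obtain ⟨T, hT⟩ := (IsPGroup.of_card (p := 3) (n := 5) (G := S) (by rw [hS]; norm_num)).exists_le_sylow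
  have eT : S = T := eq_of_le_of_card_ge hT (by
    rw [hS, show Nat.card T = Nat.card P from Nat.card_congr (Sylow.equiv T P).toEquiv, hP243])
  obtain ⟨g, hg⟩ := MulAction.exists_smul_eq G P T
  have hmem : g * y * g⁻¹ ∈ S := by
    rw [eT, ← hg, Sylow.coe_subgroup_smul, Subgroup.mem_pointwise_smul_iff_inv_smul_mem]
    have := hP (mem_zpowers y)
    simpa [mul_assoc] using this
  set K := centralizer ({g * y * g⁻¹} : Set G) ⊓ S with hKdef
  have hK1 : Nat.card K ∣ 171 := by
    refine (card_dvd_of_le inf_le_left).trans ?_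
    rw [JTwo.card_centralizer_conj]
    exact h171
  have hK2 : Nat.card K ∣ 243 := hS ▸ card_dvd_of_le inf_le_right
  have hK9 : Nat.card K ∣ 9 := (show Nat.gcd 171 243 = 9 by norm_num) ▸ Nat.dvd_gcd hK1 hK2
  have hle : W ≤ K := fun a ha => ⟨mem_centralizer_singleton_iff.2 (hWc a ha _ hmem), hWS ha⟩
  by_cases hyW : g * y * g⁻¹ ∈ W
  · have hSK : S ≤ K := fun a ha => ⟨mem_centralizer_singleton_iff.2 (hWc _ hyW a ha).symm, ha⟩
    have := (card_dvd_of_le hSK).trans hK9
    rw [hS] at this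
    norm_num at this
  · have := inter_card_gt hle (⟨mem_centralizer_singleton_iff.2 rfl, hmem⟩ : g * y * g⁻¹ ∈ K) hyW
    have := Nat.le_of_dvd (by norm_num) hK9
    omega

/-- The normalizer of a group of order nineteen. -/
theorem nineteen_normalizer {x : G} (hx : orderOf x = 19) :
    Nat.card (centralizer ({x} : Set G)) = 19 ∧ Nat.card (zpowers x).normalizerMonoidHom.range = 9 := by
  obtain ⟨c, e, hc, -, hN, he, hcases⟩ := h.nineteen_data hx
  rcases hcases with h17 | ⟨rfl, h9⟩ | ⟨h3, h9⟩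
  · exfalso
    haveI : Fact (Nat.Prime 17) := ⟨by norm_num⟩
    obtain ⟨v, hv⟩ := exists_prime_orderOf_dvd_card' (G := centralizer ({x} : Set G)) 17
      (by rw [hc]; exact h17.mul_left 19)
    rw [← Subgroup.orderOf_coe] at hv
    have := orderOf_dvd_natCard (centralizer ({(v : G)} : Set G)) (x := x)
      (mem_centralizer_singleton_iff.2 (mem_centralizer_singleton_iff.1 v.2).symm)
    rw [(h.seventeen_data hv).1, hx] at this
    norm_num at this
  · exact ⟨by rw [hc], he ▸ h9⟩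
  · exfalso
    haveI : Fact (Nat.Prime 3) := ⟨Nat.prime_three⟩
    obtain ⟨v, hv⟩ := exists_prime_orderOf_dvd_card' (G := centralizer ({x} : Set G)) 3
      (by rw [hc]; exact h3.mul_left 19)
    rw [← Subgroup.orderOf_coe] at hv
    exact h.no_three_nineteen hx hv (mem_centralizer_singleton_iff.1 v.2) (by rw [hN, mul_assoc, h9]; norm_num)

end Hyp

end CfsgLib.Invol.JThreeType
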