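import Cfsg.Agent.Lib.Invol.JThreeType.Inverters
import Cfsg.Agent.Lib.Invol.JThreeType.CoreBase

/-!
# The case of small centralizers of elements of order three
-/

set_option autoImplicit false
set_option synthInstance.maxSize 4096

namespace CfsgLib.Invol.JThreeType

open Subgroup
open CfsgLib.Invol.JTwo (PreHyp Frame Out cj mem_cj card_orbit_mul centralizer_of_zpowers_eq mem_normalizer_of_le)

local notation "A" => alternatingGroup (Fin 5)

variable {G : Type*} [Group G] [Finite G]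

/-- A group of order nine is abelian. -/
theorem nine_comm (E : Subgroup G) (hE : Nat.card E = 9) : ∀ a ∈ E, ∀ b ∈ E, a * b = b * a := by
  haveI : Fact (Nat.Prime 3) := ⟨Nat.prime_three⟩
  exact fun a ha b hb => congrArg Subtype.val
    ((IsPGroup.isMulCommutative_of_card_eq_prime_sq (p := 3) (G := E) hE).is_comm.comm ⟨a, ha⟩ ⟨b, hb⟩)

/-- Two subgroups of order nine of a group without twenty-seven in its order are conjugate. -/
theorem nine_conj (K : Subgroup G) (h27 : ¬ 27 ∣ Nat.card K) (E E' : Subgroup G) (hE : Nat.card E = 9)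
    (hE' : Nat.card E' = 9) (hEK : E ≤ K) (hE'K : E' ≤ K) :
    ∃ c ∈ K, ∀ a, a ∈ E' ↔ c * a * c⁻¹ ∈ E := by
  haveI : Fact (Nat.Prime 3) := ⟨Nat.prime_three⟩
  have hS : ∀ D : Subgroup G, Nat.card D = 9 → D ≤ K → ∃ S : Sylow 3 K, (S : Subgroup K) = D.subgroupOf K := by
    intro D hD hDK
    have hcard : Nat.card (D.subgroupOf K) = 3 ^ 2 := by
      rw [Nat.card_congr (subgroupOfEquivOfLe hDK).toEquiv, hD]; norm_num
    obtain ⟨S, hS⟩ := (IsPGroup.of_card (p := 3) hcard).exists_le_sylow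
    refine ⟨S, (eq_of_le_of_card_ge hS ?_).symm⟩
    obtain ⟨k, hk⟩ := IsPGroup.iff_card.1 S.isPGroup'
    have hd := card_subgroup_dvd_card (S : Subgroup K)
    rw [hk] at hd
    rw [hk, hcard]
    exact Nat.pow_le_pow_right (by norm_num) (by
      by_contra hk1
      exact h27 ((pow_dvd_pow 3 (show 3 ≤ k by omega)).trans hd))
  obtain ⟨S, hS1⟩ := hS E hE hEK
  obtain ⟨S', hS'⟩ := hS E' hE' hE'K
  obtain ⟨c, hc⟩ := MulAction.exists_smul_eq K S' S
  refine ⟨c, c.2, fun a => ?_⟩
  have key : ∀ b : K, b ∈ (S' : Subgroup K) ↔ c * b * c⁻¹ ∈ (S : Subgroup K) := fun b => by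
    rw [← hc, Sylow.coe_subgroup_smul, Subgroup.mem_pointwise_smul_iff_inv_smul_mem]
    simp [mul_assoc]
  rw [hS1, hS'] at key
  constructor
  · intro ha
    exact mem_subgroupOf.1 ((key ⟨a, hE'K ha⟩).1 (mem_subgroupOf.2 ha))
  · intro ha
    have haK : a ∈ K := by
      have := mul_mem (mul_mem (inv_mem c.2) (hEK ha)) c.2
      rwa [show (c : G)⁻¹ * ((c : G) * a * (c : G)⁻¹) * c = a by group] at this
    exact mem_subgroupOf.1 ((key ⟨a, haK⟩).2 (mem_subgroupOf.2 ha))

variable {z : G} {Q : Subgroup G}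

/-- The hypothesis with small centralizers of elements of order three. -/
structure Small {G : Type*} [Group G] (z : G) (Q : Subgroup G) : Prop extends Hyp z Q where
  small : ∀ y, y ∈ centralizer ({z} : Set G) → orderOf y = 3 → Nat.card (centralizer ({y} : Set G)) = 504

namespace Small

variable (h : Small z Q)
include h

section three

variable {y : G} (hyC : y ∈ centralizer ({z} : Set G)) (hy : orderOf y = 3)
include hyC hy

theorem X_small :
    Nat.card {x : G // x ∈ centralizer ({y} : Set G) ∧ IsInv z x} = 8 ∧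
      ∀ x, x ∈ centralizer ({y} : Set G) → IsInv z x → x ^ 3 = 1 ∧
        Nat.card (centralizer ({x} : Set G) ⊓ centralizer ({y} : Set G) : Subgroup G) = 9 := by
  rcases h.X_cases hyC hy with ⟨-, e⟩ | ⟨e, -⟩
  · exact e
  · rw [h.small y hyC hy] at e
    norm_num at e

theorem orbit_inv {e : G} (hey : e ∈ centralizer ({y} : Set G)) (hei : IsInv z e) {x : G}
    (hxy : x ∈ centralizer ({y} : Set G)) (hxi : IsInv z x) :
    ∃ d ∈ Q, d * y = y * d ∧ d * e * d⁻¹ = x := by
  classical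
  obtain ⟨h8, h9⟩ := h.X_small hyC hy
  let f : {d : G // d ∈ Q ∧ d * y = y * d} → {a : G // a ∈ centralizer ({y} : Set G) ∧ IsInv z a} := fun d =>
    ⟨d.1 * e * (d.1)⁻¹, mul_mem (mul_mem (mem_centralizer_singleton_iff.2 d.2.2) hey)
      (inv_mem (mem_centralizer_singleton_iff.2 d.2.2)), isInv_conj h.zz (h.le d.2.1) hei⟩
  have hf : Function.Injective f := by
    intro a b e'
    replace e' : a.1 * e * (a.1)⁻¹ = b.1 * e * (b.1)⁻¹ := congrArg Subtype.val e'
    set c := (b.1)⁻¹ * a.1 with hc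
    have hce : c * e = e * c := by
      refine mul_inv_eq_iff_eq_mul.1 ?_
      calc c * e * c⁻¹ = (b.1)⁻¹ * (a.1 * e * (a.1)⁻¹) * b.1 := by rw [hc]; group
        _ = e := by rw [e']; group
    have hcy : c * y = y * c :=
      ((show Commute b.1 y from b.2.2).inv_left.mul_left (show Commute a.1 y from a.2.2)).eq
    have hd := orderOf_dvd_natCard (centralizer ({e} : Set G) ⊓ centralizer ({y} : Set G) : Subgroup G)
      (x := c) ⟨mem_centralizer_singleton_iff.2 hce, mem_centralizer_singleton_iff.2 hcy⟩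
    have hdQ := orderOf_dvd_natCard Q (mul_mem (inv_mem b.2.1) a.2.1)
    rw [(h9 e hey hei).2] at hd
    rw [h.card, ← hc] at hdQ
    have hc1 : c = 1 := orderOf_eq_one_iff.1
      (Nat.eq_one_of_dvd_coprimes (by norm_num : Nat.Coprime 9 32) hd hdQ)
    exact Subtype.ext (inv_mul_eq_one.1 hc1).symm
  obtain ⟨d, hd⟩ := ((Nat.bijective_iff_injective_and_card f).2 ⟨hf, by rw [h8, h.card_fixed_part hyC hy]⟩).2
    ⟨x, hxy, hxi⟩
  exact ⟨d.1, d.2.1, d.2.2, congrArg Subtype.val hd⟩

/-- An inverter centralising an inverted element. -/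
theorem exists_fix_pair : ∃ t, Out z Q t ∧ t * y * t = y⁻¹ ∧
    ∃ e, e ∈ centralizer ({y} : Set G) ∧ IsInv z e ∧ t * e = e * t := by
  classical
  obtain ⟨F⟩ := h.exists_frame
  obtain ⟨t, ht, hty⟩ := h.exists_inverter (Or.inl rfl) hyC hy
  obtain ⟨h8, h9⟩ := h.X_small hyC hy
  obtain ⟨⟨e, hey, hei⟩⟩ := (Nat.card_pos_iff.1 (by rw [h8]; norm_num :
    0 < Nat.card {x : G // x ∈ centralizer ({y} : Set G) ∧ IsInv z x})).1
  have hti : t⁻¹ = t := inv_eq_of_mul_eq_one_right ht.2.2
  have hys : t * y⁻¹ * t = y := by rw [← hty, invol_conj_twice ht.2.2]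
  have hm : t * e * t ∈ centralizer ({y} : Set G) := mem_centralizer_singleton_iff.2 (by
    rw [← hys, ← invol_conj_mul_map ht.2.2, ← invol_conj_mul_map ht.2.2,
      ((show Commute e y from mem_centralizer_singleton_iff.1 hey).inv_right).eq])
  have hmi : IsInv z (t * e * t) := by
    have := isInv_conj h.zz ht.1 hei
    rwa [hti] at this
  obtain ⟨d, hdQ, hdy, hde⟩ := h.orbit_inv hyC hy hey hei hm hmi
  have hdC : d ∈ centralizer ({z} : Set G) := h.le hdQ
  set t1 := d⁻¹ * t with ht1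
  have hC1 : t1 ∈ centralizer ({z} : Set G) := mul_mem (inv_mem hdC) ht.1
  have h1Q : t1 ∉ Q := fun hq => ht.2.1 (by
    have := mul_mem hdQ hq
    rwa [ht1, mul_inv_cancel_left] at this)
  have he1 : t1 * e * t1⁻¹ = e := by
    rw [ht1, _root_.mul_inv_rev, inv_inv, hti,
      show d⁻¹ * t * e * (t * d) = d⁻¹ * (t * e * t) * d by group, ← hde]
    group
  have hy1 : t1 * y * t1⁻¹ = y⁻¹ := by
    rw [ht1, _root_.mul_inv_rev, inv_inv, hti,
      show d⁻¹ * t * y * (t * d) = d⁻¹ * (t * y * t) * d by group, hty, mul_assoc,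
      ← ((show Commute d y from hdy).inv_right).eq, inv_mul_cancel_left]
  have hsq : t1 * t1 = 1 := by
    have hπ : F.π ⟨t1, hC1⟩ = F.π ⟨t, ht.1⟩ := by
      rw [show (⟨t1, hC1⟩ : ↥(centralizer ({z} : Set G))) = ⟨d⁻¹, inv_mem hdC⟩ * ⟨t, ht.1⟩ from rfl, map_mul,
        (F.ker _).2 (inv_mem hdQ), one_mul]
    have hπ2 := h.pi_invol F ht
    rw [← hπ] at hπ2
    have hq2 : t1 * t1 ∈ Q := (F.ker (⟨t1, hC1⟩ * ⟨t1, hC1⟩)).1 (by rw [map_mul]; exact hπ2.1)
    have hd := orderOf_dvd_natCard (centralizer ({e} : Set G) ⊓ centralizer ({y} : Set G) : Subgroup G)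
      (x := t1 * t1) ⟨mem_centralizer_singleton_iff.2 (mul_inv_eq_iff_eq_mul.1 (by
          rw [show t1 * t1 * e * (t1 * t1)⁻¹ = t1 * (t1 * e * t1⁻¹) * t1⁻¹ by group, he1, he1])),
        mem_centralizer_singleton_iff.2 (mul_inv_eq_iff_eq_mul.1 (by
          rw [show t1 * t1 * y * (t1 * t1)⁻¹ = t1 * (t1 * y * t1⁻¹) * t1⁻¹ by group, hy1,
            show t1 * y⁻¹ * t1⁻¹ = (t1 * y * t1⁻¹)⁻¹ by group, hy1, inv_inv]))⟩
    have hdQ' := orderOf_dvd_natCard Q hq2
    rw [(h9 e hey hei).2] at hd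
    rw [h.card] at hdQ'
    exact orderOf_eq_one_iff.1 (Nat.eq_one_of_dvd_coprimes (by norm_num : Nat.Coprime 9 32) hd hdQ')
  rw [inv_eq_of_mul_eq_one_right hsq] at hy1
  exact ⟨t1, ⟨hC1, h1Q, hsq⟩, hy1, e, hey, hei, mul_inv_eq_iff_eq_mul.1 he1⟩

/-- The inverted elements of the centralizer of `y` are in the class. -/
theorem inv_yclass {x : G} (hxy : x ∈ centralizer ({y} : Set G)) (hxi : IsInv z x) : YClass x := by
  haveI : Fact (Nat.Prime 3) := ⟨Nat.prime_three⟩
  obtain ⟨t, ht, -, e, hey, hei, hte⟩ := h.exists_fix_pair hyC hy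
  have heY : YClass e := ⟨orderOf_eq_prime ((h.X_small hyC hy).2 e hey hei).1 hei.1, t, h.out_isI ht,
    mem_centralizer_singleton_iff.2 hte⟩
  obtain ⟨d, -, -, rfl⟩ := h.orbit_inv hyC hy hey hei hxy hxi
  exact yclass_conj d heY

/-- The centralizer of `y` and an inverter meet in a group of order six. -/
theorem card_K {t : G} (ht : Out z Q t) (hty : t * y * t = y⁻¹) :
    Nat.card (centralizer ({y} : Set G) ⊓ centralizer ({t} : Set G) : Subgroup G) = 6 := by
  classical
  haveI : Fact (Nat.Prime 3) := ⟨Nat.prime_three⟩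
  obtain ⟨t0, ht0, hty0, e0, he0y, he0i, hte0⟩ := h.exists_fix_pair hyC hy
  obtain ⟨s, hs, hsC, hst⟩ := h.inverters_orbit hyC hy ht0 hty0 ht hty
  set e := s * e0 * s⁻¹ with he
  have hey : e ∈ centralizer ({y} : Set G) := mul_mem (mul_mem hs he0y) (inv_mem hs)
  have hei : IsInv z e := isInv_conj h.zz hsC he0i
  have hte : t * e = e * t := by
    rw [← hst, he, show s * t0 * s⁻¹ * (s * e0 * s⁻¹) = s * (t0 * e0) * s⁻¹ by group, hte0]; group
  have heo : orderOf e = 3 := orderOf_eq_prime ((h.X_small hyC hy).2 e hey hei).1 hei.1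
  set K := centralizer ({y} : Set G) ⊓ centralizer ({t} : Set G) with hK
  have htz : t * z = z * t := mem_centralizer_singleton_iff.1 ht.1
  have hzK : z ∈ K := ⟨h.z_mem_X hyC hy, mem_centralizer_singleton_iff.2 htz.symm⟩
  have heK : e ∈ K := ⟨hey, mem_centralizer_singleton_iff.2 hte.symm⟩
  have hKz : ∀ k ∈ K, k ∈ centralizer ({z} : Set G) → k = 1 ∨ k = z := fun k hk hkz =>
    h.out_fixed_X hyC hy ht hty hk.1 hkz (mem_centralizer_singleton_iff.1 hk.2).symm
  obtain ⟨a, ha⟩ := h.exists_conj (h.out_isI ht)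
  have h' : Hyp t (cj a Q) := ha ▸ h.toHyp.conj a
  obtain ⟨F⟩ := h'.exists_frame
  have hzQ : z ∉ cj a Q := fun hq => by
    have hzeQ := h'.nrm e (mem_centralizer_singleton_iff.2 hte.symm) z hq
    have hm := mul_mem hq hzeQ
    rw [show z * (e * z * e⁻¹) = z * e * z * e⁻¹ by group, hei.2.2, ← _root_.mul_inv_rev] at hm
    have hd := orderOf_dvd_natCard (cj a Q) (inv_mem_iff.1 hm)
    rw [h'.card, ← pow_two, Nat.Coprime.orderOf_pow (by rw [heo]; norm_num), heo] at hd
    norm_num at hd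
  have htK : t ∉ K := fun hm => by
    have e1 := mem_centralizer_singleton_iff.1 hm.1
    rw [e1, mul_assoc, ht.2.2, mul_one] at hty
    have h2 := eq_one_of_odd_of_mul_self (show Odd (orderOf y) by rw [hy]; decide)
      (by nth_rw 2 [hty]; exact mul_inv_cancel y)
    rw [h2, orderOf_one] at hy
    norm_num at hy
  have hker : ∀ q ∈ K, q ∈ cj a Q → q = 1 := by
    intro q hqK hqQ
    have hq'K : z * q * z ∈ K := mul_mem (mul_mem hzK hqK) hzK
    have hq'Q : z * q * z ∈ cj a Q := by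
      have := h'.nrm z (mem_centralizer_singleton_iff.2 htz.symm) q hqQ
      rwa [inv_eq_of_mul_eq_one_right h.zz] at this
    have hcm : q * (z * q * z) = z * q * z * q := (h'.comm q hqQ _ hq'Q).resolve_right fun e1 => htK (by
      rw [show t = q * (z * q * z) * (z * q * z * q)⁻¹ by rw [e1]; group]
      exact mul_mem (mul_mem hqK hq'K) (inv_mem (mul_mem hq'K hqK)))
    have hqq : q * q = 1 := (h'.sq q hqQ).resolve_right fun e1 => htK (e1 ▸ mul_mem hqK hqK)
    have hfix : z * (q * (z * q * z)) * z = q * (z * q * z) := by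
      rw [invol_conj_mul_map h.zz, invol_conj_twice h.zz, hcm]
    rcases hKz _ (mul_mem hqK hq'K) (mem_centralizer_singleton_iff.2 ((invol_fix_iff h.zz _).1 hfix).symm) with e1 | e1
    · have e2 : z * q * z = q := by rw [eq_inv_of_mul_eq_one_right e1, inv_eq_of_mul_eq_one_right hqq]
      rcases hKz q hqK (mem_centralizer_singleton_iff.2 ((invol_fix_iff h.zz _).1 e2).symm) with e3 | e3
      · exact e3
      · exact absurd (e3 ▸ hqQ) hzQ
    · exact absurd (e1 ▸ mul_mem hqQ hq'Q) hzQ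
  let φ : K →* A := F.π.comp (inclusion (inf_le_right : K ≤ centralizer ({t} : Set G)))
  have hφ : Function.Injective φ := (injective_iff_map_eq_one φ).2 fun k hk =>
    Subtype.ext (hker k k.2 ((F.ker _).1 hk))
  have hrange : Nat.card φ.range = Nat.card K := (Nat.card_congr (MonoidHom.ofInjective hφ).toEquiv).symm
  have h60 : Nat.card K ∣ 60 := JTwo.AltFive.card_A ▸ hrange ▸ card_subgroup_dvd_card φ.range
  have h504 : Nat.card K ∣ 504 := h.small y hyC hy ▸ card_dvd_of_le inf_le_left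
  have h3 : 3 ∣ Nat.card K := heo ▸ orderOf_dvd_natCard K heK
  have hC2 : ¬ 4 ∣ Nat.card (K ⊓ centralizer ({z} : Set G) : Subgroup G) := by
    intro h4
    have : Nat.card (K ⊓ centralizer ({z} : Set G) : Subgroup G) ≤ 2 := by
      refine (Nat.card_le_card_of_injective (fun s : (K ⊓ centralizer ({z} : Set G) : Subgroup G) =>
        decide ((s : G) = 1)) fun a b e1 => ?_).trans (by simp)
      have e' := decide_eq_decide.1 e1
      refine Subtype.ext ?_
      rcases hKz _ a.2.1 a.2.2 with p | p <;> rcases hKz _ b.2.1 b.2.2 with q | q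
      · rw [p, q]
      · exact absurd (q.symm.trans (e'.1 p)) h.z_ne
      · exact absurd (p.symm.trans (e'.2 q)) h.z_ne
      · rw [p, q]
    have := Nat.le_of_dvd Nat.card_pos h4
    omega
  obtain ⟨O, -, hOm, hKO, -⟩ := exists_odd_half hzK h.inv hC2
  have hOodd : ¬ 2 ∣ Nat.card O := fun h2 => by
    haveI : Fact (Nat.Prime 2) := ⟨Nat.prime_two⟩
    obtain ⟨w, hw⟩ := exists_prime_orderOf_dvd_card' (G := O) 2 h2
    have := ((hOm _).1 w.2).2
    rw [Subgroup.orderOf_coe, hw] at this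
    exact absurd this (by decide)
  have h12 : Nat.card K ∣ 12 := (show Nat.gcd 60 504 = 12 from by norm_num) ▸ Nat.dvd_gcd h60 h504
  have := Nat.le_of_dvd (by norm_num) h12
  rw [hKO] at h12 h3 this ⊢
  have : Nat.card O ≤ 6 := by omega
  interval_cases hn : Nat.card O <;> omega

end three

/-- The number of inverted elements of the class. -/
theorem card_yclass : Nat.card {x : G // YClass x ∧ z * x * z = x⁻¹} = 320 := by
  haveI : Fact (Nat.Prime 3) := ⟨Nat.prime_three⟩
  obtain ⟨y₀, hy₀⟩ := exists_prime_orderOf_dvd_card' (G := ↥(centralizer ({z} : Set G))) 3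
    (by rw [h.card_C]; norm_num)
  rw [← Subgroup.orderOf_coe] at hy₀
  obtain ⟨t, ht, hty⟩ := h.exists_inverter (Or.inl rfl) y₀.2 hy₀
  have e := h.card_yclass_mul y₀.2 hy₀ ht hty
  rw [h.card_K y₀.2 hy₀ ht hty] at e
  omega

theorem exists_three : ∃ y, y ∈ centralizer ({z} : Set G) ∧ orderOf y = 3 := by
  haveI : Fact (Nat.Prime 3) := ⟨Nat.prime_three⟩
  obtain ⟨y₀, hy₀⟩ := exists_prime_orderOf_dvd_card' (G := ↥(centralizer ({z} : Set G))) 3
    (by rw [h.card_C]; norm_num)
  exact ⟨y₀.1, y₀.2, by rw [Subgroup.orderOf_coe]; exact hy₀⟩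

/-- An element of the class is conjugate to a given one. -/
theorem yclass_conj_to {a y : G} (ha : YClass a) (hyC : y ∈ centralizer ({z} : Set G)) (hy : orderOf y = 3) :
    ∃ g : G, g * y * g⁻¹ = a := by
  obtain ⟨hao, w, hw, hwa⟩ := ha
  obtain ⟨b, hb⟩ := h.exists_conj hw
  obtain ⟨t, ht, hty⟩ := h.exists_inverter (Or.inl rfl) hyC hy
  have haC : b⁻¹ * a * b ∈ centralizer ({z} : Set G) := mem_centralizer_singleton_iff.2 (by
    calc b⁻¹ * a * b * z = b⁻¹ * (a * (b * z * b⁻¹)) * b := by group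
      _ = b⁻¹ * (b * z * b⁻¹ * a) * b := by rw [hb, mem_centralizer_singleton_iff.1 hwa]
      _ = z * (b⁻¹ * a * b) := by group)
  have hbo : orderOf (b⁻¹ * a * b) = 3 := by
    rw [show b⁻¹ * a * b = b⁻¹ * a * b⁻¹⁻¹ by group, ← MulAut.conj_apply, MulEquiv.orderOf_eq, hao]
  obtain ⟨c, -, hce⟩ := h.exists_conj_three hyC hy haC hbo
  rcases (JTwo.pow_cases_three hbo (hce ▸ mem_zpowers (c * y * c⁻¹))).resolve_left (fun e => by
    rw [conj_eq_one_iff] at e
    rw [e, orderOf_one] at hy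
    norm_num at hy) with e | e
  · exact ⟨b * c, by rw [show b * c * y * (b * c)⁻¹ = b * (c * y * c⁻¹) * b⁻¹ by group, e]; group⟩
  · refine ⟨b * c * t, ?_⟩
    calc b * c * t * y * (b * c * t)⁻¹ = b * c * (t * y * t) * (b * c)⁻¹ := by
          rw [show b * c * t * y * (b * c * t)⁻¹ = b * c * (t * y * t⁻¹) * (b * c)⁻¹ by group,
            inv_eq_of_mul_eq_one_right ht.2.2]
      _ = (b * (c * y * c⁻¹) * b⁻¹)⁻¹ := by rw [hty]; group
      _ = a := by rw [e]; group

theorem card_cent_yclass' {a : G} (ha : YClass a) : Nat.card (centralizer ({a} : Set G)) = 504 := by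
  obtain ⟨y, hyC, hy⟩ := h.exists_three
  obtain ⟨g, rfl⟩ := h.yclass_conj_to ha hyC hy
  rw [JTwo.card_centralizer_conj, h.small y hyC hy]

/-- A subgroup of order nine, self-centralizing, inside the class. -/
theorem exists_nine : ∃ (E : Subgroup G) (y : G), Nat.card E = 9 ∧ y ∈ centralizer ({z} : Set G) ∧ orderOf y = 3 ∧
    y ∈ E ∧ (∀ a ∈ E, a ≠ 1 → YClass a) ∧ (∀ g : G, (∀ a ∈ E, g * a = a * g) → g ∈ E) ∧
    ∃ e ∈ E, z * e * z = e⁻¹ ∧ e ∉ zpowers y ∧ ∀ a ∈ E, ∃ i j : ℕ, a = y ^ i * e ^ j := by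
  classical
  haveI : Fact (Nat.Prime 3) := ⟨Nat.prime_three⟩
  obtain ⟨y, hyC, hy⟩ := h.exists_three
  obtain ⟨t, ht, hty, e, hey, hei, hte⟩ := h.exists_fix_pair hyC hy
  obtain ⟨h8, h9⟩ := h.X_small hyC hy
  have he3 : e ^ 3 = 1 := (h9 e hey hei).1
  have heo : orderOf e = 3 := orderOf_eq_prime he3 hei.1
  set E := centralizer ({e} : Set G) ⊓ centralizer ({y} : Set G) with hE
  have hEc : Nat.card E = 9 := (h9 e hey hei).2
  have hye : e * y = y * e := mem_centralizer_singleton_iff.1 hey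
  have hyE : y ∈ E := ⟨mem_centralizer_singleton_iff.2 hye.symm, mem_centralizer_singleton_iff.2 rfl⟩
  have heE : e ∈ E := ⟨mem_centralizer_singleton_iff.2 rfl, hey⟩
  have hzy : z * y * z = y := (invol_fix_iff h.zz y).2 (mem_centralizer_singleton_iff.1 hyC).symm
  have hny : e ∉ zpowers y := fun hm => by
    obtain ⟨i, hi⟩ := mem_zpowers_iff.1 hm
    have hfix : z * e * z = e := (invol_fix_iff h.zz e).2 (by
      rw [← hi]; exact ((show Commute z y from (mem_centralizer_singleton_iff.1 hyC).symm).zpow_right i).eq)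
    rw [fix_inv_one hei.2.1 hei.2.2 hfix, orderOf_one] at heo
    norm_num at heo
  have hrep : ∀ a ∈ E, ∃ i j : ℕ, a = y ^ i * e ^ j := by
    let f : Fin 3 × Fin 3 → E := fun p => ⟨y ^ (p.1 : ℕ) * e ^ (p.2 : ℕ), mul_mem (pow_mem hyE _) (pow_mem heE _)⟩
    have hf : Function.Injective f := by
      rintro ⟨i, j⟩ ⟨i', j'⟩ e1
      replace e1 : y ^ (i : ℕ) * e ^ (j : ℕ) = y ^ (i' : ℕ) * e ^ (j' : ℕ) := congrArg Subtype.val e1
      have hmem : e ^ ((j : ℤ) - j') ∈ zpowers y := by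
        refine mem_zpowers_iff.2 ⟨(i' : ℤ) - i, ?_⟩
        calc y ^ ((i' : ℤ) - i) = (y ^ (i : ℕ))⁻¹ * (y ^ (i' : ℕ) * e ^ (j' : ℕ)) * (e ^ (j' : ℕ))⁻¹ := by group
          _ = (y ^ (i : ℕ))⁻¹ * (y ^ (i : ℕ) * e ^ (j : ℕ)) * (e ^ (j' : ℕ))⁻¹ := by rw [e1]
          _ = e ^ ((j : ℤ) - j') := by group
      have hj : j = j' := by
        by_contra hne
        refine hny ?_
        have hne' : (j : ℕ) ≠ j' := fun e2 => hne (Fin.ext e2)
        rcases order_three_pow heo (((j : ℤ) - j') % 3).toNat with e2 | e2 | e2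
        · exfalso
          have h1 : e ^ (((j : ℤ) - j') % 3) = 1 := by
            rw [← Int.toNat_of_nonneg (Int.emod_nonneg ((j : ℤ) - j') (by norm_num : (3 : ℤ) ≠ 0)), zpow_natCast, e2]
          have hd := orderOf_dvd_iff_zpow_eq_one.2 h1
          rw [heo] at hd
          have := j.2
          have := j'.2
          omega
        all_goals
          have h1 : e ^ ((j : ℤ) - j') = e ^ (((j : ℤ) - j') % 3).toNat := by
            rw [← zpow_natCast, Int.toNat_of_nonneg (Int.emod_nonneg _ (by norm_num : (3 : ℤ) ≠ 0))]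
            have := zpow_mod_orderOf e ((j : ℤ) - j')
            rw [heo] at this
            exact this.symm
          rw [h1, e2] at hmem
        · exact hmem
        · exact inv_mem_iff.1 hmem
      subst hj
      refine Prod.ext (Fin.ext (pow_injOn_Iio_orderOf (x := y) ?_ ?_ (mul_right_cancel e1))) rfl <;>
        simp only [Set.mem_Iio, hy] <;> omega
    intro a ha
    obtain ⟨p, hp⟩ := ((Nat.bijective_iff_injective_and_card f).2 ⟨hf, by
      rw [Nat.card_prod, Nat.card_fin, hEc]⟩).2 ⟨a, ha⟩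
    exact ⟨p.1, p.2, (congrArg Subtype.val hp).symm⟩
  have heY : YClass e := ⟨heo, t, h.out_isI ht, mem_centralizer_singleton_iff.2 hte⟩
  have hyY : YClass y := ⟨hy, z, h.isI, mem_centralizer_singleton_iff.2 (mem_centralizer_singleton_iff.1 hyC).symm⟩
  have hEab := nine_comm E hEc
  have hself : ∀ g : G, (∀ a ∈ E, g * a = a * g) → g ∈ E := fun g hg =>
    ⟨mem_centralizer_singleton_iff.2 (hg e heE), mem_centralizer_singleton_iff.2 (hg y hyE)⟩
  -- a map taking `e` to `y` and normalising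
  obtain ⟨g, hge, hgE⟩ : ∃ g : G, g * e * g⁻¹ = y ∧ ∀ a ∈ E, g * a * g⁻¹ ∈ E := by
    obtain ⟨g₀, hg₀⟩ := h.yclass_conj_to heY hyC hy
    set E' := E.map (MulAut.conj g₀⁻¹).toMonoidHom with hE'
    have hE'c : Nat.card E' = 9 := (card_map_of_injective (MulAut.conj g₀⁻¹).injective).trans hEc
    have hm : ∀ a ∈ E, g₀⁻¹ * a * g₀ ∈ E' := fun a ha => ⟨a, ha, by simp [MulAut.conj_apply]⟩
    have hE'X : E' ≤ centralizer ({y} : Set G) := by
      rintro _ ⟨a, ha, rfl⟩
      refine mem_centralizer_singleton_iff.2 ?_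
      have e1 : g₀⁻¹ * e * g₀ = y := by rw [← hg₀]; group
      show (MulAut.conj g₀⁻¹) a * y = y * (MulAut.conj g₀⁻¹) a
      rw [MulAut.conj_apply, inv_inv, ← e1,
        show g₀⁻¹ * a * g₀ * (g₀⁻¹ * e * g₀) = g₀⁻¹ * (a * e) * g₀ by group, hEab a ha e heE]
      group
    obtain ⟨c, hc, hcE⟩ := nine_conj (centralizer ({y} : Set G)) (by rw [h.small y hyC hy]; norm_num) E E'
      hEc hE'c inf_le_right hE'X
    refine ⟨c * g₀⁻¹, ?_, fun a ha => ?_⟩
    · rw [← hg₀, show c * g₀⁻¹ * (g₀ * y * g₀⁻¹) * (c * g₀⁻¹)⁻¹ = c * y * c⁻¹ by group,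
        mem_centralizer_singleton_iff.1 hc, mul_inv_cancel_right]
    · rw [show c * g₀⁻¹ * a * (c * g₀⁻¹)⁻¹ = c * (g₀⁻¹ * a * g₀) * c⁻¹ by group]
      exact (hcE _).1 (hm a ha)
  have hy' : YClass (g * y * g⁻¹) := yclass_conj g hyY
  have hz : ∀ i j : ℕ, z * (y ^ i * e ^ j) * z = y ^ i * (e ^ j)⁻¹ := fun i j => by
    rw [invol_conj_mul_map h.zz, inv_pow_inv h.zz hei.2.2,
      (invol_fix_iff h.zz _).2 ((show Commute z y from (mem_centralizer_singleton_iff.1 hyC).symm).pow_right i).eq]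
  have hyemix : YClass (y * e) := by
    obtain ⟨i, j, hij⟩ := hrep _ (hgE y hyE)
    have hcm : Commute y e := hye.symm
    have he2 : e ^ 2 = e⁻¹ := eq_inv_of_mul_eq_one_left (by rw [← pow_succ]; exact he3)
    have hy2 : y ^ 2 = y⁻¹ := eq_inv_of_mul_eq_one_left (by
      rw [← pow_succ]; exact orderOf_dvd_iff_pow_eq_one.1 hy.dvd)
    have hy3 := order_three_pow hy i
    have hj3 := order_three_pow heo j
    have hflip : ∀ a b : ℕ, YClass (y ^ a * e ^ b) → YClass (y ^ a * (e ^ b)⁻¹) := fun a b hY => by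
      have := yclass_conj z hY
      rwa [inv_eq_of_mul_eq_one_right h.zz, hz] at this
    have hne : ∀ k, g * y * g⁻¹ = k → k ≠ y ∧ k ≠ y⁻¹ ∧ k ≠ 1 := fun k hk => by
      refine ⟨fun e1 => hny ?_, fun e1 => hny ?_, fun e1 => ?_⟩
      · rw [← hge] at e1
        rw [← hk] at e1
        rw [← mul_left_cancel (mul_right_cancel e1)]; exact mem_zpowers y
      · rw [← hge] at e1
        rw [← hk, show (g * e * g⁻¹)⁻¹ = g * e⁻¹ * g⁻¹ by group] at e1
        exact inv_mem_iff.1 ((mul_left_cancel (mul_right_cancel e1)) ▸ mem_zpowers y)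
      · rw [← hk, conj_eq_one_iff] at e1
        rw [e1, orderOf_one] at hy
        norm_num at hy
    -- either a mixed element occurs, or the map can be made an exchange
    have swap_case : ∀ g1 : G, g1 * e * g1⁻¹ = y → g1 * y * g1⁻¹ = e → (∀ a ∈ E, g1 * a * g1⁻¹ ∈ E) → YClass (y * e) := by
      intro g1 s1 s2 _
      have h2 : g1 * g1 ∈ E := hself _ fun a ha => by
        obtain ⟨i', j', rfl⟩ := hrep a ha
        refine mul_inv_eq_iff_eq_mul.1 ?_
        rw [show g1 * g1 * (y ^ i' * e ^ j') * (g1 * g1)⁻¹ =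
          g1 * (g1 * y ^ i' * g1⁻¹ * (g1 * e ^ j' * g1⁻¹)) * g1⁻¹ by group, ← conj_pow, ← conj_pow, s1, s2,
          show g1 * (e ^ i' * y ^ j') * g1⁻¹ = g1 * e ^ i' * g1⁻¹ * (g1 * y ^ j' * g1⁻¹) by group, ← conj_pow, ← conj_pow,
          s1, s2]
      set w := (g1 * g1) ^ 4 * g1 with hw
      have hE4 : (g1 * g1) ^ 4 ∈ E := pow_mem h2 4
      have hww : w * w = 1 := by
        have h9' : (g1 * g1) ^ 9 = 1 := orderOf_dvd_iff_pow_eq_one.1 (hEc ▸ orderOf_dvd_natCard E h2)
        calc w * w = (g1 * g1) ^ 4 * (g1 * (g1 * g1) ^ 4) * g1 := by rw [hw]; group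
          _ = (g1 * g1) ^ 4 * ((g1 * g1) ^ 4 * g1) * g1 := by
            rw [(((Commute.refl g1).mul_right (Commute.refl g1)).pow_right 4).eq]
          _ = (g1 * g1) ^ 9 := by rw [show (9 : ℕ) = 4 + 4 + 1 by norm_num, pow_add, pow_add, pow_one]; group
          _ = 1 := h9'
      have hwe : w * e * w⁻¹ = y := by
        rw [hw, show (g1 * g1) ^ 4 * g1 * e * ((g1 * g1) ^ 4 * g1)⁻¹ =
          (g1 * g1) ^ 4 * (g1 * e * g1⁻¹) * ((g1 * g1) ^ 4)⁻¹ by group, s1, hEab _ hE4 y hyE, mul_inv_cancel_right]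
      have hwy : w * y * w⁻¹ = e := by
        rw [hw, show (g1 * g1) ^ 4 * g1 * y * ((g1 * g1) ^ 4 * g1)⁻¹ =
          (g1 * g1) ^ 4 * (g1 * y * g1⁻¹) * ((g1 * g1) ^ 4)⁻¹ by group, s2, hEab _ hE4 e heE, mul_inv_cancel_right]
      refine ⟨?_, w, ⟨hww, fun e1 => hny ?_⟩, mem_centralizer_singleton_iff.2 ?_⟩
      · refine orderOf_eq_prime (by rw [hcm.mul_pow, he3, orderOf_dvd_iff_pow_eq_one.1 hy.dvd, one_mul]) fun e1 => ?_
        exact hny (by rw [eq_inv_of_mul_eq_one_right e1]; exact inv_mem (mem_zpowers y))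
      · rw [e1, one_mul, inv_one, mul_one] at hwy
        rw [← hwy]; exact mem_zpowers y
      · refine mul_inv_eq_iff_eq_mul.1 ?_
        rw [show w * (y * e) * w⁻¹ = w * y * w⁻¹ * (w * e * w⁻¹) by group, hwe, hwy, hcm.eq]
    rw [hij] at hy'
    obtain ⟨n1, n2, n3⟩ := hne _ hij
    rcases hy3 with ei | ei | ei <;> rcases hj3 with ej | ej | ej <;> rw [ei, ej] at hy' n1 n2 n3
    · exact absurd (one_mul 1) n3
    · refine swap_case g hge ?_ hgE
      rw [hij, ei, ej, one_mul]
    · refine swap_case (g * t) ?_ ?_ fun a ha => ?_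
      · rw [show g * t * e * (g * t)⁻¹ = g * (t * e * t⁻¹) * g⁻¹ by group, inv_eq_of_mul_eq_one_right ht.2.2,
          (invol_fix_iff ht.2.2 e).2 hte, hge]
      · rw [show g * t * y * (g * t)⁻¹ = g * (t * y * t⁻¹) * g⁻¹ by group, inv_eq_of_mul_eq_one_right ht.2.2, hty,
          show g * y⁻¹ * g⁻¹ = (g * y * g⁻¹)⁻¹ by group, hij, ei, ej, one_mul, inv_inv]
      · rw [show g * t * a * (g * t)⁻¹ = g * (t * a * t⁻¹) * g⁻¹ by group]
        refine hgE _ ?_
        obtain ⟨i', j', rfl⟩ := hrep a ha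
        rw [show t * (y ^ i' * e ^ j') * t⁻¹ = t * y ^ i' * t⁻¹ * (t * e ^ j' * t⁻¹) by group, ← conj_pow,
          ← conj_pow, inv_eq_of_mul_eq_one_right ht.2.2, hty, (invol_fix_iff ht.2.2 e).2 hte]
        exact mul_mem (pow_mem (inv_mem hyE) _) (pow_mem heE _)
    · exact absurd (mul_one y) n1
    · exact hy'
    · have := hflip i j (by rw [ei, ej]; exact hy')
      rwa [ei, ej, inv_inv] at this
    · exact absurd (mul_one y⁻¹) n2
    · have := yclass_inv hy'
      rw [_root_.mul_inv_rev, inv_inv, ← (hcm.inv_right).eq] at this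
      have h' := hflip 1 2 (by rw [pow_one, he2]; exact this)
      rwa [pow_one, he2, inv_inv] at h'
    · have := yclass_inv hy'
      rwa [_root_.mul_inv_rev, inv_inv, inv_inv, ← hcm.eq] at this
  refine ⟨E, y, hEc, hyC, hy, hyE, fun a ha ha1 => ?_, hself, e, heE, hei.2.2, hny, hrep⟩
  have hmix' : YClass (y * e⁻¹) := by
    have := yclass_conj z hyemix
    have e1 := hz 1 1
    rw [pow_one, pow_one] at e1
    rwa [inv_eq_of_mul_eq_one_right h.zz, e1] at this
  obtain ⟨i, j, rfl⟩ := hrep a ha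
  have hcm : Commute y e := hye.symm
  rcases order_three_pow hy i with ei | ei | ei <;> rcases order_three_pow heo j with ej | ej | ej <;>
    rw [ei, ej] at ha1 ⊢
  · exact absurd (one_mul 1) ha1
  · rw [one_mul]; exact heY
  · rw [one_mul]; exact yclass_inv heY
  · rw [mul_one]; exact hyY
  · exact hyemix
  · exact hmix'
  · rw [mul_one]; exact yclass_inv hyY
  · have := yclass_inv hmix'
    rwa [_root_.mul_inv_rev, inv_inv, ← (hcm.inv_left).eq] at this
  · have := yclass_inv hyemix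
    rwa [_root_.mul_inv_rev, ← (hcm.inv_inv).eq] at this

/-- The Sylow subgroup for three has order nine. -/
theorem sylow_card (S : Sylow 3 G) : Nat.card S = 9 := by
  haveI : Fact (Nat.Prime 3) := ⟨Nat.prime_three⟩
  obtain ⟨E, y, hEc, hyC, hy, hyE, hY, hself, e, heE, -, -, hrep⟩ := h.exists_nine
  obtain ⟨P, hP⟩ := (IsPGroup.of_card (p := 3) (n := 2) (G := E) (by rw [hEc]; norm_num)).exists_le_sylow
  rw [Sylow.card_eq_multiplicity, ← Sylow.card_eq_multiplicity P]
  have hPE : 9 ∣ Nat.card (P : Subgroup G) := hEc ▸ card_dvd_of_le hP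
  haveI : Nontrivial (P : Subgroup G) := Finite.one_lt_card_iff_nontrivial.1 (by
    have := Nat.le_of_dvd Nat.card_pos hPE
    omega)
  haveI := P.2.center_nontrivial
  obtain ⟨c, hc⟩ := exists_ne (1 : center (P : Subgroup G))
  have hcomm : ∀ u ∈ (P : Subgroup G), (c.1 : G) * u = u * c.1 := fun u hu =>
    (congrArg Subtype.val (mem_center_iff.1 c.2 ⟨u, hu⟩)).symm
  have hcE : (c.1 : G) ∈ E := hself _ fun a ha => hcomm a (hP ha)
  have hcY : YClass (c.1 : G) := hY _ hcE fun e1 => hc (Subtype.ext (Subtype.ext e1))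
  have hPle : (P : Subgroup G) ≤ centralizer ({(c.1 : G)} : Set G) := fun u hu =>
    mem_centralizer_singleton_iff.2 (hcomm u hu).symm
  have hd := card_dvd_of_le hPle
  rw [h.card_cent_yclass' hcY] at hd
  obtain ⟨k, hk⟩ := IsPGroup.iff_card.1 P.isPGroup'
  have hk2 : k ≤ 2 := by
    by_contra hk2
    rw [hk] at hd
    exact absurd ((pow_dvd_pow 3 (show 3 ≤ k by omega)).trans hd) (by norm_num)
  refine Nat.le_antisymm ?_ (Nat.le_of_dvd Nat.card_pos hPE)
  rw [hk]
  exact Nat.pow_le_pow_right (by norm_num) hk2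

/-- All elements of order three are in the class. -/
theorem order_three_yclass {b : G} (hb : orderOf b = 3) : YClass b := by
  haveI : Fact (Nat.Prime 3) := ⟨Nat.prime_three⟩
  obtain ⟨E, y, hEc, -, -, -, hY, -⟩ := h.exists_nine
  obtain ⟨S, hS⟩ := (IsPGroup.of_card (p := 3) (n := 2) (G := E) (by rw [hEc]; norm_num)).exists_le_sylow
  have hSE : (S : Subgroup G) = E := (eq_of_le_of_card_ge hS (by rw [hEc, h.sylow_card S])).symm
  obtain ⟨T, hT⟩ := (IsPGroup.of_card (p := 3) (n := 1) (G := zpowers b)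
    (by rw [Nat.card_zpowers, hb, pow_one])).exists_le_sylow
  obtain ⟨g, hg⟩ := MulAction.exists_smul_eq G T S
  have hm : g * b * g⁻¹ ∈ E := by
    rw [← hSE, ← hg, Sylow.coe_subgroup_smul, Subgroup.mem_pointwise_smul_iff_inv_smul_mem]
    simpa [mul_assoc] using hT (mem_zpowers b)
  have hY' := yclass_conj g⁻¹ (hY _ hm fun e => by
    rw [conj_eq_one_iff] at e
    rw [e, orderOf_one] at hb
    norm_num at hb)
  rwa [show g⁻¹ * (g * b * g⁻¹) * g⁻¹⁻¹ = b by group] at hY'

/-- Two commuting elements of order three have small common centralizer. -/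
theorem nine_cent {b c x : G} (hb : orderOf b = 3) (hc : orderOf c = 3) (hbc : b * c = c * b)
    (hne : c ∉ zpowers b) (hxb : x * b = b * x) (hxc : x * c = c * x) : x ^ 3 = 1 := by
  haveI : Fact (Nat.Prime 3) := ⟨Nat.prime_three⟩
  obtain ⟨E, y, hEc, -, -, -, hY, hself, -⟩ := h.exists_nine
  obtain ⟨S, hS⟩ := (IsPGroup.of_card (p := 3) (n := 2) (G := E) (by rw [hEc]; norm_num)).exists_le_sylow
  have hSE : (S : Subgroup G) = E := (eq_of_le_of_card_ge hS (by rw [hEc, h.sylow_card S])).symm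
  have hle : zpowers b ≤ normalizer (zpowers c : Set G) := zpowers_le.2 (mem_normalizer_of_le fun a ha => by
    obtain ⟨k, rfl⟩ := mem_zpowers_iff.1 ha
    rw [(show Commute b c from hbc).zpow_right k |>.eq, mul_inv_cancel_right]
    exact zpow_mem (mem_zpowers c) k)
  have hp : IsPGroup 3 (zpowers b ⊔ zpowers c : Subgroup G) := IsPGroup.to_sup_of_normal_right'
    (IsPGroup.of_card (p := 3) (n := 1) (by rw [Nat.card_zpowers, hb, pow_one]))
    (IsPGroup.of_card (p := 3) (n := 1) (by rw [Nat.card_zpowers, hc, pow_one])) hle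
  obtain ⟨T, hT⟩ := hp.exists_le_sylow
  obtain ⟨g, hg⟩ := MulAction.exists_smul_eq G T S
  have hm : ∀ a ∈ (zpowers b ⊔ zpowers c : Subgroup G), g * a * g⁻¹ ∈ E := fun a ha => by
    rw [← hSE, ← hg, Sylow.coe_subgroup_smul, Subgroup.mem_pointwise_smul_iff_inv_smul_mem]
    simpa [mul_assoc] using hT ha
  set W := centralizer ({g * x * g⁻¹} : Set G) ⊓ E with hW
  have hbW : g * b * g⁻¹ ∈ W := ⟨mem_centralizer_singleton_iff.2 (by
    rw [show g * b * g⁻¹ * (g * x * g⁻¹) = g * (b * x) * g⁻¹ by group, ← hxb]; group),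
    hm b (mem_sup_left (mem_zpowers b))⟩
  have hcW : g * c * g⁻¹ ∈ W := ⟨mem_centralizer_singleton_iff.2 (by
    rw [show g * c * g⁻¹ * (g * x * g⁻¹) = g * (c * x) * g⁻¹ by group, ← hxc]; group),
    hm c (mem_sup_right (mem_zpowers c))⟩
  have hWE : W = E := by
    refine eq_of_le_of_card_ge inf_le_right ?_
    have hd : Nat.card W ∣ 3 ^ 2 := by
      rw [show (3 : ℕ) ^ 2 = 9 by norm_num, ← hEc]; exact card_dvd_of_le inf_le_right
    obtain ⟨k, hk2, hk⟩ := (Nat.dvd_prime_pow Nat.prime_three).1 hd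
    have h3 : 3 < Nat.card W := by
      by_contra hlt
      have hbo : orderOf (g * b * g⁻¹) = 3 := by rw [← MulAut.conj_apply, MulEquiv.orderOf_eq, hb]
      have e1 : zpowers (g * b * g⁻¹) = W := eq_of_le_of_card_ge (zpowers_le.2 hbW) (by
        rw [Nat.card_zpowers, hbo]; omega)
      rw [← e1] at hcW
      obtain ⟨i, hi⟩ := mem_zpowers_iff.1 hcW
      rw [conj_zpow] at hi
      exact hne (mem_zpowers_iff.2 ⟨i, mul_left_cancel (mul_right_cancel hi)⟩)
    rw [hEc, hk] at *
    interval_cases k <;> simp_all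
  have hxE : g * x * g⁻¹ ∈ E := hself _ fun a ha => by
    rw [← hWE] at ha
    exact (mem_centralizer_singleton_iff.1 ha.1).symm
  have h9 : orderOf (g * x * g⁻¹) ∣ 3 := by
    by_cases h1 : g * x * g⁻¹ = 1
    · rw [h1, orderOf_one]; norm_num
    · rw [(hY _ hxE h1).1]
  have h3 := orderOf_dvd_iff_pow_eq_one.1 h9
  rwa [conj_pow, conj_eq_one_iff] at h3

/-- The number of involutions modulo nine and seven. -/
theorem n_mod : Nat.card {t : G // IsI t} % 9 = 3 ∧ 7 ∣ Nat.card {t : G // IsI t} := by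
  classical
  haveI : Fact (Nat.Prime 3) := ⟨Nat.prime_three⟩
  obtain ⟨E, y, hEc, hyC, hy, hyE, hY, hself, e, heE, hze, hny, hrep⟩ := h.exists_nine
  obtain ⟨S, hS⟩ := (IsPGroup.of_card (p := 3) (n := 2) (G := E) (by rw [hEc]; norm_num)).exists_le_sylow
  have hSE : (S : Subgroup G) = E := (eq_of_le_of_card_ge hS (by rw [hEc, h.sylow_card S])).symm
  have hG := h.card_group
  have h7 : 504 ∣ Nat.card G := h.small y hyC hy ▸ Subgroup.card_subgroup_dvd_card _
  have hEab := nine_comm E hEc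
  set N := normalizer (E : Set G) with hN
  have hzy : z * y * z = y := (invol_fix_iff h.zz y).2 (mem_centralizer_singleton_iff.1 hyC).symm
  have hzN : z ∈ N := mem_normalizer_of_le fun a ha => by
    obtain ⟨i, j, rfl⟩ := hrep a ha
    rw [inv_eq_of_mul_eq_one_right h.zz, invol_conj_mul_map h.zz, inv_pow_inv h.zz hze,
      (invol_fix_iff h.zz _).2 ((show Commute z y from (mem_centralizer_singleton_iff.1 hyC).symm).pow_right i).eq]
    exact mul_mem (pow_mem hyE _) (inv_mem (pow_mem heE _))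
  have hE3 : ∀ a ∈ E, a ≠ 1 → orderOf a = 3 := fun a ha ha1 => (hY a ha ha1).1
  have hzE : z ∉ E := fun hm => by
    have := hE3 z hm h.z_ne
    rw [h.inv] at this
    norm_num at this
  have hstab : Nat.card (N ⊓ centralizer ({y} : Set G) : Subgroup G) = 18 := by
    have hyX : ∀ a ∈ E, a ∈ centralizer ({y} : Set G) := fun a ha =>
      mem_centralizer_singleton_iff.2 (hEab a ha y hyE)
    have hcase : ∀ c ∈ N, c ∈ centralizer ({y} : Set G) → ∀ i, c * e * c⁻¹ = y ^ i * e → c ∈ E := by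
      intro c hcN hcy i hce
      have hc3 : c ^ 3 ∈ E := hself _ fun a ha => by
        obtain ⟨i', j', rfl⟩ := hrep a ha
        have hcy' : Commute (c ^ 3) y := (show Commute c y from mem_centralizer_singleton_iff.1 hcy).pow_left 3
        have hce' : Commute (c ^ 3) e := by
          refine mul_inv_eq_iff_eq_mul.1 ?_
          have hci : c * y ^ i * c⁻¹ = y ^ i := by
            rw [((show Commute c y from mem_centralizer_singleton_iff.1 hcy).pow_right i).eq, mul_inv_cancel_right]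
          have e2 : c * (c * e * c⁻¹) * c⁻¹ = y ^ i * (y ^ i * e) := by
            rw [hce, show c * (y ^ i * e) * c⁻¹ = c * y ^ i * c⁻¹ * (c * e * c⁻¹) by group, hci, hce]
          have e3 : c * (c * (c * e * c⁻¹) * c⁻¹) * c⁻¹ = y ^ i * (y ^ i * (y ^ i * e)) := by
            rw [e2, show c * (y ^ i * (y ^ i * e)) * c⁻¹ =
              c * y ^ i * c⁻¹ * (c * y ^ i * c⁻¹) * (c * e * c⁻¹) by group, hci, hce, mul_assoc]
          calc c ^ 3 * e * (c ^ 3)⁻¹ = c * (c * (c * e * c⁻¹) * c⁻¹) * c⁻¹ := by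
                rw [show c ^ 3 = c * c * c by rw [pow_succ, pow_two]]; group
            _ = y ^ i * (y ^ i * (y ^ i * e)) := e3
            _ = (y ^ 3) ^ i * e := by rw [← pow_mul, show 3 * i = i + i + i by ring, pow_add, pow_add]; group
            _ = e := by rw [orderOf_dvd_iff_pow_eq_one.1 hy.dvd, one_pow, one_mul]
        exact ((hcy'.pow_right i').mul_right (hce'.pow_right j')).eq
      have hp : IsPGroup 3 (zpowers c) := fun a => ⟨3, Subtype.ext (by
        obtain ⟨k, hk⟩ := mem_zpowers_iff.1 a.2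
        have h27 : c ^ (3 ^ 3) = 1 := by
          rw [show (3 : ℕ) ^ 3 = 3 * 9 by norm_num, pow_mul]
          exact orderOf_dvd_iff_pow_eq_one.1 (hEc ▸ orderOf_dvd_natCard E hc3)
        rw [coe_pow, ← hk, ← zpow_natCast, ← zpow_mul, mul_comm, zpow_mul, zpow_natCast, h27, one_zpow, coe_one])⟩
      have hsup : IsPGroup 3 (zpowers c ⊔ (S : Subgroup G) : Subgroup G) :=
        IsPGroup.to_sup_of_normal_right' hp S.isPGroup' (by rw [hSE]; exact zpowers_le.2 hcN)
      exact hSE ▸ (S.is_maximal' hsup le_sup_right).le (mem_sup_left (mem_zpowers c))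
    let f : Bool × E → (N ⊓ centralizer ({y} : Set G) : Subgroup G) := fun p =>
      ⟨(if p.1 then z else 1) * p.2.1, mul_mem (by
        split_ifs
        · exact ⟨hzN, mem_centralizer_singleton_iff.2 (mem_centralizer_singleton_iff.1 hyC).symm⟩
        · exact one_mem _) ⟨le_normalizer p.2.2, hyX _ p.2.2⟩⟩
    have hb : Function.Bijective f := by
      constructor
      · rintro ⟨a, u⟩ ⟨b, v⟩ e1
        replace e1 : (if a then z else 1) * u.1 = (if b then z else 1) * v.1 := congrArg Subtype.val e1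
        cases a <;> cases b <;> simp only [if_true, if_false, Bool.false_eq_true, one_mul] at e1
        · rw [Subtype.ext e1]
        · exact absurd (by rw [show z = u.1 * (v.1)⁻¹ by rw [e1]; group]; exact mul_mem u.2 (inv_mem v.2)) hzE
        · exact absurd (by rw [show z = v.1 * (u.1)⁻¹ by rw [← e1]; group]; exact mul_mem v.2 (inv_mem u.2)) hzE
        · rw [Subtype.ext (mul_left_cancel e1)]
      · rintro ⟨c, hcN, hcy⟩
        obtain ⟨i, j, hij⟩ := hrep _ ((mem_normalizer_iff.1 hcN e).1 heE)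
        have heo : orderOf e = 3 := hE3 e heE fun e1 => hny (e1 ▸ one_mem _)
        rcases order_three_pow heo j with ej | ej | ej <;> rw [ej] at hij
        · refine absurd ?_ hny
          rw [mul_one] at hij
          rw [show e = c⁻¹ * (y ^ i) * c by rw [← hij]; group, mul_assoc,
            ← ((show Commute c y from mem_centralizer_singleton_iff.1 hcy).pow_right i).eq, inv_mul_cancel_left]
          exact npow_mem_zpowers y i
        · exact ⟨(false, ⟨c, hcase c hcN hcy i hij⟩), Subtype.ext (one_mul c)⟩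
        · refine ⟨(true, ⟨z * c, hcase (z * c) (mul_mem hzN hcN) (mul_mem (mem_centralizer_singleton_iff.2
            (mem_centralizer_singleton_iff.1 hyC).symm) hcy) i ?_⟩), Subtype.ext ?_⟩
          · rw [show z * c * e * (z * c)⁻¹ = z * (c * e * c⁻¹) * z⁻¹ by group, hij,
              inv_eq_of_mul_eq_one_right h.zz, invol_conj_mul_map h.zz,
              (invol_fix_iff h.zz _).2 ((show Commute z y from (mem_centralizer_singleton_iff.1 hyC).symm).pow_right i).eq,
              invol_conj_inv_map h.zz, hze, inv_inv]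
          · show z * (z * c) = c
            rw [← mul_assoc, h.zz, one_mul]
    rw [← Nat.card_eq_of_bijective f hb, Nat.card_prod, hEc]
    norm_num
  have horb : Nat.card {a : G // ∃ c ∈ N, c * y * c⁻¹ = a} = 8 := by
    have hsplit := card_split (fun a : G => a ∈ E) (fun a => a = 1)
    rw [show Nat.card {a : G // a ∈ E} = 9 from hEc, show Nat.card {a : G // a ∈ E ∧ a = 1} = 1 from
      Nat.card_eq_one_iff_unique.2 ⟨⟨fun a b => Subtype.ext (a.2.2.trans b.2.2.symm)⟩,
        ⟨⟨1, one_mem E, rfl⟩⟩⟩] at hsplit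
    rw [show 8 = Nat.card {a : G // a ∈ E ∧ ¬ a = 1} by omega]
    refine Nat.card_congr (Equiv.subtypeEquivRight fun a => ⟨?_, fun ha => ?_⟩)
    · rintro ⟨c, hc, rfl⟩
      exact ⟨(mem_normalizer_iff.1 hc y).1 hyE, fun e1 => by
        rw [conj_eq_one_iff] at e1
        rw [e1, orderOf_one] at hy
        norm_num at hy⟩
    · obtain ⟨g, hg⟩ := h.yclass_conj_to (hY a ha.1 ha.2) hyC hy
      set E' := E.map (MulAut.conj g).toMonoidHom with hE'
      have hE'a : E' ≤ centralizer ({a} : Set G) := by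
        rintro _ ⟨b, hb, rfl⟩
        refine mem_centralizer_singleton_iff.2 ?_
        show (MulAut.conj g) b * a = a * (MulAut.conj g) b
        rw [MulAut.conj_apply, ← hg, show g * b * g⁻¹ * (g * y * g⁻¹) = g * (b * y) * g⁻¹ by group, hEab b hb y hyE]
        group
      obtain ⟨c, hc, hcE⟩ := nine_conj (centralizer ({a} : Set G))
        (by rw [h.card_cent_yclass' (hY a ha.1 ha.2)]; norm_num) E E' hEc
        ((card_map_of_injective (MulAut.conj g).injective).trans hEc)
        (fun b hb => mem_centralizer_singleton_iff.2 (hEab b hb a ha.1)) hE'a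
      refine ⟨c * g, mem_normalizer_of_le fun b hb => ?_, ?_⟩
      · rw [show c * g * b * (c * g)⁻¹ = c * (g * b * g⁻¹) * c⁻¹ by group]
        exact (hcE _).1 ⟨b, hb, rfl⟩
      · rw [show c * g * y * (c * g)⁻¹ = c * (g * y * g⁻¹) * c⁻¹ by group, hg,
          mem_centralizer_singleton_iff.1 hc, mul_inv_cancel_right]
  have hNc : Nat.card N = 144 := by
    rw [← card_orbit_mul N y, horb, hstab]
  have hidx := N.card_mul_index
  rw [hNc, hG] at hidx
  have hmod : Nat.card (Sylow 3 G) % 3 = 1 :=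
    Eq.trans (card_sylow_modEq_one 3 G) (Nat.mod_eq_of_lt (by norm_num))
  rw [Sylow.card_eq_index_normalizer S, show normalizer (S : Set G) = N by rw [hN, ← hSE]; rfl] at hmod
  rw [hG] at h7
  constructor <;> omega

end Small

end CfsgLib.Invol.JThreeType
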