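import Cfsg.Agent.Lib.Invol.JThreeType.SmallBase

/-!
# Elements of order five in the small case

The centralizer of an element `f` of order five of the centralizer of `z` is an extension by `z` of a group `O`
of odd order, the product of `⟨f⟩` and the fixed points of two inverters.
-/

set_option autoImplicit false
set_option synthInstance.maxSize 4096

namespace CfsgLib.Invol.JThreeType

open Subgroup
open CfsgLib.Invol.JTwo (PreHyp Frame Out cj mem_cj card_orbit_mul centralizer_of_zpowers_eq mem_normalizer_of_le)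

variable {G : Type*} [Group G] [Finite G] {z : G} {Q : Subgroup G}

/-- The odd part of a centralizer, with its decomposition. -/
structure Split (z f t : G) (O : Subgroup G) : Prop where
  mem : ∀ a, a ∈ O ↔ a * f = f * a ∧ Odd (orderOf a)
  card_cent : Nat.card (centralizer ({f} : Set G)) = 2 * Nat.card O
  half : ∀ c ∈ centralizer ({f} : Set G), c ∉ O → z * c ∈ O
  fix : ∀ p ∈ O, p * z = z * p → p ∈ zpowers f
  inv_t : ∀ p ∈ O, p * t = t * p → z * p * z = p⁻¹
  inv_u : ∀ q ∈ O, q * (t * z) = t * z * q → z * q * z = q⁻¹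
  dvd_t : Nat.card (O ⊓ centralizer ({t} : Set G) : Subgroup G) ∣ 5
  dvd_u : Nat.card (O ⊓ centralizer ({t * z} : Set G) : Subgroup G) ∣ 5
  card_O : Nat.card O = 5 * Nat.card (O ⊓ centralizer ({t} : Set G) : Subgroup G) *
    Nat.card (O ⊓ centralizer ({t * z} : Set G) : Subgroup G)
  rep : ∀ a ∈ O, ∃ i : ℕ, ∃ p ∈ O, p * t = t * p ∧ ∃ q ∈ O, q * (t * z) = t * z * q ∧ a = f ^ i * p * q
  uniq : ∀ i : ℕ, ∀ p ∈ O, p * t = t * p → ∀ q ∈ O, q * (t * z) = t * z * q → f ^ i * p * q = 1 →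
    f ^ i = 1 ∧ p = 1 ∧ q = 1
  twist : ∀ d e, d ∈ O → e ∈ O → z * d * z = d⁻¹ → z * e * z = e⁻¹ → ∃ k : ℕ, d * e = f ^ k * (e * d)

namespace Small

variable (h : Small z Q)
include h

theorem conj (g : G) : Small (g * z * g⁻¹) (cj g Q) where
  toHyp := h.toHyp.conj g
  small := fun y hy ho => by
    have hm : g⁻¹ * y * g ∈ centralizer ({z} : Set G) := JTwo.mem_centralizer_conj.1 hy
    have hy' : g * (g⁻¹ * y * g) * g⁻¹ = y := by group
    rw [← hy', JTwo.card_centralizer_conj, h.small _ hm (by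
      rw [show g⁻¹ * y * g = g⁻¹ * y * g⁻¹⁻¹ by group, ← MulAut.conj_apply, MulEquiv.orderOf_eq, ho])]

theorem no_three_five {a b : G} (ha : orderOf a = 3) (hb : orderOf b = 5) (hc : b * a = a * b) : False := by
  have hd := orderOf_dvd_natCard _ (mem_centralizer_singleton_iff.2 hc)
  rw [hb, h.card_cent_yclass' (h.order_three_yclass ha)] at hd
  norm_num at hd

theorem odd_dvd_five {w : G} (hw : IsI w) (D : Subgroup G) (hD : D ≤ centralizer ({w} : Set G))
    (hodd : ∀ a ∈ D, Odd (orderOf a)) (h3 : ∀ a ∈ D, orderOf a ≠ 3) : Nat.card D ∣ 5 := by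
  obtain ⟨g, rfl⟩ := h.exists_conj hw
  have hd := card_dvd_of_le hD
  rw [JTwo.card_centralizer_conj, h.card_C] at hd
  have h2 : ¬ 2 ∣ Nat.card D := fun h2 => by
    haveI : Fact (Nat.Prime 2) := ⟨Nat.prime_two⟩
    obtain ⟨a, ha⟩ := exists_prime_orderOf_dvd_card' (G := D) 2 h2
    have := hodd a a.2
    rw [Subgroup.orderOf_coe, ha] at this
    exact absurd this (by decide)
  have h3' : ¬ 3 ∣ Nat.card D := fun h3' => by
    haveI : Fact (Nat.Prime 3) := ⟨Nat.prime_three⟩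
    obtain ⟨a, ha⟩ := exists_prime_orderOf_dvd_card' (G := D) 3 h3'
    exact h3 a a.2 (by rw [Subgroup.orderOf_coe, ha])
  exact (show Nat.Coprime (Nat.card D) (2 ^ 7 * 3) from
    ((Nat.prime_two.coprime_iff_not_dvd.2 h2).symm.pow_right 7).mul_right
      (Nat.prime_three.coprime_iff_not_dvd.2 h3').symm).dvd_of_dvd_mul_left (show _ ∣ 2 ^ 7 * 3 * 5 from hd)

/-- The centralizer of an element of order five. -/
theorem five_split {f t : G} (hfC : f ∈ centralizer ({z} : Set G)) (hf : orderOf f = 5) (ht : IsI t)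
    (htC : t ∈ centralizer ({z} : Set G)) (htf : t * f * t = f⁻¹) : ∃ O, Split z f t O := by
  classical
  haveI : Fact (Nat.Prime 5) := ⟨Nat.prime_five⟩
  have hzf : z * f = f * z := (mem_centralizer_singleton_iff.1 hfC).symm
  have htz : t * z = z * t := mem_centralizer_singleton_iff.1 htC
  have hzi : z⁻¹ = z := inv_eq_of_mul_eq_one_right h.zz
  have hti : t⁻¹ = t := inv_eq_of_mul_eq_one_right ht.1
  set L := centralizer ({f} : Set G) with hL
  have h10 : Nat.card (L ⊓ centralizer ({z} : Set G) : Subgroup G) = 10 := h.card_five hfC hf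
  obtain ⟨O, hOL, hOm, hLO, hOn⟩ := exists_odd_half (K := L) (mem_centralizer_singleton_iff.2 hzf) h.inv
    (by rw [h10]; norm_num)
  have hmem : ∀ a, a ∈ O ↔ a * f = f * a ∧ Odd (orderOf a) := fun a => by
    rw [hOm a, hL, mem_centralizer_singleton_iff]
  have hodd : ∀ o ∈ O, Odd (orderOf o) := fun o ho => ((hOm o).1 ho).2
  have hfL : f ∈ L := mem_centralizer_singleton_iff.2 rfl
  have hfO : f ∈ O := (hmem f).2 ⟨rfl, by rw [hf]; decide⟩
  have hfix : ∀ p ∈ O, p * z = z * p → p ∈ zpowers f := fun p hp hpz => by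
    have hd := orderOf_dvd_natCard (L ⊓ centralizer ({z} : Set G) : Subgroup G)
      ⟨hOL hp, mem_centralizer_singleton_iff.2 hpz⟩
    rw [h10] at hd
    exact prime_unique (K := L ⊓ centralizer ({z} : Set G)) (by rw [h10]; norm_num) ⟨hfL, hfC⟩ hf
      ⟨hOL hp, mem_centralizer_singleton_iff.2 hpz⟩
      (orderOf_dvd_iff_pow_eq_one.1
        ((Nat.coprime_two_right.2 (hodd p hp)).dvd_of_dvd_mul_left (show _ ∣ 2 * 5 from hd)))
  have hzO : ∀ o ∈ O, z * o * z ∈ O := fun o ho => by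
    have := hOn z (mem_centralizer_singleton_iff.2 hzf) o ho
    rwa [hzi] at this
  have htO : ∀ o ∈ O, t * o * t ∈ O := fun o ho => by
    refine (hmem _).2 ⟨?_, ?_⟩
    · have e : t * f⁻¹ * t = f := by rw [← htf, invol_conj_twice ht.1]
      calc t * o * t * f = t * o * t * (t * f⁻¹ * t) := by rw [e]
        _ = t * (o * f⁻¹) * t := (invol_conj_mul_map ht.1 o f⁻¹).symm
        _ = t * (f⁻¹ * o) * t := by rw [(show Commute o f from ((hmem o).1 ho).1).inv_right.eq]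
        _ = f * (t * o * t) := by rw [invol_conj_mul_map ht.1, e]
    · rw [show t * o * t = MulAut.conj t o by rw [MulAut.conj_apply, hti], MulEquiv.orderOf_eq]
      exact hodd o ho
  have hfcen : ∀ a ∈ O, ∀ i : ℕ, Commute (f ^ i) a := fun a ha i =>
    ((show Commute a f from ((hmem a).1 ha).1).symm).pow_left i
  have hzfi : ∀ i : ℕ, z * f ^ i * z = f ^ i := fun i =>
    (invol_fix_iff h.zz _).2 ((show Commute z f from hzf).pow_right i).eq
  have hfi : ∀ p ∈ zpowers f, ∃ i : ℕ, f ^ i = p := fun p hp =>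
    Submonoid.mem_powers_iff p f |>.1 ((isOfFinOrder_of_finite f).mem_powers_iff_mem_zpowers.2 hp)
  have hfinv : ∀ p ∈ zpowers f, t * p * t = p⁻¹ := fun p hp => by
    obtain ⟨i, rfl⟩ := hfi p hp
    exact inv_pow_inv ht.1 htf i
  -- both inverters are inverting `f`
  set u := t * z with hu
  have huu : u * u = 1 := by rw [hu, mul_assoc, ← mul_assoc z, ← htz, mul_assoc t z z, h.zz, mul_one, ht.1]
  have hu1 : u ≠ 1 := fun e => by
    have e1 : t = z := by rw [eq_inv_of_mul_eq_one_left e, hzi]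
    rw [e1, (invol_fix_iff h.zz f).2 hzf] at htf
    have := eq_one_of_odd_of_mul_self (show Odd (orderOf f) by rw [hf]; decide) (by
      nth_rw 2 [htf]; exact mul_inv_cancel f)
    rw [this, orderOf_one] at hf
    norm_num at hf
  have huconj : ∀ a, u * a * u = t * (z * a * z) * t := fun a => by
    calc u * a * u = (t * z) * a * (z * t) := by rw [← htz, hu]
      _ = t * (z * a * z) * t := by group
  have hnofix : ∀ p ∈ O, p * t = t * p → p * z = z * p → p = 1 := fun p hp hpt hpz =>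
    fix_inv_one (hodd p hp) (hfinv p (hfix p hp hpz)) ((invol_fix_iff ht.1 p).2 hpt.symm)
  have hno3 : ∀ a ∈ O, orderOf a ≠ 3 := fun a ha e => h.no_three_five e hf ((hmem a).1 ha).1.symm
  have inv_t : ∀ p ∈ O, p * t = t * p → z * p * z = p⁻¹ := by
    have := fixfree_inverts h.zz (O ⊓ centralizer ({t} : Set G)) (fun a ha => hodd a ha.1)
      (fun a ha => ⟨hzO a ha.1, mem_centralizer_singleton_iff.2 (by
        refine ((Commute.mul_left (Commute.mul_left ?_ ?_) ?_) : Commute (z * a * z) t).eq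
        · exact htz.symm
        · exact mem_centralizer_singleton_iff.1 ha.2
        · exact htz.symm)⟩)
      fun a ha hc => hnofix a ha.1 (mem_centralizer_singleton_iff.1 ha.2) hc.symm
    exact fun p hp hpt => this.1 p ⟨hp, mem_centralizer_singleton_iff.2 hpt⟩
  have huz : u * z = z * u := by rw [hu, ← mul_assoc z t z, ← htz]
  have inv_u : ∀ q ∈ O, q * u = u * q → z * q * z = q⁻¹ := by
    have := fixfree_inverts h.zz (O ⊓ centralizer ({u} : Set G)) (fun a ha => hodd a ha.1)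
      (fun a ha => ⟨hzO a ha.1, mem_centralizer_singleton_iff.2 (by
        refine ((Commute.mul_left (Commute.mul_left ?_ ?_) ?_) : Commute (z * a * z) u).eq
        · exact huz.symm
        · exact mem_centralizer_singleton_iff.1 ha.2
        · exact huz.symm)⟩)
      fun a ha hc => hnofix a ha.1 (by
        have e1 : Commute a (u * z) := (show Commute a u from mem_centralizer_singleton_iff.1 ha.2).mul_right
          (show Commute a z from hc.symm)
        rw [hu, mul_assoc, h.zz, mul_one] at e1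
        exact e1.eq) hc.symm
    exact fun p hp hpt => this.1 p ⟨hp, mem_centralizer_singleton_iff.2 hpt⟩
  have twist : ∀ d e, d ∈ O → e ∈ O → z * d * z = d⁻¹ → z * e * z = e⁻¹ → ∃ k : ℕ, d * e = f ^ k * (e * d) := by
    intro d e hd he hdi hei
    obtain ⟨p, hp, g, hg, e1, hpz, hgi⟩ := fixed_times_inverted h.zz O hodd (mul_mem hd he) (hzO _ (mul_mem hd he))
    obtain ⟨i, rfl⟩ := hfi p (hfix p hp hpz.symm)
    have e2 : d⁻¹ * e⁻¹ = f ^ i * g⁻¹ := by
      rw [← hdi, ← hei, ← invol_conj_mul_map h.zz, e1, invol_conj_mul_map h.zz, hzfi, hgi]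
    have e3 : e * d = g * (f ^ i)⁻¹ := by
      rw [show e * d = (d⁻¹ * e⁻¹)⁻¹ by group, e2]; group
    refine ⟨i + i, ?_⟩
    rw [e1, e3, (hfcen g hg i).inv_left.eq.symm, pow_add]
    group
  have hrep : ∀ a ∈ O, ∃ i : ℕ, ∃ p ∈ O, p * t = t * p ∧ ∃ q ∈ O, q * u = u * q ∧ a = f ^ i * p * q := by
    intro a ha
    obtain ⟨p0, hp0, d, hd, rfl, hp0z, hdi⟩ := fixed_times_inverted h.zz O hodd ha (hzO a ha)
    obtain ⟨i, rfl⟩ := hfi p0 (hfix p0 hp0 hp0z.symm)
    obtain ⟨p, hp, r, hr, rfl, hpt, hri⟩ := fixed_times_inverted ht.1 O hodd hd (htO d hd)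
    have hpi := inv_t p hp hpt.symm
    obtain ⟨k, hk⟩ := twist p (p * r) hp (mul_mem hp hr) hpi hdi
    have hzr : z * r * z = p * r⁻¹ * p⁻¹ := by
      calc z * r * z = z * (p⁻¹ * (p * r)) * z := by group
        _ = p * r⁻¹ * p⁻¹ := by
          rw [invol_conj_mul_map h.zz, invol_conj_inv_map h.zz, hpi, hdi]; group
    have hprp : p * r * p⁻¹ = f ^ k * r := by
      calc p * r * p⁻¹ = p⁻¹ * (p * (p * r)) * p⁻¹ := by group
        _ = p⁻¹ * (f ^ k * (p * r * p)) * p⁻¹ := by rw [hk]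
        _ = p⁻¹ * f ^ k * p * r := by group
        _ = f ^ k * r := by rw [(hfcen _ (inv_mem hp) k).eq.symm]; group
    have hur : u * r * u = f ^ k * r := by
      rw [huconj, hzr, invol_conj_mul_map ht.1, invol_conj_mul_map ht.1, invol_conj_inv_map ht.1,
        invol_conj_inv_map ht.1, hri, (invol_fix_iff ht.1 p).2 hpt, inv_inv, hprp]
    obtain ⟨c, hc, hcc⟩ := exists_sqrt_of_odd (x := f ^ k)
      ((show Odd (orderOf f) by rw [hf]; decide).of_dvd_nat (orderOf_pow_dvd k))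
    have hcf : c ∈ zpowers f := zpowers_le.2 (npow_mem_zpowers f k) hc
    obtain ⟨l, rfl⟩ := hfi c hcf
    have hufl : u * f ^ l * u = (f ^ l)⁻¹ := by rw [huconj, hzfi, inv_pow_inv ht.1 htf]
    have hq : f ^ l * r * u = u * (f ^ l * r) := by
      refine ((invol_fix_iff huu _).1 ?_).symm
      rw [invol_conj_mul_map huu, hufl, hur, ← hcc]
      group
    obtain ⟨m, hm⟩ := hfi ((f ^ i) * (f ^ l)⁻¹) (mul_mem (npow_mem_zpowers f i) (inv_mem hcf))
    refine ⟨m, p, hp, hpt.symm, f ^ l * r, mul_mem (pow_mem hfO l) hr, hq, ?_⟩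
    rw [hm, show f ^ i * (f ^ l)⁻¹ * p * (f ^ l * r) = f ^ i * ((f ^ l)⁻¹ * (p * f ^ l)) * r by group,
      ← (hfcen p hp l).eq]
    group
  have huniq : ∀ i : ℕ, ∀ p ∈ O, p * t = t * p → ∀ q ∈ O, q * u = u * q → f ^ i * p * q = 1 →
      f ^ i = 1 ∧ p = 1 ∧ q = 1 := by
    intro i p hp hpt q hq hqu e
    have e1 : q⁻¹ = f ^ i * p := (eq_inv_of_mul_eq_one_left e).symm
    have e2 : q = f ^ i * p⁻¹ := by
      have := congrArg (fun a => z * a * z) e1
      simp only [invol_conj_inv_map h.zz, inv_u q hq hqu, inv_inv, invol_conj_mul_map h.zz, hzfi,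
        inv_t p hp hpt] at this
      exact this
    have h2 : f ^ i * f ^ i = 1 := by
      have := inv_mul_cancel q
      rw [e1] at this
      nth_rw 1 [e2] at this
      rwa [show f ^ i * p * (f ^ i * p⁻¹) = f ^ i * (p * f ^ i) * p⁻¹ by group, ← (hfcen p hp i).eq,
        show f ^ i * (f ^ i * p) * p⁻¹ = f ^ i * f ^ i by group] at this
    have hi : f ^ i = 1 := eq_one_of_odd_of_mul_self
      ((show Odd (orderOf f) by rw [hf]; decide).of_dvd_nat (orderOf_pow_dvd i)) h2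
    rw [hi, one_mul] at e2
    have hpu : p * u = u * p := by
      have := ((show Commute q u from hqu).inv_left).eq
      rwa [e2, inv_inv] at this
    have hp1 := hnofix p hp hpt (by
      have : Commute p (t * u) := (show Commute p t from hpt).mul_right hpu
      rw [hu, ← mul_assoc, ht.1, one_mul] at this
      exact this.eq)
    exact ⟨hi, hp1, by rw [e2, hp1, inv_one]⟩
  refine ⟨O, ⟨hmem, hLO, ?_, hfix, inv_t, inv_u,
    h.odd_dvd_five ht _ inf_le_right (fun a ha => hodd a ha.1) fun a ha => hno3 a ha.1,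
    h.odd_dvd_five ⟨huu, hu1⟩ _ inf_le_right (fun a ha => hodd a ha.1) fun a ha => hno3 a ha.1,
    ?_, hrep, huniq, twist⟩⟩
  · intro c hc hcO
    have hzO' : z ∉ O := fun hm => by
      have := hodd z hm
      rw [h.inv] at this
      exact absurd this (by decide)
    have hi : (O.subgroupOf L).index = 2 := by
      have e := (O.subgroupOf L).card_mul_index
      rw [Nat.card_congr (subgroupOfEquivOfLe hOL).toEquiv, hLO, mul_comm 2] at e
      exact Nat.eq_of_mul_eq_mul_left Nat.card_pos e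
    have := (mul_mem_iff_of_index_two hi (a := (⟨z, mem_centralizer_singleton_iff.2 hzf⟩ : L))
      (b := ⟨c, hc⟩))
    rw [mem_subgroupOf, mem_subgroupOf, mem_subgroupOf] at this
    exact this.2 (iff_of_false hzO' hcO)
  · rw [show (5 : ℕ) = Nat.card (zpowers f) by rw [Nat.card_zpowers, hf], ← Nat.card_prod, ← Nat.card_prod]
    refine (Nat.card_eq_of_bijective (fun s : (zpowers f × (O ⊓ centralizer ({t} : Set G) : Subgroup G)) ×
        (O ⊓ centralizer ({u} : Set G) : Subgroup G) =>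
      (⟨s.1.1.1 * s.1.2.1 * s.2.1, mul_mem (mul_mem (zpowers_le.2 hfO s.1.1.2) s.1.2.2.1) s.2.2.1⟩ : O)) ⟨?_, ?_⟩).symm
    · rintro ⟨⟨⟨c, hc⟩, ⟨p, hp⟩⟩, ⟨q, hq⟩⟩ ⟨⟨⟨c', hc'⟩, ⟨p', hp'⟩⟩, ⟨q', hq'⟩⟩ e
      replace e : c * p * q = c' * p' * q' := congrArg Subtype.val e
      obtain ⟨i, hi⟩ := hfi (c'⁻¹ * c) (mul_mem (inv_mem hc') hc)
      obtain ⟨e1, e2, e3⟩ := huniq i (p'⁻¹ * p) (mul_mem (inv_mem hp'.1) hp.1)
        (mem_centralizer_singleton_iff.1 (mul_mem (inv_mem hp'.2) hp.2)) (q * q'⁻¹)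
        (mul_mem hq.1 (inv_mem hq'.1)) (mem_centralizer_singleton_iff.1 (mul_mem hq.2 (inv_mem hq'.2))) (by
          rw [show f ^ i * (p'⁻¹ * p) * (q * q'⁻¹) = f ^ i * p'⁻¹ * (p * q) * q'⁻¹ by group,
            (hfcen _ (inv_mem hp'.1) i).eq, hi,
            show p'⁻¹ * (c'⁻¹ * c) * (p * q) * q'⁻¹ = p'⁻¹ * c'⁻¹ * (c * p * q) * q'⁻¹ by group, e]
          group)
      rw [hi] at e1
      obtain rfl : c' = c := inv_mul_eq_one.1 e1
      obtain rfl : p' = p := inv_mul_eq_one.1 e2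
      obtain rfl : q = q' := mul_inv_eq_one.1 e3
      rfl
    · rintro ⟨a, ha⟩
      obtain ⟨i, p, hp, hpt, q, hq, hqu, rfl⟩ := hrep a ha
      exact ⟨⟨⟨⟨_, npow_mem_zpowers f i⟩, ⟨p, hp, mem_centralizer_singleton_iff.2 hpt⟩⟩,
        ⟨q, hq, mem_centralizer_singleton_iff.2 hqu⟩⟩, rfl⟩

theorem card_five_cent {f f' : G} (hfC : f ∈ centralizer ({z} : Set G)) (hf : orderOf f = 5)
    (hf'C : f' ∈ centralizer ({z} : Set G)) (hf' : orderOf f' = 5) :
    Nat.card (centralizer ({f} : Set G)) = Nat.card (centralizer ({f'} : Set G)) := by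
  haveI : Fact (Nat.Prime 5) := ⟨Nat.prime_five⟩
  obtain ⟨c, -, hc⟩ := h.exists_conj_odd (Or.inr rfl) hfC hf hf'C hf'
  rw [← centralizer_of_zpowers_eq hc, JTwo.card_centralizer_conj]

/-- The inverters of `f` are the conjugates of `t` and `tz`. -/
theorem inverter_cases {f t w : G} (hfC : f ∈ centralizer ({z} : Set G)) (hf : orderOf f = 5) (ht : IsI t)
    (htC : t ∈ centralizer ({z} : Set G)) (htf : t * f * t = f⁻¹) (hw : IsI w)
    (hwC : w ∈ centralizer ({z} : Set G)) (hwf : w * f * w = f⁻¹) :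
    ∃ k : ℕ, f ^ k * t * (f ^ k)⁻¹ = w ∨ f ^ k * (t * z) * (f ^ k)⁻¹ = w := by
  classical
  have hout : ∀ x, IsI x → x ∈ centralizer ({z} : Set G) → x * f * x = f⁻¹ → Out z Q x := fun x hx hxC hxf => by
    refine ⟨hxC, fun hq => ?_, hx.1⟩
    have hm : x * (f * x * f⁻¹) ∈ Q := mul_mem hq (h.nrm f hfC x hq)
    rw [show x * (f * x * f⁻¹) = x * f * x * f⁻¹ by group, hxf, ← _root_.mul_inv_rev] at hm
    have hd := orderOf_dvd_natCard Q (inv_mem_iff.1 hm)
    rw [h.card, ← pow_two, Nat.Coprime.orderOf_pow (by rw [hf]; norm_num), hf] at hd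
    norm_num at hd
  have htz : t * z = z * t := mem_centralizer_singleton_iff.1 htC
  have hfz : f * z = z * f := mem_centralizer_singleton_iff.1 hfC
  have huf : t * z * f * (t * z) = f⁻¹ := by
    calc t * z * f * (t * z) = t * (z * f * z) * t := by nth_rw 2 [htz]; group
      _ = f⁻¹ := by rw [(invol_fix_iff h.zz f).2 hfz.symm, htf]
  have hu : IsI (t * z) := by
    refine ⟨by rw [mul_assoc, ← mul_assoc z, ← htz, mul_assoc t z z, h.zz, mul_one, ht.1], fun e => ?_⟩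
    rw [e, one_mul, mul_one] at huf
    have := eq_one_of_odd_of_mul_self (show Odd (orderOf f) by rw [hf]; decide) (by
      nth_rw 2 [huf]; exact mul_inv_cancel f)
    rw [this, orderOf_one] at hf
    norm_num at hf
  have huC : t * z ∈ centralizer ({z} : Set G) := mul_mem htC h.z_mem_C
  have hconj : ∀ (x : G), x * f * x = f⁻¹ → ∀ k : ℕ, f ^ k * x * (f ^ k)⁻¹ * f * (f ^ k * x * (f ^ k)⁻¹) = f⁻¹ := by
    intro x hx k
    have := inverts_conj (f ^ k) hx
    rwa [(Commute.pow_self f k).eq, mul_inv_cancel_right] at this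
  let φ : Bool × Fin 5 → {x : G // Out z Q x ∧ x * f * x = f⁻¹} := fun s =>
    ⟨f ^ (s.2 : ℕ) * (if s.1 then t * z else t) * (f ^ (s.2 : ℕ))⁻¹, by
      cases s.1
      · exact ⟨hout _ (isI_conj _ ht) (mul_mem (mul_mem (pow_mem hfC _) htC) (inv_mem (pow_mem hfC _)))
          (hconj t htf _), hconj t htf _⟩
      · exact ⟨hout _ (isI_conj _ hu) (mul_mem (mul_mem (pow_mem hfC _) huC) (inv_mem (pow_mem hfC _)))
          (hconj _ huf _), hconj _ huf _⟩⟩
  have hφ : Function.Injective φ := by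
    rintro ⟨a, i⟩ ⟨b, j⟩ e
    replace e : f ^ (i : ℕ) * (if a then t * z else t) * (f ^ (i : ℕ))⁻¹ =
      f ^ (j : ℕ) * (if b then t * z else t) * (f ^ (j : ℕ))⁻¹ := congrArg Subtype.val e
    have hcr : ∀ k : ℕ, t * f ^ k = (f ^ k)⁻¹ * t := fun k => by
      rw [← inv_pow_inv ht.1 htf k, mul_assoc (t * f ^ k), ht.1, mul_one]
    have hsame : ∀ x : G, (∀ k : ℕ, x * f ^ k = (f ^ k)⁻¹ * x) → ∀ i j : Fin 5,
        f ^ (i : ℕ) * x * (f ^ (i : ℕ))⁻¹ = f ^ (j : ℕ) * x * (f ^ (j : ℕ))⁻¹ → i = j := by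
      intro x hx i j e
      have h1 : ∀ k : ℕ, f ^ k * x * (f ^ k)⁻¹ = f ^ (2 * k) * x := fun k => by
        have := hx k
        calc f ^ k * x * (f ^ k)⁻¹ = f ^ k * (x * f ^ k) * ((f ^ k)⁻¹ * (f ^ k)⁻¹) := by group
          _ = f ^ k * ((f ^ k)⁻¹ * x) * ((f ^ k)⁻¹ * (f ^ k)⁻¹) := by rw [this]
          _ = f ^ (2 * k) * x := by
            have h2 : x * ((f ^ k)⁻¹ * (f ^ k)⁻¹) = f ^ (2 * k) * x := by
              have := hx (2 * k)
              rw [two_mul, pow_add] at this ⊢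
              calc x * ((f ^ k)⁻¹ * (f ^ k)⁻¹) = f ^ k * f ^ k * ((f ^ k * f ^ k)⁻¹ * x) * ((f ^ k)⁻¹ * (f ^ k)⁻¹) := by group
                _ = f ^ k * f ^ k * x := by rw [← this]; group
            rw [← h2]; group
      rw [h1, h1] at e
      have e' := mul_right_cancel e
      rw [pow_inj_mod, hf] at e'
      have := i.2
      have := j.2
      exact Fin.ext (by omega)
    have hcr2 : ∀ k : ℕ, t * z * f ^ k = (f ^ k)⁻¹ * (t * z) := fun k => by
      rw [mul_assoc, ((show Commute z f from hfz.symm).pow_right k).eq, ← mul_assoc, hcr, mul_assoc]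
    have hmix : ∀ i j : Fin 5, f ^ (i : ℕ) * (t * z) * (f ^ (i : ℕ))⁻¹ ≠ f ^ (j : ℕ) * t * (f ^ (j : ℕ))⁻¹ := by
      intro i j e
      have hz : z ∈ zpowers f := by
        have e1 : z = t * ((f ^ (i : ℕ))⁻¹ * (f ^ (j : ℕ) * t * (f ^ (j : ℕ))⁻¹) * f ^ (i : ℕ)) := by
          rw [← e, show t * ((f ^ (i : ℕ))⁻¹ * (f ^ (i : ℕ) * (t * z) * (f ^ (i : ℕ))⁻¹) * f ^ (i : ℕ)) =
            t * t * z by group, ht.1, one_mul]
        rw [e1, show t * ((f ^ (i : ℕ))⁻¹ * (f ^ (j : ℕ) * t * (f ^ (j : ℕ))⁻¹) * f ^ (i : ℕ)) =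
          t * ((f ^ (i : ℕ))⁻¹ * f ^ (j : ℕ)) * t * ((f ^ (j : ℕ))⁻¹ * f ^ (i : ℕ)) by group,
          invol_conj_mul_map ht.1, invol_conj_inv_map ht.1, inv_pow_inv ht.1 htf, inv_pow_inv ht.1 htf]
        exact mul_mem (mul_mem (inv_mem (inv_mem (npow_mem_zpowers f _))) (inv_mem (npow_mem_zpowers f _)))
          (mul_mem (inv_mem (npow_mem_zpowers f _)) (npow_mem_zpowers f _))
      have hd := orderOf_dvd_of_mem_zpowers hz
      rw [h.inv, hf] at hd
      norm_num at hd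
    cases a <;> cases b <;> simp only [if_true, if_false, Bool.false_eq_true] at e
    · rw [hsame t hcr i j e]
    · exact absurd e.symm (hmix j i)
    · exact absurd e (hmix i j)
    · rw [hsame _ hcr2 i j e]
  obtain ⟨⟨b, k⟩, hk⟩ := ((Nat.bijective_iff_injective_and_card φ).2 ⟨hφ, by
    rw [h.card_inverters_five hfC hf (hout t ht htC htf) htf, Nat.card_prod, Nat.card_fin]; simp⟩).2
    ⟨w, hout w hw hwC hwf, hwf⟩
  refine ⟨k, ?_⟩
  have e := congrArg Subtype.val hk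
  cases b
  · exact Or.inl e
  · exact Or.inr e

/-- Moving a fixed point of an inverter to `f`. -/
theorem move_pair {f t p : G} {O : Subgroup G} (hfC : f ∈ centralizer ({z} : Set G)) (hf : orderOf f = 5)
    (ht : IsI t) (htC : t ∈ centralizer ({z} : Set G)) (htf : t * f * t = f⁻¹) (hp : orderOf p = 5)
    (hpt : p * t = t * p) (hzp : z * p * z = p⁻¹) (hOm : ∀ a, a ∈ O ↔ a * f = f * a ∧ Odd (orderOf a))
    (hOp : ∀ a, a ∈ O ↔ a * p = p * a ∧ Odd (orderOf a)) :
    ∃ g : G, g * t * g⁻¹ = z ∧ (∀ a ∈ O, g * a * g⁻¹ ∈ O) ∧ (g * z * g⁻¹ = t ∨ g * z * g⁻¹ = t * z) := by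
  haveI : Fact (Nat.Prime 5) := ⟨Nat.prime_five⟩
  obtain ⟨g0, hg0⟩ := h.exists_conj ht
  have hp0 : g0⁻¹ * p * g0 ∈ centralizer ({z} : Set G) := mem_centralizer_singleton_iff.2 (by
    calc g0⁻¹ * p * g0 * z = g0⁻¹ * (p * (g0 * z * g0⁻¹)) * g0 := by group
      _ = g0⁻¹ * (g0 * z * g0⁻¹ * p) * g0 := by rw [hg0, hpt]
      _ = z * (g0⁻¹ * p * g0) := by group)
  have hp0o : orderOf (g0⁻¹ * p * g0) = 5 := by
    rw [show g0⁻¹ * p * g0 = g0⁻¹ * p * g0⁻¹⁻¹ by group, ← MulAut.conj_apply, MulEquiv.orderOf_eq, hp]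
  obtain ⟨c, hc, hcz⟩ := h.exists_conj_odd (Or.inr rfl) hp0 hp0o hfC hf
  set g1 := c * g0⁻¹ with hg1
  have e1 : g1 * t * g1⁻¹ = z := by
    rw [hg1, show c * g0⁻¹ * t * (c * g0⁻¹)⁻¹ = c * (g0⁻¹ * t * g0) * c⁻¹ by group,
      show g0⁻¹ * t * g0 = z by rw [← hg0]; group, mem_centralizer_singleton_iff.1 hc, mul_inv_cancel_right]
  have e2 : zpowers (g1 * p * g1⁻¹) = zpowers f := by
    rw [← hcz, hg1]; congr 1; group
  have hO : ∀ a ∈ O, g1 * a * g1⁻¹ ∈ O := fun a ha => by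
    refine (hOm _).2 ⟨?_, ?_⟩
    · have hm : g1 * a * g1⁻¹ ∈ centralizer ({g1 * p * g1⁻¹} : Set G) := mem_centralizer_singleton_iff.2 (by
        rw [show g1 * a * g1⁻¹ * (g1 * p * g1⁻¹) = g1 * (a * p) * g1⁻¹ by group, ((hOp a).1 ha).1]; group)
      rw [centralizer_of_zpowers_eq e2] at hm
      exact mem_centralizer_singleton_iff.1 hm
    · rw [← MulAut.conj_apply, MulEquiv.orderOf_eq]; exact ((hOp a).1 ha).2
  have hw : IsI (g1 * z * g1⁻¹) := isI_conj g1 h.isI
  have hwC : g1 * z * g1⁻¹ ∈ centralizer ({z} : Set G) := mem_centralizer_singleton_iff.2 (by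
    calc g1 * z * g1⁻¹ * z = g1 * z * g1⁻¹ * (g1 * t * g1⁻¹) := by rw [e1]
      _ = g1 * (z * t) * g1⁻¹ := by group
      _ = g1 * (t * z) * g1⁻¹ := by rw [← mem_centralizer_singleton_iff.1 htC]
      _ = g1 * t * g1⁻¹ * (g1 * z * g1⁻¹) := by group
      _ = z * (g1 * z * g1⁻¹) := by rw [e1])
  have hwf : g1 * z * g1⁻¹ * f * (g1 * z * g1⁻¹) = f⁻¹ := by
    obtain ⟨n, hn⟩ := mem_zpowers_iff.1 (e2.ge (mem_zpowers f))
    have h1 := inverts_conj g1 hzp
    have hwi : (g1 * z * g1⁻¹)⁻¹ = g1 * z * g1⁻¹ := inv_eq_of_mul_eq_one_right hw.1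
    have h2 := conj_zpow_of_inverts (show g1 * z * g1⁻¹ * (g1 * p * g1⁻¹) * (g1 * z * g1⁻¹)⁻¹ = (g1 * p * g1⁻¹)⁻¹ by
      rw [hwi]; exact h1) n
    rwa [hwi, zpow_neg, hn] at h2
  obtain ⟨k, hk⟩ := h.inverter_cases hfC hf ht htC htf hw hwC hwf
  have hkO : ∀ a ∈ O, (f ^ k)⁻¹ * a * f ^ k = a := fun a ha => by
    rw [mul_assoc, ((show Commute a f from ((hOm a).1 ha).1).pow_right k).eq, inv_mul_cancel_left]
  refine ⟨(f ^ k)⁻¹ * g1, ?_, fun a ha => ?_, ?_⟩
  · rw [show (f ^ k)⁻¹ * g1 * t * ((f ^ k)⁻¹ * g1)⁻¹ = (f ^ k)⁻¹ * (g1 * t * g1⁻¹) * f ^ k by group, e1, mul_assoc,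
      ((show Commute z f from (mem_centralizer_singleton_iff.1 hfC).symm).pow_right k).eq, inv_mul_cancel_left]
  · rw [show (f ^ k)⁻¹ * g1 * a * ((f ^ k)⁻¹ * g1)⁻¹ = (f ^ k)⁻¹ * (g1 * a * g1⁻¹) * f ^ k by group, hkO _ (hO a ha)]
    exact hO a ha
  · rcases hk with e | e
    · left
      rw [show (f ^ k)⁻¹ * g1 * z * ((f ^ k)⁻¹ * g1)⁻¹ = (f ^ k)⁻¹ * (g1 * z * g1⁻¹) * f ^ k by group, ← e]; group
    · right
      rw [show (f ^ k)⁻¹ * g1 * z * ((f ^ k)⁻¹ * g1)⁻¹ = (f ^ k)⁻¹ * (g1 * z * g1⁻¹) * f ^ k by group, ← e]; group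

end Small

end CfsgLib.Invol.JThreeType
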