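import Cfsg.Agent.Lib.Invol.JThreeType.SmallFive

/-!
# In the small case not both inverters have fixed points

If both `t` and `tz` had fixed points `p` and `q` in the odd part `O` of the centralizer of `f`, then either `O`
is abelian and an element of order three permutes the three lines, hence commutes with an element of order five,
or an element of order four of the centralizer of `tz` commutes with `q`.
-/

set_option autoImplicit false
set_option synthInstance.maxSize 4096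

namespace CfsgLib.Invol.JThreeType

open Subgroup
open CfsgLib.Invol.JTwo (PreHyp Frame Out cj mem_cj card_orbit_mul centralizer_of_zpowers_eq)

variable {G : Type*} [Group G] [Finite G] {z : G} {Q : Subgroup G}

/-- The generator of a subgroup whose order divides five. -/
theorem exists_gen_five {D : Subgroup G} (hD : Nat.card D = 5) : ∃ p ∈ D, orderOf p = 5 ∧ D = zpowers p := by
  haveI : Fact (Nat.Prime 5) := ⟨Nat.prime_five⟩
  obtain ⟨p, hp⟩ := exists_prime_orderOf_dvd_card' (G := D) 5 (by rw [hD])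
  rw [← Subgroup.orderOf_coe] at hp
  exact ⟨p, p.2, hp, (eq_of_le_of_card_ge (zpowers_le.2 p.2) (by rw [Nat.card_zpowers, hp, hD])).symm⟩

/-- Conjugation by the inverse of a finite-order element preserves an invariant set. -/
theorem inv_stable {g : G} {O : Subgroup G} (hg : ∀ a ∈ O, g * a * g⁻¹ ∈ O) :
    ∀ a ∈ O, g⁻¹ * a * g⁻¹⁻¹ ∈ O := by
  have key : ∀ n : ℕ, ∀ a ∈ O, g ^ n * a * (g ^ n)⁻¹ ∈ O := by
    intro n
    induction n with
    | zero => intro a ha; simpa using ha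
    | succ n ih =>
      intro a ha
      rw [show g ^ (n + 1) * a * (g ^ (n + 1))⁻¹ = g * (g ^ n * a * (g ^ n)⁻¹) * g⁻¹ by rw [pow_succ']; group]
      exact hg _ (ih a ha)
  intro a ha
  obtain ⟨n, hn⟩ := (isOfFinOrder_of_finite g).mem_powers_iff_mem_zpowers.2 (inv_mem (mem_zpowers g))
  have hn' : g ^ n = g⁻¹ := hn
  rw [← hn']
  exact key n a ha

namespace Small

variable (h : Small z Q)
include h

theorem out_of_inverts {f t : G} (hfC : f ∈ centralizer ({z} : Set G)) (hf : orderOf f = 5) (ht : IsI t)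
    (htC : t ∈ centralizer ({z} : Set G)) (htf : t * f * t = f⁻¹) : Out z Q t := by
  refine ⟨htC, fun hq => ?_, ht.1⟩
  have hm : t * (f * t * f⁻¹) ∈ Q := mul_mem hq (h.nrm f hfC t hq)
  rw [show t * (f * t * f⁻¹) = t * f * t * f⁻¹ by group, htf, ← _root_.mul_inv_rev] at hm
  have hd := orderOf_dvd_natCard Q (inv_mem_iff.1 hm)
  rw [h.card, ← pow_two, Nat.Coprime.orderOf_pow (by rw [hf]; norm_num), hf] at hd
  norm_num at hd

/-- The case of an abelian odd part. -/
theorem not_abelian {f t p q : G} {O : Subgroup G} (hfC : f ∈ centralizer ({z} : Set G)) (hf : orderOf f = 5)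
    (ht : IsI t) (htC : t ∈ centralizer ({z} : Set G)) (htf : t * f * t = f⁻¹) (S : Split z f t O)
    (hp : orderOf p = 5) (hpO : p ∈ O) (hpt : p * t = t * p) (hq : orderOf q = 5) (hqO : q ∈ O)
    (hqu : q * (t * z) = t * z * q) (hOp : ∀ a, a ∈ O ↔ a * p = p * a ∧ Odd (orderOf a))
    (hOq : ∀ a, a ∈ O ↔ a * q = q * a ∧ Odd (orderOf a))
    (hab : ∀ a ∈ O, ∀ b ∈ O, a * b = b * a) (he5 : ∀ a ∈ O, a ^ 5 = 1) : False := by
  haveI : Fact (Nat.Prime 3) := ⟨Nat.prime_three⟩
  haveI : Fact (Nat.Prime 5) := ⟨Nat.prime_five⟩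
  have hfz : f * z = z * f := mem_centralizer_singleton_iff.1 hfC
  have htz : t * z = z * t := mem_centralizer_singleton_iff.1 htC
  have hout := h.out_of_inverts hfC hf ht htC htf
  have hu : IsI (t * z) := by
    refine ⟨by rw [mul_assoc, ← mul_assoc z, ← htz, mul_assoc t z z, h.zz, mul_one, ht.1], fun e => ?_⟩
    exact h.out_ne_z hout (by rw [eq_inv_of_mul_eq_one_left e, inv_eq_of_mul_eq_one_right h.zz])
  have huC : t * z ∈ centralizer ({z} : Set G) := mul_mem htC h.z_mem_C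
  have huf : t * z * f * (t * z) = f⁻¹ := by
    calc t * z * f * (t * z) = t * (z * f * z) * t := by nth_rw 2 [htz]; group
      _ = f⁻¹ := by rw [(invol_fix_iff h.zz f).2 hfz.symm, htf]
  obtain ⟨g2, a1, a2, a3⟩ := h.move_pair hfC hf ht htC htf hp hpt (S.inv_t p hpO hpt) S.mem hOp
  obtain ⟨g3, b1, b2, b3⟩ := h.move_pair hfC hf hu huC huf hq hqu (S.inv_u q hqO hqu) S.mem hOq
  rw [mul_assoc t z z, h.zz, mul_one] at b3
  have hprod : ∀ g a b : G, g * (a * b) * g⁻¹ = g * a * g⁻¹ * (g * b * g⁻¹) := fun g a b => by group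
  have hmul : ∀ g a b c : G, g * a * g⁻¹ = b → g⁻¹ * b * g⁻¹⁻¹ = c → c = a := fun g a b c e e' => by
    rw [← e', ← e]; group
  obtain ⟨s, s1, s2, s3⟩ : ∃ s : G, s * z * s⁻¹ = t ∧ s * t * s⁻¹ = t * z ∧ ∀ a ∈ O, s * a * s⁻¹ ∈ O := by
    have hzt : z * t = t * z := htz.symm
    have inv_case : ∀ g : G, g * t * g⁻¹ = z → g * z * g⁻¹ = t * z → (∀ a ∈ O, g * a * g⁻¹ ∈ O) →
        ∃ s : G, s * z * s⁻¹ = t ∧ s * t * s⁻¹ = t * z ∧ ∀ a ∈ O, s * a * s⁻¹ ∈ O := fun g e1 e2 e3 => by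
      refine ⟨g⁻¹, ?_, ?_, inv_stable e3⟩
      · rw [← e1]; group
      · have e4 : g * (t * z) * g⁻¹ = t := by
          rw [hprod, e1, e2, ← mul_assoc, hzt, mul_assoc, h.zz, mul_one]
        nth_rw 1 [← e4]
        group
    rcases a3 with a3 | a3
    swap
    · exact inv_case g2 a1 a3 a2
    rcases b3 with b3 | b3
    swap
    · refine ⟨g3, b3, ?_, b2⟩
      have e4 : t = t * z * z := by rw [mul_assoc, h.zz, mul_one]
      nth_rw 1 [e4]
      rw [hprod, b1, b3, hzt]
    · refine inv_case (g2 * g3) ?_ ?_ fun a ha => ?_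
      · have e4 : g3 * t * g3⁻¹ = t := by
          rw [show g3 * t * g3⁻¹ = g3 * (t * z * z) * g3⁻¹ by rw [mul_assoc t z z, h.zz, mul_one], hprod, b1, b3,
            ← mul_assoc, hzt, mul_assoc, h.zz, mul_one]
        rw [show g2 * g3 * t * (g2 * g3)⁻¹ = g2 * (g3 * t * g3⁻¹) * g2⁻¹ by group, e4, a1]
      · rw [show g2 * g3 * z * (g2 * g3)⁻¹ = g2 * (g3 * z * g3⁻¹) * g2⁻¹ by group, b3, hprod, a1, a3, hzt]
      · rw [show g2 * g3 * a * (g2 * g3)⁻¹ = g2 * (g3 * a * g3⁻¹) * g2⁻¹ by group]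
        exact a2 _ (b2 a ha)
  have s4 : s * (t * z) * s⁻¹ = z := by
    rw [hprod, s1, s2, htz, mul_assoc, ht.1, mul_one]
  have hs3z : s ^ 3 ∈ centralizer ({z} : Set G) ⊓ centralizer ({t} : Set G) := by
    refine ⟨mem_centralizer_singleton_iff.2 (mul_inv_eq_iff_eq_mul.1 ?_),
      mem_centralizer_singleton_iff.2 (mul_inv_eq_iff_eq_mul.1 ?_)⟩
    · rw [show s ^ 3 * z * (s ^ 3)⁻¹ = s * (s * (s * z * s⁻¹) * s⁻¹) * s⁻¹ by
        rw [pow_succ, pow_two]; group, s1, s2, s4]
    · rw [show s ^ 3 * t * (s ^ 3)⁻¹ = s * (s * (s * t * s⁻¹) * s⁻¹) * s⁻¹ by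
        rw [pow_succ, pow_two]; group, s2, s4, s1]
  have h48 : s ^ 48 = 1 := by
    have := orderOf_dvd_natCard _ hs3z
    rw [(h.outer_class hout).1] at this
    rw [show 48 = 3 * 16 by norm_num, pow_mul]
    exact orderOf_dvd_iff_pow_eq_one.1 this
  set b := s ^ 16 with hb
  have hb16 : b = (s ^ 3) ^ 5 * s := by rw [hb, ← pow_mul, ← pow_succ]
  have h5z : (s ^ 3) ^ 5 ∈ centralizer ({z} : Set G) ⊓ centralizer ({t} : Set G) := pow_mem hs3z 5
  have hbz : b * z * b⁻¹ = t := by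
    rw [hb16, show (s ^ 3) ^ 5 * s * z * ((s ^ 3) ^ 5 * s)⁻¹ = (s ^ 3) ^ 5 * (s * z * s⁻¹) * ((s ^ 3) ^ 5)⁻¹ by group,
      s1, mem_centralizer_singleton_iff.1 h5z.2, mul_inv_cancel_right]
  have hbt : b * t * b⁻¹ = t * z := by
    rw [hb16, show (s ^ 3) ^ 5 * s * t * ((s ^ 3) ^ 5 * s)⁻¹ = (s ^ 3) ^ 5 * (s * t * s⁻¹) * ((s ^ 3) ^ 5)⁻¹ by group,
      s2, ((show Commute ((s ^ 3) ^ 5) t from mem_centralizer_singleton_iff.1 h5z.2).mul_right
        (show Commute ((s ^ 3) ^ 5) z from mem_centralizer_singleton_iff.1 h5z.1)).eq, mul_inv_cancel_right]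
  have hbO : ∀ a ∈ O, b * a * b⁻¹ ∈ O := by
    intro a ha
    have key : ∀ n : ℕ, s ^ n * a * (s ^ n)⁻¹ ∈ O := by
      intro n
      induction n with
      | zero => simpa using ha
      | succ n ih =>
        rw [show s ^ (n + 1) * a * (s ^ (n + 1))⁻¹ = s * (s ^ n * a * (s ^ n)⁻¹) * s⁻¹ by rw [pow_succ']; group]
        exact s3 _ ih
    exact key 16
  have hb3 : b ^ 3 = 1 := by rw [hb, ← pow_mul]; exact h48
  have hb1 : b ≠ 1 := fun e => h.out_ne_z hout (by rw [e, one_mul, inv_one, mul_one] at hbz; exact hbz.symm)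
  have hfO : f ∈ O := (S.mem f).2 ⟨rfl, by rw [hf]; decide⟩
  set p1 := b * f * b⁻¹ with hp1
  set q1 := b * p1 * b⁻¹ with hq1
  have hp1O : p1 ∈ O := hbO f hfO
  have hq1O : q1 ∈ O := hbO p1 hp1O
  have hp1t : p1 * t = t * p1 := by
    rw [← hbz, hp1, show b * f * b⁻¹ * (b * z * b⁻¹) = b * (f * z) * b⁻¹ by group, hfz]; group
  have hq1u : q1 * (t * z) = t * z * q1 := by
    rw [← hbt, hq1, show b * p1 * b⁻¹ * (b * t * b⁻¹) = b * (p1 * t) * b⁻¹ by group, hp1t]; group
  have hq1f : b * q1 * b⁻¹ = f := by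
    rw [hq1, hp1, show b * (b * (b * f * b⁻¹) * b⁻¹) * b⁻¹ = b ^ 3 * f * (b ^ 3)⁻¹ by
      rw [pow_succ, pow_two]; group, hb3, one_mul, inv_one, mul_one]
  set w := f * p1 * q1 with hw
  have hwO : w ∈ O := mul_mem (mul_mem hfO hp1O) hq1O
  have hw1 : w ≠ 1 := fun e => by
    have := (S.uniq 1 p1 hp1O hp1t q1 hq1O hq1u (by rw [pow_one]; exact e)).1
    rw [pow_one] at this
    rw [this, orderOf_one] at hf
    norm_num at hf
  have hwb : b * w * b⁻¹ = w := by
    rw [hw, hprod, hprod, hq1f]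
    exact (hab _ (mul_mem hp1O hq1O) _ hfO).trans (mul_assoc f p1 q1).symm
  exact h.no_three_five (orderOf_eq_prime hb3 hb1) (orderOf_eq_prime (he5 w hwO) hw1)
    (mul_inv_eq_iff_eq_mul.1 hwb).symm

/-- The case of a nonabelian odd part. -/
theorem not_nonabelian {f t p q q' : G} {O O' : Subgroup G} (hfC : f ∈ centralizer ({z} : Set G))
    (hf : orderOf f = 5) (ht : IsI t) (htC : t ∈ centralizer ({z} : Set G)) (htf : t * f * t = f⁻¹)
    (S : Split z f t O) (hp : orderOf p = 5) (hpO : p ∈ O) (hpt : p * t = t * p) (hq : orderOf q = 5) (hqO : q ∈ O)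
    (hqu : q * (t * z) = t * z * q) (hgen : O ⊓ centralizer ({t * z} : Set G) = zpowers q)
    (S' : Split t p z O') (hq' : orderOf q' = 5) (hq'O : q' ∈ O') (hq'u : q' * (t * z) = t * z * q')
    (hne : q * p ≠ p * q) : False := by
  haveI : Fact (Nat.Prime 2) := ⟨Nat.prime_two⟩
  haveI : Fact (Nat.Prime 5) := ⟨Nat.prime_five⟩
  have hfz : f * z = z * f := mem_centralizer_singleton_iff.1 hfC
  have htz : t * z = z * t := mem_centralizer_singleton_iff.1 htC
  have hout := h.out_of_inverts hfC hf ht htC htf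
  set u := t * z with hudef
  have hu : IsI u := by
    refine ⟨by rw [hudef, mul_assoc, ← mul_assoc z, ← htz, mul_assoc t z z, h.zz, mul_one, ht.1], fun e => ?_⟩
    exact h.out_ne_z hout (by rw [eq_inv_of_mul_eq_one_left e, inv_eq_of_mul_eq_one_right h.zz])
  have hfO : f ∈ O := (S.mem f).2 ⟨rfl, by rw [hf]; decide⟩
  have hpf : Commute p f := ((S.mem p).1 hpO).1
  have hqf : Commute q f := ((S.mem q).1 hqO).1
  have hzp : z * p * z = p⁻¹ := S.inv_t p hpO hpt
  have hzq : z * q * z = q⁻¹ := S.inv_u q hqO hqu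
  have hfO' : f ∈ O' := (S'.mem f).2 ⟨hpf.eq.symm, by rw [hf]; decide⟩
  have htq' : t * q' * t = q'⁻¹ := S'.inv_u q' hq'O (by rw [← htz]; exact hq'u)
  obtain ⟨a, ha⟩ := S.twist q p hqO hpO hzq hzp
  obtain ⟨b, hb⟩ := S'.twist q' f hq'O hfO' htq' htf
  have hf5 : f ^ 5 = 1 := orderOf_dvd_iff_pow_eq_one.1 hf.dvd
  have hp5 : p ^ 5 = 1 := orderOf_dvd_iff_pow_eq_one.1 hp.dvd
  have ha0 : a % 5 ≠ 0 := fun e => hne (by
    rw [ha, ← pow_mod_orderOf f a, hf, e, pow_zero, one_mul])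
  have hb0 : b % 5 ≠ 0 := fun e => by
    rw [← pow_mod_orderOf p b, hp, e, pow_zero, one_mul] at hb
    have hmem : q' ∈ O ⊓ centralizer ({u} : Set G) :=
      ⟨(S.mem q').2 ⟨hb, by rw [hq']; decide⟩, mem_centralizer_singleton_iff.2 hq'u⟩
    rw [hgen] at hmem
    have e2 : zpowers q' = zpowers q := eq_of_le_of_card_ge (zpowers_le.2 hmem) (by
      rw [Nat.card_zpowers, Nat.card_zpowers, hq, hq'])
    obtain ⟨n, hn⟩ := mem_zpowers_iff.1 (e2.ge (mem_zpowers q))
    exact hne (by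
      rw [← hn]
      exact ((show Commute q' p from ((S'.mem q').1 hq'O).1).zpow_left n).eq)
  -- the elements of the plane
  let v : ℤ → ℤ → G := fun x y => f ^ x * p ^ y
  have hvm : ∀ x y x' y', v x y * v x' y' = v (x + x') (y + y') := fun x y x' y' => by
    show f ^ x * p ^ y * (f ^ x' * p ^ y') = f ^ (x + x') * p ^ (y + y')
    rw [zpow_add, zpow_add, mul_assoc (f ^ x), ← mul_assoc (p ^ y), ((hpf.zpow_left y).zpow_right x').eq]
    group
  have hred : ∀ x y k l, v (x + 5 * k) (y + 5 * l) = v x y := fun x y k l => by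
    show f ^ (x + 5 * k) * p ^ (y + 5 * l) = f ^ x * p ^ y
    rw [zpow_add, zpow_add, zpow_mul, zpow_mul, show (5 : ℤ) = ((5 : ℕ) : ℤ) by norm_num, zpow_natCast, zpow_natCast,
      hf5, hp5, one_zpow, one_zpow, mul_one, mul_one]
  have hqact : ∀ x y, q * v x y * q⁻¹ = v (x + (a : ℤ) * y) y := fun x y => by
    have e1 : q * p * q⁻¹ = f ^ (a : ℤ) * p := by rw [zpow_natCast, ha]; group
    show q * (f ^ x * p ^ y) * q⁻¹ = _
    rw [show q * (f ^ x * p ^ y) * q⁻¹ = q * f ^ x * q⁻¹ * (q * p ^ y * q⁻¹) by group, (hqf.zpow_right x).eq,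
      mul_inv_cancel_right, ← conj_zpow, e1, ((hpf.symm).zpow_left (a : ℤ)).mul_zpow, ← zpow_mul]
    show f ^ x * (f ^ ((a : ℤ) * y) * p ^ y) = f ^ (x + (a : ℤ) * y) * p ^ y
    rw [zpow_add, mul_assoc]
  have hqiact : ∀ x y, q⁻¹ * v x y * q = v (x - (a : ℤ) * y) y := fun x y => by
    have := hqact (x - (a : ℤ) * y) y
    rw [sub_add_cancel] at this
    rw [← this]; group
  have hq'act : ∀ x y, q' * v x y * q'⁻¹ = v x (y + (b : ℤ) * x) := fun x y => by
    have hq'p : Commute q' p := ((S'.mem q').1 hq'O).1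
    have e1 : q' * f * q'⁻¹ = p ^ (b : ℤ) * f := by rw [zpow_natCast, hb]; group
    show q' * (f ^ x * p ^ y) * q'⁻¹ = _
    rw [show q' * (f ^ x * p ^ y) * q'⁻¹ = q' * f ^ x * q'⁻¹ * (q' * p ^ y * q'⁻¹) by group, (hq'p.zpow_right y).eq,
      mul_inv_cancel_right, ← conj_zpow, e1, (hpf.zpow_left (b : ℤ)).mul_zpow, ← zpow_mul]
    show p ^ ((b : ℤ) * x) * f ^ x * p ^ y = f ^ x * p ^ (y + (b : ℤ) * x)
    rw [((hpf.zpow_left ((b : ℤ) * x)).zpow_right x).eq, add_comm, zpow_add, mul_assoc]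
  have hpow : ∀ n : ℕ, ∀ x y, q ^ n * v x y * (q ^ n)⁻¹ = v (x + (a * n : ℕ) * y) y := by
    intro n
    induction n with
    | zero => intro x y; simp
    | succ n ih =>
      intro x y
      rw [show q ^ (n + 1) * v x y * (q ^ (n + 1))⁻¹ = q * (q ^ n * v x y * (q ^ n)⁻¹) * q⁻¹ by
        rw [pow_succ']; group, ih, hqact]
      congr 1
      push_cast; ring
  have hpow' : ∀ n : ℕ, ∀ x y, q' ^ n * v x y * (q' ^ n)⁻¹ = v x (y + (b * n : ℕ) * x) := by
    intro n
    induction n with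
    | zero => intro x y; simp
    | succ n ih =>
      intro x y
      rw [show q' ^ (n + 1) * v x y * (q' ^ (n + 1))⁻¹ = q' * (q' ^ n * v x y * (q' ^ n)⁻¹) * q'⁻¹ by
        rw [pow_succ']; group, ih, hq'act]
      congr 1
      push_cast; ring
  have hinv5 : ∀ c : ℕ, c % 5 ≠ 0 → ∃ m : ℕ, c * m % 5 = 1 := fun c hc => by
    have : c % 5 = 1 ∨ c % 5 = 2 ∨ c % 5 = 3 ∨ c % 5 = 4 := by omega
    rcases this with e | e | e | e
    · exact ⟨1, by omega⟩
    · exact ⟨3, by omega⟩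
    · exact ⟨2, by omega⟩
    · exact ⟨4, by omega⟩
  obtain ⟨m, hm⟩ := hinv5 a ha0
  obtain ⟨m', hm'⟩ := hinv5 b hb0
  set R := q ^ m with hR
  set L := q' ^ m' with hL
  have hRv : ∀ x y, R * v x y * R⁻¹ = v (x + y) y := fun x y => by
    rw [hR, hpow]
    obtain ⟨k, hk⟩ : ∃ k : ℕ, a * m = 1 + 5 * k := ⟨a * m / 5, by omega⟩
    rw [hk]; push_cast
    rw [show x + (1 + 5 * (k : ℤ)) * y = x + y + 5 * (k * y) by ring]
    have e := hred (x + y) y (k * y) 0
    rw [mul_zero, add_zero] at e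
    exact e
  have hLv : ∀ x y, L * v x y * L⁻¹ = v x (y + x) := fun x y => by
    rw [hL, hpow']
    obtain ⟨k, hk⟩ : ∃ k : ℕ, b * m' = 1 + 5 * k := ⟨b * m' / 5, by omega⟩
    rw [hk]; push_cast
    rw [show y + (1 + 5 * (k : ℤ)) * x = y + x + 5 * (k * x) by ring]
    have e := hred x (y + x) 0 (k * x)
    rw [mul_zero, add_zero] at e
    exact e
  have hLiv : ∀ x y, L⁻¹ * v x y * L = v x (y - x) := fun x y => by
    have := hLv x (y - x)
    rw [sub_add_cancel] at this
    rw [← this]; group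
  have hzf : z * f * z⁻¹ = f := by
    rw [inv_eq_of_mul_eq_one_right h.zz]; exact (invol_fix_iff h.zz f).2 hfz.symm
  have hzv : ∀ x y, z * v x y * z = v x (-y) := fun x y => by
    have hzi : z⁻¹ = z := inv_eq_of_mul_eq_one_right h.zz
    have e1 := conj_zpow_of_inverts (show z * p * z⁻¹ = p⁻¹ by rw [hzi]; exact hzp) y
    show z * (f ^ x * p ^ y) * z = f ^ x * p ^ (-y)
    rw [← e1, hzi]
    nth_rw 2 [← hzf]
    rw [conj_zpow, hzi]
    calc z * (f ^ x * p ^ y) * z = z * f ^ x * (z * z) * p ^ y * z := by rw [h.zz, mul_one]; group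
      _ = z * f ^ x * z * (z * p ^ y * z) := by group
  have huv : ∀ x y, u * v x y * u = v (-x) (-y) := fun x y => by
    have hti : t⁻¹ = t := inv_eq_of_mul_eq_one_right ht.1
    have e1 := conj_zpow_of_inverts (show t * f * t⁻¹ = f⁻¹ by rw [hti]; exact htf) x
    have e2 : t * p ^ (-y) * t = p ^ (-y) := (invol_fix_iff ht.1 _).2 ((show Commute p t from hpt).zpow_left (-y)).eq.symm
    have htz' : t * z = z * t := mem_centralizer_singleton_iff.1 htC
    rw [hudef, show t * z * v x y * (t * z) = t * (z * v x y * z) * t by nth_rw 2 [htz']; group, hzv]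
    show t * (f ^ x * p ^ (-y)) * t = f ^ (-x) * p ^ (-y)
    rw [invol_conj_mul_map ht.1, e2]
    rw [hti] at e1
    rw [e1]
  set i := z * (R * R * (L * L) * (R * R)) * (R * L⁻¹ * R) with hi
  have hiv : ∀ x y, i * v x y * i⁻¹ = v (3 * x) (3 * y) := fun x y => by
    rw [show i * v x y * i⁻¹ = z * (R * (R * (L * (L * (R * (R * (R * (L⁻¹ * (R * v x y * R⁻¹) * L) * R⁻¹) * R⁻¹) *
      R⁻¹) * L⁻¹) * L⁻¹) * R⁻¹) * R⁻¹) * z⁻¹ by rw [hi]; group, inv_eq_of_mul_eq_one_right h.zz]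
    simp only [hRv, hLv, hLiv, hzv]
    ring_nf
    have e := hred (3 * x) (3 * y) (-3 * x + y) (x - y)
    ring_nf at e
    exact e
  have hiu : Commute i u := by
    have hzu : Commute z u := by rw [hudef]; exact (show Commute z t from htz.symm).mul_right (Commute.refl z)
    have hRu : Commute R u := (show Commute q u from hqu).pow_left m
    have hLu : Commute L u := (show Commute q' u from hq'u).pow_left m'
    exact (hzu.mul_left (((hRu.mul_left hRu).mul_left (hLu.mul_left hLu)).mul_left (hRu.mul_left hRu))).mul_left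
      ((hRu.mul_left hLu.inv_left).mul_left hRu)
  have hv10 : v 1 0 = f := by show f ^ (1 : ℤ) * p ^ (0 : ℤ) = f; simp
  have hv01 : v 0 1 = p := by show f ^ (0 : ℤ) * p ^ (1 : ℤ) = p; simp
  have faith : ∀ c, c * u = u * c → c * f * c⁻¹ = f → c * p * c⁻¹ = p → c = 1 := by
    intro c hcu hcf hcp
    have hcf' : c ∈ centralizer ({f} : Set G) := mem_centralizer_singleton_iff.2 (mul_inv_eq_iff_eq_mul.1 hcf)
    by_contra hc1
    by_cases hcO : c ∈ O
    · have hm : c ∈ zpowers q := hgen ▸ (show c ∈ O ⊓ centralizer ({u} : Set G) from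
        ⟨hcO, mem_centralizer_singleton_iff.2 hcu⟩)
      have hco : orderOf c = 5 := orderOf_eq_prime (orderOf_dvd_iff_pow_eq_one.1
        (hq ▸ orderOf_dvd_of_mem_zpowers hm)) hc1
      have e2 : zpowers c = zpowers q := eq_of_le_of_card_ge (zpowers_le.2 hm) (by
        rw [Nat.card_zpowers, Nat.card_zpowers, hq, hco])
      obtain ⟨n, hn⟩ := mem_zpowers_iff.1 (e2.ge (mem_zpowers q))
      exact hne (by rw [← hn]; exact ((show Commute c p from mul_inv_eq_iff_eq_mul.1 hcp).zpow_left n).eq)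
    · have hzu : Commute z u := by rw [hudef]; exact (show Commute z t from htz.symm).mul_right (Commute.refl z)
      have hm : z * c ∈ zpowers q := hgen ▸ (show z * c ∈ O ⊓ centralizer ({u} : Set G) from
        ⟨S.half c hcf' hcO, mem_centralizer_singleton_iff.2 (hzu.mul_left (show Commute c u from hcu)).eq⟩)
      obtain ⟨n, hn⟩ := (isOfFinOrder_of_finite q).mem_powers_iff_mem_zpowers.2 hm
      have hn' : q ^ n = z * c := hn
      have e1 : q ^ n * v 0 1 * (q ^ n)⁻¹ = p⁻¹ := by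
        rw [hn', hv01, show z * c * p * (z * c)⁻¹ = z * (c * p * c⁻¹) * z⁻¹ by group, hcp,
          inv_eq_of_mul_eq_one_right h.zz, hzp]
      rw [hpow] at e1
      have e2 : f ^ (a * n) * (p * p) * 1 = 1 := by
        have e3 : f ^ ((0 : ℤ) + (a * n : ℕ) * 1) * p ^ (1 : ℤ) = p⁻¹ := e1
        rw [zero_add, mul_one, zpow_natCast, zpow_one] at e3
        rw [mul_one, ← mul_assoc, e3, inv_mul_cancel]
      have hpp := (S.uniq (a * n) (p * p) (mul_mem hpO hpO)
        ((show Commute p t from hpt).mul_left hpt).eq 1 (one_mem O) (by rw [one_mul, mul_one]) e2).2.1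
      have := eq_one_of_odd_of_mul_self (show Odd (orderOf p) by rw [hp]; decide) hpp
      rw [this, orderOf_one] at hp
      norm_num at hp
  have h31 : v 6 0 = f := by
    rw [← hv10]
    exact hred 1 0 1 0
  have hiq : q * i * q⁻¹ * i⁻¹ = 1 := by
    refine faith _ (((((show Commute q u from hqu).mul_left hiu).mul_left
      (show Commute q u from hqu).inv_left).mul_left hiu.inv_left)).eq ?_ ?_
    · have e1 : i * v 2 0 * i⁻¹ = f := by rw [hiv]; exact h31
      nth_rw 1 [← e1]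
      rw [show q * i * q⁻¹ * i⁻¹ * (i * v 2 0 * i⁻¹) * (q * i * q⁻¹ * i⁻¹)⁻¹ =
        q * (i * (q⁻¹ * v 2 0 * q) * i⁻¹) * q⁻¹ by group, hqiact, hiv, hqact,
        show 3 * (2 - (a : ℤ) * 0) + (a : ℤ) * (3 * 0) = 6 by ring, show (3 : ℤ) * 0 = 0 by ring]
      exact h31
    · have e0 : v 0 6 = p := by
        rw [← hv01]
        exact hred 0 1 0 1
      have e1 : i * v 0 2 * i⁻¹ = p := by rw [hiv]; exact e0
      nth_rw 1 [← e1]
      rw [show q * i * q⁻¹ * i⁻¹ * (i * v 0 2 * i⁻¹) * (q * i * q⁻¹ * i⁻¹)⁻¹ =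
        q * (i * (q⁻¹ * v 0 2 * q) * i⁻¹) * q⁻¹ by group, hqiact, hiv, hqact,
        show 3 * (0 - (a : ℤ) * 2) + (a : ℤ) * (3 * 2) = 0 by ring, show (3 : ℤ) * 2 = 6 by norm_num]
      exact e0
  have hii : i * i * u = 1 := by
    have key : ∀ x y, i * i * u * v x y * (i * i * u)⁻¹ = v (-9 * x) (-9 * y) := fun x y => by
      rw [show i * i * u * v x y * (i * i * u)⁻¹ = i * (i * (u * v x y * u⁻¹) * i⁻¹) * i⁻¹ by group,
        inv_eq_of_mul_eq_one_right hu.1, huv, hiv, hiv]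
      congr 1 <;> ring
    refine faith _ (((hiu.mul_left hiu).mul_left (Commute.refl u))).eq ?_ ?_
    · nth_rw 1 [← hv10]
      rw [key, ← hv10]
      exact hred 1 0 (-2) 0
    · nth_rw 1 [← hv01]
      rw [key, ← hv01]
      exact hred 0 1 0 (-2)
  have hi2 : i ^ 2 = u := by
    rw [pow_two, eq_inv_of_mul_eq_one_left hii, inv_eq_of_mul_eq_one_right hu.1]
  have hi4 : orderOf i = 4 := by
    rw [show (4 : ℕ) = 2 ^ (1 + 1) by norm_num]
    refine orderOf_eq_prime_pow (by rw [pow_one, hi2]; exact hu.2) ?_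
    rw [show (2 : ℕ) ^ (1 + 1) = 2 * 2 by norm_num, pow_mul, hi2, pow_two, hu.1]
  have hiq' : i * q = q * i := by
    calc i * q = (q * i * q⁻¹ * i⁻¹) * (i * q) := by rw [hiq, one_mul]
      _ = q * i := by group
  obtain ⟨g, hg⟩ := h.exists_conj hu
  have hu' : Small u (cj g Q) := hg ▸ h.conj g
  have h10 := hu'.card_five (g := q) (mem_centralizer_singleton_iff.2 hqu) hq
  have hd := orderOf_dvd_natCard (centralizer ({q} : Set G) ⊓ centralizer ({u} : Set G) : Subgroup G) (x := i)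
    ⟨mem_centralizer_singleton_iff.2 hiq', mem_centralizer_singleton_iff.2 hiu.eq⟩
  rw [h10, hi4] at hd
  norm_num at hd

/-- Not both inverters have fixed points in the odd part. -/
theorem not_both {f t : G} {O : Subgroup G} (hfC : f ∈ centralizer ({z} : Set G)) (hf : orderOf f = 5) (ht : IsI t)
    (htC : t ∈ centralizer ({z} : Set G)) (htf : t * f * t = f⁻¹) (S : Split z f t O)
    (ha : Nat.card (O ⊓ centralizer ({t} : Set G) : Subgroup G) = 5)
    (hb : Nat.card (O ⊓ centralizer ({t * z} : Set G) : Subgroup G) = 5) : False := by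
  classical
  haveI : Fact (Nat.Prime 5) := ⟨Nat.prime_five⟩
  obtain ⟨p, hpm, hp, hpgen⟩ := exists_gen_five ha
  obtain ⟨q, hqm, hq, hqgen⟩ := exists_gen_five hb
  have hpt : p * t = t * p := mem_centralizer_singleton_iff.1 hpm.2
  have hqu : q * (t * z) = t * z * q := mem_centralizer_singleton_iff.1 hqm.2
  have htz : t * z = z * t := mem_centralizer_singleton_iff.1 htC
  have hO : Nat.card O = 125 := by rw [S.card_O, ha, hb]
  have hcard : ∀ {w r : G}, IsI w → w ∈ centralizer ({z} : Set G) → r * w = w * r → orderOf r = 5 →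
      z * r * z = r⁻¹ → ∃ O', Split w r z O' ∧ Nat.card O' = 125 := by
    intro w r hw hwC hrw hr hzr
    obtain ⟨g, hg⟩ := h.exists_conj hw
    have hw' : Small w (cj g Q) := hg ▸ h.conj g
    obtain ⟨O', S'⟩ := hw'.five_split (t := z) (mem_centralizer_singleton_iff.2 hrw) hr h.isI
      (mem_centralizer_singleton_iff.2 (mem_centralizer_singleton_iff.1 hwC).symm) hzr
    refine ⟨O', S', ?_⟩
    have hr0 : g⁻¹ * r * g ∈ centralizer ({z} : Set G) := mem_centralizer_singleton_iff.2 (by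
      calc g⁻¹ * r * g * z = g⁻¹ * (r * (g * z * g⁻¹)) * g := by group
        _ = g⁻¹ * (g * z * g⁻¹ * r) * g := by rw [hg, hrw]
        _ = z * (g⁻¹ * r * g) := by group)
    have hr0o : orderOf (g⁻¹ * r * g) = 5 := by
      rw [show g⁻¹ * r * g = g⁻¹ * r * g⁻¹⁻¹ by group, ← MulAut.conj_apply, MulEquiv.orderOf_eq, hr]
    have e := h.card_five_cent hr0 hr0o hfC hf
    rw [show g⁻¹ * r * g = g⁻¹ * r * g⁻¹⁻¹ by group, JTwo.card_centralizer_conj, S'.card_cent, S.card_cent, hO] at e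
    omega
  obtain ⟨O', S', hO'⟩ := hcard ht htC hpt hp (S.inv_t p hpm.1 hpt)
  by_cases hne : q * p = p * q
  · have hfcen : ∀ a ∈ O, ∀ i : ℕ, Commute (f ^ i) a := fun a ha i =>
      ((show Commute a f from ((S.mem a).1 ha).1).symm).pow_left i
    have hform : ∀ a ∈ O, ∃ i : ℕ, ∃ k l : ℤ, a = f ^ i * p ^ k * q ^ l := fun a ha => by
      obtain ⟨i, p', hp', hp't, q', hq', hq'u, rfl⟩ := S.rep a ha
      obtain ⟨k, hk⟩ := mem_zpowers_iff.1 (hpgen ▸
        (show p' ∈ O ⊓ centralizer ({t} : Set G) from ⟨hp', mem_centralizer_singleton_iff.2 hp't⟩))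
      obtain ⟨l, hl⟩ := mem_zpowers_iff.1 (hqgen ▸
        (show q' ∈ O ⊓ centralizer ({t * z} : Set G) from ⟨hq', mem_centralizer_singleton_iff.2 hq'u⟩))
      exact ⟨i, k, l, by rw [hk, hl]⟩
    have hpq : Commute p q := (show q * p = p * q from hne).symm
    have hcomm : ∀ a ∈ O, Commute a f ∧ Commute a p ∧ Commute a q := fun a ha => by
      obtain ⟨i, k, l, rfl⟩ := hform a ha
      refine ⟨((S.mem _).1 ha).1, ?_, ?_⟩
      · exact (((hfcen p hpm.1 i)).mul_left ((Commute.refl p).zpow_left k)).mul_left (hpq.symm.zpow_left l)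
      · exact (((hfcen q hqm.1 i)).mul_left (hpq.zpow_left k)).mul_left ((Commute.refl q).zpow_left l)
    have hab : ∀ a ∈ O, ∀ b ∈ O, a * b = b * a := fun a ha b hb => by
      obtain ⟨i, k, l, rfl⟩ := hform b hb
      obtain ⟨c1, c2, c3⟩ := hcomm a ha
      exact (((c1.pow_right i).mul_right (c2.zpow_right k)).mul_right (c3.zpow_right l)).eq
    have he5 : ∀ a ∈ O, a ^ 5 = 1 := fun a ha => by
      obtain ⟨i, k, l, rfl⟩ := hform a ha
      have h5 : ∀ (x : G) (n : ℤ), orderOf x = 5 → (x ^ n) ^ 5 = 1 := fun x n hx => by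
        rw [← zpow_natCast, ← zpow_mul, mul_comm, zpow_mul, zpow_natCast, ← hx, pow_orderOf_eq_one, one_zpow]
      rw [((hfcen q hqm.1 i).zpow_right l).mul_left ((hpq.zpow_left k).zpow_right l) |>.mul_pow,
        ((hfcen p hpm.1 i).zpow_right k).mul_pow, h5 p k hp, h5 q l hq, ← pow_mul, mul_comm, pow_mul,
        show f ^ 5 = 1 from orderOf_dvd_iff_pow_eq_one.1 hf.dvd, one_pow, mul_one, mul_one]
    have hu : IsI (t * z) := by
      refine ⟨by rw [mul_assoc, ← mul_assoc z, ← htz, mul_assoc t z z, h.zz, mul_one, ht.1], fun e => ?_⟩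
      exact h.out_ne_z (h.out_of_inverts hfC hf ht htC htf)
        (by rw [eq_inv_of_mul_eq_one_left e, inv_eq_of_mul_eq_one_right h.zz])
    obtain ⟨O'', S'', hO''⟩ := hcard hu (mul_mem htC h.z_mem_C) hqu hq (S.inv_u q hqm.1 hqu)
    have e1 : O = O' := eq_of_le_of_card_ge (fun a ha => (S'.mem a).2 ⟨(hcomm a ha).2.1.eq, ((S.mem a).1 ha).2⟩)
      (by rw [hO, hO'])
    have e2 : O = O'' := eq_of_le_of_card_ge (fun a ha => (S''.mem a).2 ⟨(hcomm a ha).2.2.eq, ((S.mem a).1 ha).2⟩)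
      (by rw [hO, hO''])
    exact h.not_abelian hfC hf ht htC htf S hp hpm.1 hpt hq hqm.1 hqu (fun a => by rw [e1]; exact S'.mem a)
      (fun a => by rw [e2]; exact S''.mem a) hab he5
  · have hcu : Nat.card (O' ⊓ centralizer ({z * t} : Set G) : Subgroup G) = 5 := by
      have e := S'.card_O
      rw [hO'] at e
      have h1 := Nat.le_of_dvd (by norm_num) S'.dvd_t
      rcases (Nat.dvd_prime Nat.prime_five).1 S'.dvd_u with e1 | e1
      · rw [e1] at e; omega
      · exact e1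
    obtain ⟨q', hq'm, hq', -⟩ := exists_gen_five hcu
    exact h.not_nonabelian hfC hf ht htC htf S hp hpm.1 hpt hq hqm.1 hqu hqgen S' hq' hq'm.1
      (by rw [htz]; exact mem_centralizer_singleton_iff.1 hq'm.2) hne

/-- The centralizer of an element of order five has order ten or fifty; its inverted elements centralise an
involution. -/
theorem five_main {f : G} (hfC : f ∈ centralizer ({z} : Set G)) (hf : orderOf f = 5) :
    (Nat.card (centralizer ({f} : Set G)) = 10 ∨ Nat.card (centralizer ({f} : Set G)) = 50) ∧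
      Nat.card {x : G // IsInv z x ∧ x * f = f * x} * 10 + 10 = Nat.card (centralizer ({f} : Set G)) ∧
      ∀ x, IsInv z x → x * f = f * x → ∃ w, IsI w ∧ w ∈ centralizer ({z} : Set G) ∧ w * x = x * w := by
  classical
  obtain ⟨t, htO, htf⟩ := h.exists_inverter (Or.inr rfl) hfC hf
  have ht : IsI t := h.out_isI htO
  obtain ⟨O, S⟩ := h.five_split hfC hf ht htO.1 htf
  set a := Nat.card (O ⊓ centralizer ({t} : Set G) : Subgroup G) with ha
  set b := Nat.card (O ⊓ centralizer ({t * z} : Set G) : Subgroup G) with hb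
  have hab : ¬ (a = 5 ∧ b = 5) := fun e => h.not_both hfC hf ht htO.1 htf S e.1 e.2
  have ha' := (Nat.dvd_prime Nat.prime_five).1 S.dvd_t
  have hb' := (Nat.dvd_prime Nat.prime_five).1 S.dvd_u
  rw [← ha] at ha'
  rw [← hb] at hb'
  have hodd5 : Odd (orderOf f) := by rw [hf]; decide
  have hzf : z * f * z = f := (invol_fix_iff h.zz f).2 (mem_centralizer_singleton_iff.1 hfC).symm
  have hzfi : ∀ i : ℕ, z * f ^ i * z = f ^ i := fun i =>
    (invol_fix_iff h.zz _).2 ((show Commute z f from (mem_centralizer_singleton_iff.1 hfC).symm).pow_right i).eq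
  have hcomm : ∀ x ∈ O, ∀ i : ℕ, Commute (f ^ i) x := fun x hx i =>
    ((show Commute x f from ((S.mem x).1 hx).1).symm).pow_left i
  -- the inverted elements
  have hinv : ∀ x, x ∈ O → z * x * z = x⁻¹ →
      x ∈ O ⊓ centralizer ({t} : Set G) ∨ x ∈ O ⊓ centralizer ({t * z} : Set G) := by
    intro x hx hxi
    obtain ⟨i, p, hp, hpt, q, hq, hqu, rfl⟩ := S.rep x hx
    have hkill : ∀ r ∈ O, z * r * z = r⁻¹ → z * (f ^ i * r) * z = (f ^ i * r)⁻¹ → f ^ i = 1 := fun r hr hri e => by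
      rw [invol_conj_mul_map h.zz, hzfi, hri, _root_.mul_inv_rev, ((hcomm r hr i).inv_inv.symm).eq] at e
      refine eq_one_of_odd_of_mul_self (hodd5.of_dvd_nat (orderOf_pow_dvd i)) ?_
      nth_rw 1 [mul_right_cancel e]
      exact inv_mul_cancel _
    rcases ha' with e | e
    · have hp1 : p = 1 := mem_bot.1 ((card_eq_one.1 e) ▸
        (show p ∈ O ⊓ centralizer ({t} : Set G) from ⟨hp, mem_centralizer_singleton_iff.2 hpt⟩))
      rw [hp1, mul_one] at hxi ⊢
      rw [hkill q hq (S.inv_u q hq hqu) hxi, one_mul]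
      exact Or.inr ⟨hq, mem_centralizer_singleton_iff.2 hqu⟩
    · have hb1 : b = 1 := hb'.resolve_right fun e' => hab ⟨e, e'⟩
      have hq1 : q = 1 := mem_bot.1 ((card_eq_one.1 hb1) ▸
        (show q ∈ O ⊓ centralizer ({t * z} : Set G) from ⟨hq, mem_centralizer_singleton_iff.2 hqu⟩))
      rw [hq1, mul_one] at hxi ⊢
      rw [hkill p hp (S.inv_t p hp hpt) hxi, one_mul]
      exact Or.inl ⟨hp, mem_centralizer_singleton_iff.2 hpt⟩
  have hOof : ∀ x, IsInv z x → x * f = f * x → x ∈ O := fun x hx hxf => (S.mem x).2 ⟨hxf, hx.2.1⟩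
  refine ⟨?_, ?_, fun x hx hxf => ?_⟩
  · rw [S.card_cent, S.card_O, ← ha, ← hb]
    rcases ha' with e | e <;> rcases hb' with e' | e' <;> rw [e, e'] <;> norm_num
    exact hab ⟨e, e'⟩
  · have hcount : Nat.card {x : G // IsInv z x ∧ x * f = f * x} + 1 = a * b := by
      have hodd : ∀ x ∈ O, Odd (orderOf x) := fun x hx => ((S.mem x).1 hx).2
      rcases ha' with e | e
      · rw [e, one_mul, hb, ← Finite.card_option]
        refine Nat.card_eq_of_bijective (fun o : Option {x : G // IsInv z x ∧ x * f = f * x} => o.elim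
          (1 : (O ⊓ centralizer ({t * z} : Set G) : Subgroup G)) fun x => ⟨x.1, ?_⟩) ⟨?_, fun y => ?_⟩
        · refine (hinv x.1 (hOof x.1 x.2.1 x.2.2) x.2.1.2.2).resolve_left fun hm => x.2.1.1 ?_
          exact mem_bot.1 ((card_eq_one.1 e) ▸ hm)
        · rintro (_ | u) (_ | v) e1
          · rfl
          · exact absurd (congrArg Subtype.val e1).symm v.2.1.1
          · exact absurd (congrArg Subtype.val e1) u.2.1.1
          · exact congrArg some (Subtype.ext (congrArg Subtype.val e1 :))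
        · by_cases h1 : y = 1
          · exact ⟨none, h1.symm⟩
          · exact ⟨some ⟨y.1, ⟨fun e1 => h1 (Subtype.ext e1), hodd _ y.2.1,
              S.inv_u _ y.2.1 (mem_centralizer_singleton_iff.1 y.2.2)⟩, ((S.mem _).1 y.2.1).1⟩, rfl⟩
      · have hb1 : b = 1 := hb'.resolve_right fun e' => hab ⟨e, e'⟩
        rw [hb1, mul_one, ha, ← Finite.card_option]
        refine Nat.card_eq_of_bijective (fun o : Option {x : G // IsInv z x ∧ x * f = f * x} => o.elim
          (1 : (O ⊓ centralizer ({t} : Set G) : Subgroup G)) fun x => ⟨x.1, ?_⟩) ⟨?_, fun y => ?_⟩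
        · refine (hinv x.1 (hOof x.1 x.2.1 x.2.2) x.2.1.2.2).resolve_right fun hm => x.2.1.1 ?_
          exact mem_bot.1 ((card_eq_one.1 hb1) ▸ hm)
        · rintro (_ | u) (_ | v) e1
          · rfl
          · exact absurd (congrArg Subtype.val e1).symm v.2.1.1
          · exact absurd (congrArg Subtype.val e1) u.2.1.1
          · exact congrArg some (Subtype.ext (congrArg Subtype.val e1 :))
        · by_cases h1 : y = 1
          · exact ⟨none, h1.symm⟩
          · exact ⟨some ⟨y.1, ⟨fun e1 => h1 (Subtype.ext e1), hodd _ y.2.1,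
              S.inv_t _ y.2.1 (mem_centralizer_singleton_iff.1 y.2.2)⟩, ((S.mem _).1 y.2.1).1⟩, rfl⟩
    rw [S.card_cent, S.card_O, ← ha, ← hb, mul_assoc 5, ← hcount]
    ring
  · have hu : IsI (t * z) := by
      have htz : t * z = z * t := mem_centralizer_singleton_iff.1 htO.1
      refine ⟨by rw [mul_assoc, ← mul_assoc z, ← htz, mul_assoc t z z, h.zz, mul_one, ht.1], fun e => ?_⟩
      exact h.out_ne_z htO (by rw [eq_inv_of_mul_eq_one_left e, inv_eq_of_mul_eq_one_right h.zz])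
    rcases hinv x (hOof x hx hxf) hx.2.2 with hm | hm
    · exact ⟨t, ht, htO.1, (mem_centralizer_singleton_iff.1 hm.2).symm⟩
    · exact ⟨t * z, hu, mul_mem htO.1 h.z_mem_C, (mem_centralizer_singleton_iff.1 hm.2).symm⟩

end Small

end CfsgLib.Invol.JThreeType
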