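import Cfsg.Agent.Lib.Invol.JThreeType.Main

/-!
# The normalizer of a Sylow subgroup of prime order
-/

set_option autoImplicit false

namespace CfsgLib.Invol.JThreeType

open Subgroup

variable {G : Type*} [Group G] [Finite G] {p : ℕ} [hp : Fact p.Prime]

theorem sylow_card_prime (P : Sylow p G) {m : ℕ} (hG : Nat.card G = p * m) (hm : ¬ p ∣ m) : Nat.card P = p := by
  have hm0 : m ≠ 0 := fun e => hm (e ▸ dvd_zero p)
  rw [P.card_eq_multiplicity, hG, Nat.factorization_mul hp.out.ne_zero hm0, Finsupp.add_apply,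
    Nat.factorization_eq_zero_of_not_dvd hm, add_zero, hp.out.factorization_self, pow_one]

theorem prime_zpowers {K : Subgroup G} (hK : Nat.card K = p) {x : G} (hx : x ∈ K) (hx1 : x ≠ 1) :
    zpowers x = K := by
  refine eq_of_le_of_card_ge (zpowers_le.2 hx) ?_
  rw [hK, Nat.card_zpowers]
  exact Nat.le_of_dvd (orderOf_pos x) (((Nat.dvd_prime hp.out).1 (hK ▸ orderOf_dvd_natCard K hx)).resolve_left
    (fun e => hx1 (orderOf_eq_one_iff.1 e))).symm.dvd

theorem centralizer_zpowers_eq (x : G) : centralizer (zpowers x : Set G) = centralizer ({x} : Set G) := by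
  refine le_antisymm (centralizer_le (Set.singleton_subset_iff.2 (mem_zpowers x))) fun c hc => ?_
  rintro _ ⟨k, rfl⟩
  exact ((show Commute c x from mem_centralizer_singleton_iff.1 hc).zpow_right k).eq.symm

theorem exists_gen {K : Subgroup G} (hK : Nat.card K = p) :
    ∃ x : G, orderOf x = p ∧ zpowers x = K ∧ centralizer (K : Set G) = centralizer ({x} : Set G) := by
  obtain ⟨x, hx⟩ := exists_prime_orderOf_dvd_card' (G := K) p (by rw [hK])
  rw [← Subgroup.orderOf_coe] at hx
  have hx1 : (x : G) ≠ 1 := fun e => by rw [e, orderOf_one] at hx; exact hp.out.one_lt.ne hx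
  have e := prime_zpowers hK x.2 hx1
  refine ⟨x, hx, e, ?_⟩
  exact (congrArg (fun L : Subgroup G => centralizer (L : Set G)) e).symm.trans (centralizer_zpowers_eq _)

/-- The action of the normalizer. -/
theorem norm_data {K : Subgroup G} (hK : Nat.card K = p) :
    IsCyclic K.normalizerMonoidHom.range ∧ Nat.card K.normalizerMonoidHom.range ∣ p - 1 ∧
      Nat.card (normalizer (K : Set G)) =
        Nat.card (centralizer (K : Set G)) * Nat.card K.normalizerMonoidHom.range := by
  haveI : IsCyclic K := isCyclic_of_prime_card hK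
  haveI : IsCyclic (MulAut K) := by
    haveI : Fact (Nat.card K).Prime := ⟨by rw [hK]; exact hp.out⟩
    exact isCyclic_of_surjective (IsCyclic.mulAutMulEquiv K).symm.toMonoidHom
      (IsCyclic.mulAutMulEquiv K).symm.surjective
  haveI : Finite (MulAut K) := Finite.of_injective (fun f : MulAut K => (f : K → K)) DFunLike.coe_injective
  refine ⟨inferInstance, ?_, ?_⟩
  · have e := card_subgroup_dvd_card K.normalizerMonoidHom.range
    rwa [IsCyclic.card_mulAut, hK, Nat.totient_prime hp.out] at e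
  · rw [← Subgroup.index_ker, ← K.normalizerMonoidHom.ker.card_mul_index, normalizerMonoidHom_ker,
      Nat.card_congr (subgroupOfEquivOfLe (Subgroup.centralizer_le_normalizer _)).toEquiv]

/-- The quotient of a self-centralising normalizer. -/
theorem quot_data {K : Subgroup G} (hK : Nat.card K = p) (hC : centralizer (K : Set G) = K) :
    ∃ _h : (K.subgroupOf (normalizer (K : Set G))).Normal,
      IsCyclic (↥(normalizer (K : Set G)) ⧸ K.subgroupOf _) ∧
      Nat.card (↥(normalizer (K : Set G)) ⧸ K.subgroupOf _) = Nat.card K.normalizerMonoidHom.range := by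
  haveI hn : (K.subgroupOf (normalizer (K : Set G))).Normal := Subgroup.normal_in_normalizer
  have hker : K.normalizerMonoidHom.ker = K.subgroupOf (normalizer (K : Set G)) := by
    rw [normalizerMonoidHom_ker, hC]
  let eq := (QuotientGroup.quotientMulEquivOfEq hker.symm).trans
    (QuotientGroup.quotientKerEquivRange K.normalizerMonoidHom)
  obtain ⟨hcy, -, -⟩ := norm_data hK
  exact ⟨hn, isCyclic_of_surjective eq.symm.toMonoidHom eq.symm.surjective, Nat.card_congr eq.toEquiv⟩

/-- An involution inverting the generator. -/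
theorem exists_inverting {x : G} (hx : orderOf x = p) (hp2 : p ≠ 2)
    (h2 : 2 ∣ Nat.card (zpowers x).normalizerMonoidHom.range)
    (hodd : Odd (Nat.card (centralizer ({x} : Set G)))) :
    ∃ w, w * w = 1 ∧ w * x * w = x⁻¹ := by
  haveI : Fact (Nat.Prime 2) := ⟨Nat.prime_two⟩
  obtain ⟨⟨σ, g, hg⟩, hσ⟩ := exists_prime_orderOf_dvd_card' (G := (zpowers x).normalizerMonoidHom.range) 2 h2
  rw [← Subgroup.orderOf_coe] at hσ
  have hσ' : orderOf ((zpowers x).normalizerMonoidHom g) = 2 := by rw [hg]; exact hσ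
  have hker : ∀ n : normalizer (zpowers x : Set G), (zpowers x).normalizerMonoidHom n = 1 ↔
      (n : G) ∈ centralizer ({x} : Set G) := fun n => by
    rw [← MonoidHom.mem_ker, normalizerMonoidHom_ker, mem_subgroupOf, centralizer_zpowers_eq]
  have hg2 : (g : G) * g ∈ centralizer ({x} : Set G) := by
    refine (hker (g * g)).1 ?_
    rw [map_mul, ← pow_two, ← hσ']
    exact pow_orderOf_eq_one _
  have hgn : (g : G) ∉ centralizer ({x} : Set G) := fun hm => by
    rw [(hker g).2 hm, orderOf_one] at hσ'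
    norm_num at hσ'
  obtain ⟨c, hc⟩ := hodd
  set w := (g : G) ^ (2 * c + 1) with hw
  have hwn : w ∈ normalizer (zpowers x : Set G) := pow_mem g.2 _
  have hww : w * w = 1 := by
    rw [hw, ← pow_add, ← two_mul, pow_mul, pow_two]
    have := pow_card_eq_one' (G := centralizer ({x} : Set G)) (x := ⟨_, hg2⟩)
    rw [hc] at this
    exact congrArg Subtype.val this
  have hwC : w ∉ centralizer ({x} : Set G) := fun hm => hgn (by
    have h1 : w = ((g : G) * g) ^ c * g := by rw [hw, pow_succ, pow_mul, pow_two]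
    have := mul_mem (inv_mem (pow_mem hg2 c)) hm
    rwa [h1, inv_mul_cancel_left] at this)
  obtain ⟨i, hi⟩ := mem_zpowers_iff.1 ((mem_normalizer_iff.1 hwn x).1 (mem_zpowers x))
  have hwi : w⁻¹ = w := inv_eq_of_mul_eq_one_right hww
  rw [hwi] at hi
  refine ⟨w, hww, ?_⟩
  have hii : x ^ (i * i - 1) = 1 := by
    rw [zpow_sub, zpow_one, zpow_mul, hi]
    have : (w * x * w) ^ i = x := by
      calc (w * x * w) ^ i = (w * x * w⁻¹) ^ i := by rw [hwi]
        _ = w * x ^ i * w⁻¹ := conj_zpow
        _ = w * (w * x * w) * w⁻¹ := by rw [hi]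
        _ = x := by rw [hwi, ← mul_assoc, ← mul_assoc, hww, one_mul, mul_assoc, hww, mul_one]
    rw [this, mul_inv_cancel]
  rw [← orderOf_dvd_iff_zpow_eq_one, hx, show i * i - 1 = (i - 1) * (i + 1) by ring] at hii
  rcases (Nat.prime_iff_prime_int.1 hp.out).dvd_or_dvd hii with hd | hd <;>
    rw [← hx, orderOf_dvd_iff_zpow_eq_one] at hd
  · rw [zpow_sub, zpow_one, mul_inv_eq_one, hi] at hd
    refine absurd (mem_centralizer_singleton_iff.2 ?_) hwC
    calc w * x = w * x * w * w := by rw [mul_assoc (w * x), hww, mul_one]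
      _ = x * w := by rw [hd]
  · rw [zpow_add, zpow_one, hi] at hd
    exact eq_inv_of_mul_eq_one_left hd

/-- The order of the generator of the action divides the order of an element. -/
theorem exists_orderOf_dvd {K : Subgroup G} (hK : Nat.card K = p) :
    ∃ g : G, Nat.card K.normalizerMonoidHom.range ∣ orderOf g := by
  obtain ⟨hcy, -, -⟩ := norm_data hK
  obtain ⟨⟨s, g, rfl⟩, hs⟩ := hcy.exists_generator
  refine ⟨g, ?_⟩
  rw [← orderOf_eq_card_of_forall_mem_zpowers hs, ← Subgroup.orderOf_coe]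
  exact (orderOf_map_dvd _ g).trans (Subgroup.orderOf_coe g).symm.dvd

/-- A subgroup with a single subgroup of order `p`. -/
theorem unique_in {K : Subgroup G} {m : ℕ} (hK : Nat.card K ∣ p * m) (hm : ¬ p ∣ m) {x y : G} (hxK : x ∈ K)
    (hx : orderOf x = p) (hyK : y ∈ K) (hxy : y * x = x * y) (hy : ¬ p ∣ orderOf y)
    (hn : ∀ n, orderOf y * n ∣ m → n % p = 1 → n = 1) :
    ∀ a ∈ K, orderOf a = p → a ∈ zpowers x := by
  obtain ⟨S, hS⟩ := (IsPGroup.of_card (p := p) (n := 1) (G := zpowers (⟨x, hxK⟩ : K))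
    (by rw [Nat.card_zpowers, Subgroup.orderOf_mk, hx, pow_one])).exists_le_sylow
  have hxS : (⟨x, hxK⟩ : K) ∈ (S : Subgroup K) := hS (mem_zpowers _)
  have hScard : Nat.card S = p := by
    obtain ⟨k, hk⟩ := IsPGroup.iff_card.1 S.isPGroup'
    have h1 : p ∣ Nat.card S := by
      have := orderOf_dvd_natCard (S : Subgroup K) hxS
      rwa [Subgroup.orderOf_mk, hx] at this
    have h2 : Nat.card S ∣ p * m := (card_subgroup_dvd_card _).trans hK
    rw [hk] at h1 h2 ⊢
    rcases k with _ | _ | k
    · exact absurd h1 (by rw [pow_zero]; exact fun e => hp.out.one_lt.ne' (Nat.dvd_one.1 e))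
    · rw [zero_add, pow_one]
    · exact absurd (Nat.dvd_of_mul_dvd_mul_left hp.out.pos
        (show p * p ∣ p * m from Dvd.dvd.trans ⟨p ^ k, by ring⟩ h2)) hm
  have hSx : zpowers (⟨x, hxK⟩ : K) = S := eq_of_le_of_card_ge hS (by
    rw [hScard, Nat.card_zpowers, Subgroup.orderOf_mk, hx])
  have hyN : (⟨y, hyK⟩ : K) ∈ normalizer ((S : Subgroup K) : Set K) := by
    refine Subgroup.centralizer_le_normalizer _ ?_
    rw [← hSx, centralizer_zpowers_eq]
    exact mem_centralizer_singleton_iff.2 (Subtype.ext hxy)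
  set N := normalizer ((S : Subgroup K) : Set K) with hNdef
  have h1 : orderOf y ∣ Nat.card N := by
    have := orderOf_dvd_natCard N hyN
    rwa [Subgroup.orderOf_mk] at this
  have h2 : p ∣ Nat.card N := hScard ▸ card_dvd_of_le le_normalizer
  have h3 : p * orderOf y ∣ Nat.card N :=
    Nat.Coprime.mul_dvd_of_dvd_of_dvd (hp.out.coprime_iff_not_dvd.2 hy) h2 h1
  have h4 : Nat.card N * Nat.card (Sylow p K) ∣ p * m := by
    rw [show Nat.card (Sylow p K) = N.index from S.card_eq_index_normalizer, N.card_mul_index]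
    exact hK
  have h5 : orderOf y * Nat.card (Sylow p K) ∣ m := Nat.dvd_of_mul_dvd_mul_left hp.out.pos (by
    rw [← mul_assoc]
    exact (mul_dvd_mul_right h3 _).trans h4)
  have h6 : Nat.card (Sylow p K) % p = 1 := by
    have := card_sylow_modEq_one p K
    rwa [Nat.ModEq, Nat.one_mod_eq_one.2 hp.out.one_lt.ne'] at this
  haveI := (Nat.card_eq_one_iff_unique.1 (hn _ h5 h6)).1
  intro a haK ha
  obtain ⟨T, hT⟩ := (IsPGroup.of_card (p := p) (n := 1) (G := zpowers (⟨a, haK⟩ : K))
    (by rw [Nat.card_zpowers, Subgroup.orderOf_mk, ha, pow_one])).exists_le_sylow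
  have h7 : (⟨a, haK⟩ : K) ∈ (S : Subgroup K) := by
    rw [Subsingleton.elim S T]; exact hT (mem_zpowers _)
  rw [← hSx] at h7
  obtain ⟨k, hk⟩ := mem_zpowers_iff.1 h7
  exact mem_zpowers_iff.2 ⟨k, congrArg Subtype.val hk⟩

end CfsgLib.Invol.JThreeType
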